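import Cfsg.Agent.BlockBasic.Orth

/-!
# First consequences: defect classes, independence of `M`, blocks of defect zero
-/

open scoped ComplexConjugate
open MonoidAlgebra

namespace Cfsg.Agent.BlockBasic

open CharBasic

universe u

variable {G : Type u} [Group G] [Finite G] {p : ℕ} {M : Ideal AlgInt}

lemma isIntegral_apply (χ : IrrCharacter G) (g : G) : IsIntegral ℤ ((χ : G → ℂ) g) := by
  obtain ⟨n, ρ, hρ, he⟩ := χ.2
  rw [← he]
  exact isIntegral_character ρ g

lemma isIntegral_conj_apply (χ : IrrCharacter G) (g : G) :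
    IsIntegral ℤ (conj ((χ : G → ℂ) g)) := by
  obtain ⟨n, ρ, hρ, he⟩ := χ.2
  rw [← he, ← character_inv]
  exact isIntegral_character ρ _

lemma conj_apply_eq_inv (χ : IrrCharacter G) (g : G) :
    conj ((χ : G → ℂ) g) = (χ : G → ℂ) g⁻¹ := by
  obtain ⟨n, ρ, hρ, he⟩ := χ.2
  rw [← he, character_inv]

/-- The degree as a natural number. -/
lemma apply_one_eq_charDegree (χ : IrrCharacter G) :
    (χ : G → ℂ) 1 = (charDegree (χ : G → ℂ) : ℂ) := by
  cases nonempty_fintype G
  obtain ⟨n, ρ, hρ, he⟩ := χ.2
  rw [← he, charDegree, Representation.char_one]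
  simp

lemma charDegree_pos (χ : IrrCharacter G) : 0 < charDegree (χ : G → ℂ) := by
  cases nonempty_fintype G
  exact Nat.pos_of_ne_zero fun h =>
    irr_one_ne_zero χ.2 (by rw [apply_one_eq_charDegree, h, Nat.cast_zero])

/-- The degree of an irreducible character divides the group order. -/
lemma charDegree_dvd (χ : IrrCharacter G) : charDegree (χ : G → ℂ) ∣ Nat.card G := by
  cases nonempty_fintype G
  haveI : Finite (ConjClasses G) := Finite.of_surjective _ ConjClasses.mk_surjective
  haveI : Fintype (ConjClasses G) := Fintype.ofFinite _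
  let z : MonoidAlgebra ℂ G := ofFun fun g => conj ((χ : G → ℂ) g)
  have hz : IsCentralElt z := isCentralElt_ofFun fun g h => by
    rw [IsIrr.isClassFunction χ.2 g h]
  have hint : IsIntegral ℤ (omega (χ : G → ℂ) z) := by
    rw [omega_eq_sum_classes (IsIrr.isClassFunction χ.2) hz]
    refine IsIntegral.sum _ fun C _ => IsIntegral.mul ?_ (isIntegral_centralChar χ.2 _)
    rw [coeff_ofFun]
    exact isIntegral_conj_apply χ _
  have h1 := classInner_irr_self χ.2
  rw [classInner_def, inv_mul_eq_iff_eq_mul₀ (Nat.cast_ne_zero.2 Nat.card_pos.ne'), mul_one] at h1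
  have hω : omega (χ : G → ℂ) z =
      ((Nat.card G : ℤ) : ℂ) / ((charDegree (χ : G → ℂ) : ℤ) : ℂ) := by
    rw [omega, chiLin, apply_one_eq_charDegree]
    push_cast
    rw [← h1]
    congr 1
    exact Finset.sum_congr rfl fun g _ => by rw [coeff_ofFun, mul_comm]
  rw [hω] at hint
  exact_mod_cast dvd_of_isIntegral_div (by exact_mod_cast (charDegree_pos χ).ne') hint

variable [hp : Fact p.Prime]

/-- Every block has a defect class. -/
theorem exists_isDefectClass (hM : IsPModular p M) {B : Set (IrrCharacter G)} (hB : IsPBlock M B) :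
    ∃ g : G, IsDefectClass M B g := by
  classical
  cases nonempty_fintype G
  haveI : Finite (ConjClasses G) := Finite.of_surjective _ ConjClasses.mk_surjective
  haveI : Fintype (ConjClasses G) := Fintype.ofFinite _
  obtain ⟨χ, hχ⟩ := isPBlock_nonempty hM hB
  have h1 := omega_blockElem B χ
  rw [if_pos hχ, omega_eq_sum_classes (IsIrr.isClassFunction χ.2) (isCentralElt_blockElem B)] at h1
  obtain ⟨C, -, hC⟩ : ∃ C ∈ (Finset.univ : Finset (ConjClasses G)),
      ¬ MemLocalIdeal M ((blockElem B).coeff C.out * centralChar (χ : G → ℂ) C.out) := by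
    by_contra h
    push Not at h
    exact not_memLocalIdeal_one hM (h1 ▸ memLocalIdeal_sum hM _ _ h)
  rw [coeff_blockElem, memLocalIdeal_mul_iff hM (memLocalRing_blockCoeff hM hB _)
    (memLocalRing_centralChar hM χ.2 _), not_or] at hC
  refine ⟨C.out, memLocalRing_blockCoeff hM hB _, hC.1, fun ψ hψ hmem => hC.2 ?_⟩
  simpa using memLocalIdeal_add hM (isPBlock_sameBlock hM hB hχ hψ C.out) hmem

/-- The idempotent coefficients of a block are local integers at every modular ideal. -/
theorem memLocalRing_blockCoeff_other (hM : IsPModular p M) {B : Set (IrrCharacter G)}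
    (hB : IsPBlock M B) {M' : Ideal AlgInt} (hM' : IsPModular p M') (g : G) :
    MemLocalRing M' (blockCoeff B g) := by
  classical
  by_cases hg : p ∣ orderOf g
  · rw [blockCoeff_eq_zero_of_singular hM hB hg]
    exact (locRing hM').zero_mem
  obtain ⟨r, hr, he⟩ := exists_mul_of_vanish (p := p)
    (fun χ : IrrCharacter G => if χ ∈ B then conj ((χ : G → ℂ) g) else 0)
    (locRing hM' : Set ℂ) (locRing hM').zero_mem (fun a ha b hb => (locRing hM').add_mem ha hb)
    (fun n a ha => (locRing hM').mul_mem ha (natCast_mem _ n))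
    (fun χ => by
      split_ifs
      · exact memLocalRing_of_isIntegral hM' (isIntegral_conj_apply χ g)
      · exact (locRing hM').zero_mem)
    (fun x hx ⟨k, hk⟩ => by
      have hd : p ∣ orderOf x := by
        rcases k with _ | k
        · exact absurd (orderOf_eq_one_iff.1 (by simpa using hk)) hx
        · exact hk ▸ dvd_pow_self p k.succ_ne_zero
      have := blockKernel_eq_zero_of_regular_of_singular hM hB hg hd
      rw [← conj_blockKernel, map_eq_zero, blockKernel, finsum_mem_eq_sum_ite] at this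
      refine Eq.trans (Finset.sum_congr rfl fun χ _ => ?_) this
      split_ifs <;> ring)
  set a := (Nat.card G).factorization p
  have hm : ¬ p ∣ Nat.card G / p ^ a := Nat.not_dvd_ordCompl hp.out Nat.card_pos.ne'
  have hcard : (Nat.card G : ℂ) = ((p ^ a : ℕ) : ℂ) * ((Nat.card G / p ^ a : ℕ) : ℂ) := by
    rw [← Nat.cast_mul, Nat.ordProj_mul_ordCompl_eq_self]
  have : blockCoeff B g = ((Nat.card G / p ^ a : ℕ) : ℂ)⁻¹ * r := by
    rw [blockCoeff, finsum_mem_eq_sum_ite, show (∑ χ : IrrCharacter G, if χ ∈ B then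
      (χ : G → ℂ) 1 * conj ((χ : G → ℂ) g) else 0) = ∑ χ : IrrCharacter G,
        (if χ ∈ B then conj ((χ : G → ℂ) g) else 0) * (χ : G → ℂ) 1 from
        Finset.sum_congr rfl fun χ _ => by split_ifs <;> ring, he, hcard, mul_inv_rev, mul_assoc,
      inv_mul_cancel_left₀ (Nat.cast_ne_zero.2 (pow_ne_zero _ hp.out.ne_zero))]
  rw [this]
  exact memLocalRing_mul hM' (memLocalRing_natCast_inv hM' hm) hr

/-- Blocks do not depend on the modular ideal. -/
theorem blockOf_eq_blockOf (hM : IsPModular p M) {M' : Ideal AlgInt} (hM' : IsPModular p M')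
    (χ : IrrCharacter G) : blockOf M (χ : G → ℂ) = blockOf M' (χ : G → ℂ) := by
  cases nonempty_fintype G
  exact Set.Subset.antisymm
    (blockOf_subset hM (memLocalRing_blockCoeff_other hM' (isPBlock_blockOf M' χ) hM)
      (self_mem_blockOf hM' χ))
    (blockOf_subset hM' (memLocalRing_blockCoeff_other hM (isPBlock_blockOf M χ) hM')
      (self_mem_blockOf hM χ))

/-- Blocks of defect zero. -/
theorem blockOf_eq_singleton_iff (hM : IsPModular p M) (χ : IrrCharacter G) :
    blockOf M (χ : G → ℂ) = {χ} ↔ ¬ p ∣ Nat.card G / charDegree (χ : G → ℂ) := by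
  classical
  cases nonempty_fintype G
  set d := charDegree (χ : G → ℂ) with hd
  have hd0 : (d : ℂ) ≠ 0 := Nat.cast_ne_zero.2 (charDegree_pos χ).ne'
  obtain ⟨q, hq⟩ := charDegree_dvd χ
  rw [← hd] at hq
  have hqd : Nat.card G / d = q := by rw [hq, Nat.mul_div_cancel_left _ (charDegree_pos χ)]
  have hq0 : q ≠ 0 := by rintro rfl; exact Nat.card_pos.ne' (hq.trans (mul_zero d))
  rw [hqd]
  constructor
  · intro hB hpq
    set B := blockOf M (χ : G → ℂ) with hBdef
    obtain ⟨r, ⟨n, rfl⟩, he⟩ := exists_mul_of_vanish (p := p)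
      (fun ψ : IrrCharacter G => if ψ = χ then (1 : ℂ) else 0)
      (Set.range (Nat.cast : ℕ → ℂ)) ⟨0, Nat.cast_zero⟩
      (by rintro _ ⟨a, rfl⟩ _ ⟨b, rfl⟩; exact ⟨a + b, Nat.cast_add a b⟩)
      (by rintro n _ ⟨a, rfl⟩; exact ⟨a * n, Nat.cast_mul a n⟩)
      (fun ψ => by split_ifs <;> [exact ⟨1, Nat.cast_one⟩; exact ⟨0, Nat.cast_zero⟩])
      (fun x hx ⟨k, hk⟩ => by
        have hdx : p ∣ orderOf x := by
          rcases k with _ | k
          · exact absurd (orderOf_eq_one_iff.1 (by simpa using hk)) hx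
          · exact hk ▸ dvd_pow_self p k.succ_ne_zero
        have := blockKernel_eq_zero_of_regular_of_singular hM (isPBlock_blockOf M χ)
          (g := (1 : G)) (by rw [orderOf_one, Nat.dvd_one]; exact hp.out.ne_one) hdx
        rw [blockKernel, ← hBdef, hB, finsum_mem_singleton, mul_eq_zero, map_eq_zero] at this
        simp [this.resolve_left (irr_one_ne_zero χ.2)])
    simp only [ite_mul, one_mul, zero_mul, Finset.sum_ite_eq', Finset.mem_univ, if_true,
      apply_one_eq_charDegree, ← hd] at he
    have he' : d = p ^ (Nat.card G).factorization p * n := by exact_mod_cast he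
    refine Nat.not_dvd_ordCompl hp.out (Nat.card_pos (α := G)).ne' ?_
    have h2 : Nat.card G / p ^ (Nat.card G).factorization p = n * q :=
      Nat.div_eq_of_eq_mul_right (pow_pos hp.out.pos _) ((hq.trans (congrArg (· * q) he')).trans (mul_assoc _ _ _)) 
    rw [h2]
    exact hpq.mul_left n
  · intro hpq
    refine Set.Subset.antisymm (blockOf_subset hM (fun g => ?_) rfl) ?_
    · rw [blockCoeff, finsum_mem_singleton, apply_one_eq_charDegree, ← hd, hq, Nat.cast_mul,
        mul_inv_rev, mul_assoc, inv_mul_cancel_left₀ hd0]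
      exact memLocalRing_mul hM (memLocalRing_natCast_inv hM hpq)
        (memLocalRing_of_isIntegral hM (isIntegral_conj_apply χ g))
    · exact Set.singleton_subset_iff.2 (self_mem_blockOf hM χ)

end Cfsg.Agent.BlockBasic
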