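import Cfsg.Agent.BlockBasic.Basic
import Cfsg.Agent.H35.MinMax
import Cfsg.Agent.H35.ClassSumNilpotent
import Mathlib.Algebra.Algebra.ZMod

/-!
# The Brauer homomorphism and induced blocks
-/

open scoped ComplexConjugate
open MonoidAlgebra

namespace Cfsg.Agent.BlockBasic

open CharBasic

universe u

variable {G : Type u} [Group G] {p : ℕ} {M : Ideal AlgInt}

section Maps

open scoped Classical in
/-- The Brauer map: keep the coefficients on `H` of the elements centralising `P`. -/
noncomputable def brauerMap [Finite G] (P H : Subgroup G) (z : MonoidAlgebra ℂ G) :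
    MonoidAlgebra ℂ H :=
  ofFun fun h => if (h : G) ∈ Subgroup.centralizer (P : Set G) then z.coeff (h : G) else 0

/-- Restriction of the coefficients to a subgroup. -/
noncomputable def resMap [Finite G] (H : Subgroup G) (z : MonoidAlgebra ℂ G) : MonoidAlgebra ℂ H :=
  ofFun fun h => z.coeff (h : G)

variable [Finite G] {P H : Subgroup G} {z w : MonoidAlgebra ℂ G}

open scoped Classical in
lemma coeff_brauerMap (h : H) : (brauerMap P H z).coeff h =
    if (h : G) ∈ Subgroup.centralizer (P : Set G) then z.coeff (h : G) else 0 := coeff_ofFun _ _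

lemma coeff_resMap (h : H) : (resMap H z).coeff h = z.coeff (h : G) := coeff_ofFun _ _

lemma conj_mem_centralizer_iff (hHN : H ≤ Subgroup.normalizer (P : Set G)) (g : G) (x : H) :
    (x : G) * g * (x : G)⁻¹ ∈ Subgroup.centralizer (P : Set G) ↔
      g ∈ Subgroup.centralizer (P : Set G) := by
  have key : ∀ (y : H) (a : G), a ∈ Subgroup.centralizer (P : Set G) →
      (y : G) * a * (y : G)⁻¹ ∈ Subgroup.centralizer (P : Set G) := by
    intro y a ha
    rw [Subgroup.mem_centralizer_iff] at ha ⊢
    intro q hq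
    have hq' : (y : G)⁻¹ * q * (y : G) ∈ P := by
      have := (Subgroup.mem_normalizer_iff.1 ((Subgroup.normalizer (P : Set G)).inv_mem (hHN y.2)) q).1 hq
      simpa using this
    have := ha _ hq'
    calc q * ((y : G) * a * (y : G)⁻¹) = y * (((y : G)⁻¹ * q * y) * a) * (y : G)⁻¹ := by group
      _ = y * (a * ((y : G)⁻¹ * q * y)) * (y : G)⁻¹ := by rw [this]
      _ = (y : G) * a * (y : G)⁻¹ * q := by group
  refine ⟨fun h => ?_, key x g⟩
  simpa [mul_assoc] using key x⁻¹ _ h

lemma isCentralElt_brauerMap (hHN : H ≤ Subgroup.normalizer (P : Set G)) (hz : IsCentralElt z) :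
    IsCentralElt (brauerMap P H z) := by
  intro g x
  simp only [coeff_brauerMap, Subgroup.coe_mul, Subgroup.coe_inv]
  rw [show z.coeff ((x : G) * g * (x : G)⁻¹) = z.coeff (g : G) from hz g x]
  by_cases h : (g : G) ∈ Subgroup.centralizer (P : Set G)
  · rw [if_pos h, if_pos ((conj_mem_centralizer_iff hHN (g : G) x).2 h)]
  · rw [if_neg h, if_neg (mt (conj_mem_centralizer_iff hHN (g : G) x).1 h)]

lemma isCentralElt_resMap (hz : IsCentralElt z) : IsCentralElt (resMap H z) := fun g x => by
  simp only [coeff_resMap, Subgroup.coe_mul, Subgroup.coe_inv]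
  exact hz g x

lemma isIntElt_brauerMap (hM : IsPModular p M) (hz : IsIntElt M z) :
    IsIntElt M (brauerMap P H z) := fun h => by
  rw [coeff_brauerMap]
  split
  · exact hz _
  · exact (locRing hM).zero_mem

lemma isIntElt_resMap (hz : IsIntElt M z) : IsIntElt M (resMap H z) := fun h => by
  rw [coeff_resMap]; exact hz _

lemma brauerMap_add (z w : MonoidAlgebra ℂ G) :
    brauerMap P H (z + w) = brauerMap P H z + brauerMap P H w := by
  apply coeff_injective; ext h
  simp only [coeff_add, Finsupp.add_apply, coeff_brauerMap]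
  split_ifs <;> simp

lemma brauerMap_smul (c : ℂ) (z : MonoidAlgebra ℂ G) :
    brauerMap P H (c • z) = c • brauerMap P H z := by
  apply coeff_injective; ext h
  simp only [coeff_smul_apply, coeff_brauerMap, smul_eq_mul, mul_ite, mul_zero]

lemma brauerMap_one : brauerMap P H (1 : MonoidAlgebra ℂ G) = 1 := by
  classical
  apply coeff_injective; ext h
  rw [coeff_brauerMap, one_def, one_def, coeff_single, coeff_single]
  rcases eq_or_ne h 1 with rfl | hne
  · simp
  · rw [Finsupp.single_eq_of_ne hne, Finsupp.single_eq_of_ne (show (h : G) ≠ 1 from fun e => hne (Subtype.ext e))]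
    simp

open scoped Classical in
/-- The Brauer map is multiplicative modulo the maximal ideal. -/
theorem brauerMap_mul_congr [Fact p.Prime] (hM : IsPModular p M) (hP : IsPGroup p P)
    (hCH : Subgroup.centralizer (P : Set G) ≤ H) (hz : IsCentralElt z) (hzi : IsIntElt M z)
    (hw : IsCentralElt w) (hwi : IsIntElt M w) (h : H) :
    MemLocalIdeal M ((brauerMap P H (z * w)).coeff h -
      (brauerMap P H z * brauerMap P H w).coeff h) := by
  cases nonempty_fintype G
  have hr : (brauerMap P H z * brauerMap P H w).coeff h =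
      ∑ a : H, (if (a : G) ∈ (Subgroup.centralizer (P : Set G)) ∧ (h : G) ∈ (Subgroup.centralizer (P : Set G)) then z.coeff (a : G) * w.coeff ((a : G)⁻¹ * h) else 0) := by
    rw [coeff_mul_apply_left, Finsupp.sum_fintype _ _ (by simp)]
    refine Finset.sum_congr rfl fun a _ => ?_
    simp only [coeff_brauerMap, Subgroup.coe_mul, Subgroup.coe_inv]
    by_cases ha : (a : G) ∈ (Subgroup.centralizer (P : Set G))
    · by_cases hh : (h : G) ∈ (Subgroup.centralizer (P : Set G))
      · rw [if_pos ha, if_pos (mul_mem (inv_mem ha) hh), if_pos ⟨ha, hh⟩]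
      · rw [if_neg (fun e : _ ∧ _ => hh e.2), if_pos ha, if_neg, mul_zero]
        intro e
        exact hh (by simpa using mul_mem ha e)
    · rw [if_neg (fun e : _ ∧ _ => ha e.1), if_neg ha, zero_mul]
  rw [hr, coeff_brauerMap]
  by_cases hh : (h : G) ∈ (Subgroup.centralizer (P : Set G))
  swap
  · simpa [hh, show (h : G) ∉ Subgroup.centralizer (P : Set G) from hh] using memLocalIdeal_zero hM
  rw [if_pos hh, coeff_mul_apply_left, Finsupp.sum_fintype _ _ (by simp)]
  let f : G → ℂ := fun a => z.coeff a * w.coeff (a⁻¹ * h)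
  let _ : MulAction P G :=
    MulAction.compHom G ((ConjAct.toConjAct : G ≃* ConjAct G).toMonoidHom.comp P.subtype)
  have hsmul : ∀ (q : P) (x : G), q • x = (q : G) * x * (q : G)⁻¹ := fun q x =>
    ConjAct.toConjAct_smul (q : G) x
  have key := H35.sum_sub_fixed_mem (X := G) hM hP f (fun x => (locRing hM).mul_mem (hzi x) (hwi _))
    (fun q x => by
      simp only [f, hsmul]
      rw [show z.coeff ((q : G) * x * (q : G)⁻¹) = z.coeff x from hz x q]
      congr 1
      have hq : (q : G) * h = h * q := (Subgroup.mem_centralizer_iff.1 hh) q q.2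
      rw [show ((q : G) * x * (q : G)⁻¹)⁻¹ * (h : G) = (q : G) * (x⁻¹ * h) * (q : G)⁻¹ by
        rw [show (q : G) * (x⁻¹ * h) * (q : G)⁻¹ = (q : G) * x⁻¹ * (q : G)⁻¹ * ((q : G) * h * (q : G)⁻¹) by group,
          hq]
        group]
      exact hw _ _)
  convert key using 1
  simp only [hh, and_true]
  congr 1
  rw [← Finset.sum_filter]
  refine ((Finset.sum_map (Finset.univ.filter fun a : H => (a : G) ∈ (Subgroup.centralizer (P : Set G)))
    ⟨Subtype.val, Subtype.val_injective⟩ f).symm).trans (Finset.sum_congr ?_ fun a _ => rfl)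
  ext a
  simp only [Finset.mem_map, Finset.mem_filter, Finset.mem_univ, true_and,
    Function.Embedding.coeFn_mk, MulAction.mem_fixedPoints, hsmul, mul_inv_eq_iff_eq_mul,
    Subtype.forall]
  constructor
  · rintro ⟨b, hb, rfl⟩ q hq
    exact Subgroup.mem_centralizer_iff.1 hb q hq
  · intro hq
    have : a ∈ (Subgroup.centralizer (P : Set G)) := Subgroup.mem_centralizer_iff.2 fun q hq' => hq q hq'
    exact ⟨⟨a, hCH this⟩, this, rfl⟩

end Maps

lemma memLocalIdeal_omega [Fintype G] (hM : IsPModular p M) {χ : G → ℂ} (hχ : IsIrrCharacter G χ)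
    {z : MonoidAlgebra ℂ G} (hz : IsCentralElt z)
    (hzm : ∀ g, MemLocalIdeal M (z.coeff g * centralChar χ g)) :
    MemLocalIdeal M (omega χ z) := by
  haveI : Finite (ConjClasses G) := Finite.of_surjective _ ConjClasses.mk_surjective
  haveI : Fintype (ConjClasses G) := Fintype.ofFinite _
  rw [omega_eq_sum_classes (IsIrr.isClassFunction hχ) hz]
  exact memLocalIdeal_sum hM _ _ fun C _ => hzm _

/-- A linear functional on the group algebra which is multiplicative modulo the maximal ideal on
the integral centre. -/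
structure IsCentralHom (M : Ideal AlgInt) (L : MonoidAlgebra ℂ G → ℂ) : Prop where
  map_one : L 1 = 1
  map_add : ∀ z w, L (z + w) = L z + L w
  map_smul : ∀ (c : ℂ) z, L (c • z) = c * L z
  mem : ∀ z, IsCentralElt z → IsIntElt M z → MemLocalRing M (L z)
  mul : ∀ z w, IsCentralElt z → IsIntElt M z → IsCentralElt w → IsIntElt M w →
    MemLocalIdeal M (L (z * w) - L z * L w)

lemma IsCentralHom.map_sub {L : MonoidAlgebra ℂ G → ℂ} (hL : IsCentralHom M L)
    (z w : MonoidAlgebra ℂ G) : L (z - w) = L z - L w := by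
  rw [eq_sub_iff_add_eq, ← hL.map_add, sub_add_cancel]

lemma IsCentralHom.map_zero {L : MonoidAlgebra ℂ G → ℂ} (hL : IsCentralHom M L) : L 0 = 0 := by
  rw [← sub_self (1 : MonoidAlgebra ℂ G), hL.map_sub, sub_self]

/-- A homomorphism from the integral centre to the residue field comes from a block. -/
theorem exists_block_of_centralHom [Fintype G] (hM : IsPModular p M)
    {L : MonoidAlgebra ℂ G → ℂ} (hL : IsCentralHom M L) :
    ∃ B : Set (IrrCharacter G), IsPBlock M B ∧ ∀ χ ∈ B, ∀ z : MonoidAlgebra ℂ G, IsCentralElt z →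
      IsIntElt M z → MemLocalIdeal M (L z - omega (χ : G → ℂ) z) := by
  classical
  -- a block idempotent not killed by `L`
  obtain ⟨χ₀, hχ₀⟩ : ∃ χ : IrrCharacter G,
      ¬ MemLocalIdeal M (L (blockElem (blockOf M (χ : G → ℂ)))) := by
    by_contra hc
    push Not at hc
    have key : ∀ s : Finset (IrrCharacter G), ∃ w : MonoidAlgebra ℂ G, IsCentralElt w ∧ IsIntElt M w ∧
        MemLocalIdeal M (L w - 1) ∧ ∀ χ ∈ s, omega (χ : G → ℂ) w = 0 := by
      intro s
      induction s using Finset.induction with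
      | empty => exact ⟨1, IsCentralElt.one, isIntElt_one hM,
          by rw [hL.map_one, sub_self]; exact memLocalIdeal_zero hM, by simp⟩
      | insert χ s _ ih =>
        obtain ⟨w, hw, hwi, hw1, hw0⟩ := ih
        set e := blockElem (blockOf M (χ : G → ℂ))
        have he : IsCentralElt e := isCentralElt_blockElem _
        have hei : IsIntElt M e := isIntElt_blockElem hM (isPBlock_blockOf M χ)
        refine ⟨(1 - e) * w, (IsCentralElt.one.sub he).mul hw,
          ((isIntElt_one hM).sub hM hei).mul hM hwi, ?_, fun ψ hψ => ?_⟩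
        · have h1 := hL.mul _ _ (IsCentralElt.one.sub he) ((isIntElt_one hM).sub hM hei) hw hwi
          rw [hL.map_sub, hL.map_one] at h1
          have h2 : MemLocalIdeal M (L w * L e) :=
            memLocalIdeal_mul hM (hL.mem w hw hwi) (hc χ)
          have := memLocalIdeal_sub hM (memLocalIdeal_add hM h1 hw1) h2
          convert this using 1
          ring
        · rw [omega_mul ψ.2 (IsCentralElt.one.sub he), omega_sub, omega_one ψ.2]
          rcases Finset.mem_insert.1 hψ with rfl | hψ
          · rw [omega_blockElem, if_pos (self_mem_blockOf hM _), sub_self, zero_mul]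
          · rw [hw0 ψ hψ, mul_zero]
    obtain ⟨w, hw, -, hw1, hw0⟩ := key Finset.univ
    have : w = 0 := by
      apply coeff_injective; ext g
      rw [coeff_eq_sum_omega hw]
      simp [fun χ => hw0 χ (Finset.mem_univ χ)]
    rw [this, hL.map_zero, zero_sub] at hw1
    exact not_memLocalIdeal_one hM (by simpa using memLocalIdeal_neg hw1)
  set B := blockOf M (χ₀ : G → ℂ)
  refine ⟨B, isPBlock_blockOf M χ₀, fun χ hχ z hz hzi => ?_⟩
  set c := omega (χ : G → ℂ) z
  have hc : MemLocalRing M c := memLocalRing_omega hM χ.2 hz hzi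
  have he := isCentralElt_blockElem B
  have hei := isIntElt_blockElem hM (isPBlock_blockOf M χ₀)
  have hzc : IsCentralElt (z - c • 1) := hz.sub (IsCentralElt.one.smul c)
  have hzci : IsIntElt M (z - c • 1) := hzi.sub hM ((isIntElt_one hM).smul hM hc)
  set u := (z - c • 1) * blockElem B
  have hu : IsCentralElt u := hzc.mul he
  have hui : IsIntElt M u := hzci.mul hM hei
  have hom : ∀ ψ : IrrCharacter G, omega (ψ : G → ℂ) u =
      if ψ ∈ B then omega (ψ : G → ℂ) z - c else 0 := fun ψ => by
    rw [omega_mul ψ.2 hzc, omega_sub, omega_smul, omega_one ψ.2, omega_blockElem]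
    split_ifs <;> simp
  have key : ∀ s : Finset (IrrCharacter G), (∀ ψ ∈ s, ψ ∈ B) →
      ∃ w : MonoidAlgebra ℂ G, IsCentralElt w ∧ IsIntElt M w ∧
        MemLocalIdeal M (L w - L u ^ (s.card + 1)) ∧
        (∀ ψ : IrrCharacter G, ψ ∉ B → omega (ψ : G → ℂ) w = 0) ∧
        ∀ ψ ∈ s, omega (ψ : G → ℂ) w = 0 := by
    intro s
    induction s using Finset.induction with
    | empty => exact fun _ => ⟨u, hu, hui, by simpa using memLocalIdeal_zero hM,
        fun ψ hψ => by rw [hom, if_neg hψ], by simp⟩
    | insert φ s hφ ih =>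
      intro hs
      obtain ⟨w, hw, hwi, hwL, hw0, hws⟩ := ih fun ψ hψ => hs ψ (Finset.mem_insert_of_mem hψ)
      set a := omega (φ : G → ℂ) z - c
      have hφB := hs φ (Finset.mem_insert_self φ s)
      have ha : MemLocalIdeal M a := omega_congr hM (IsIrr.isClassFunction φ.2)
        (IsIrr.isClassFunction χ.2) (isPBlock_sameBlock hM (isPBlock_blockOf M χ₀) hφB hχ) hz hzi
      have hua : IsCentralElt (u - a • 1) := hu.sub (IsCentralElt.one.smul a)
      have huai : IsIntElt M (u - a • 1) :=
        hui.sub hM ((isIntElt_one hM).smul hM (MemLocalIdeal.memLocalRing ha))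
      refine ⟨(u - a • 1) * w, hua.mul hw, huai.mul hM hwi, ?_, fun ψ hψ => ?_, fun ψ hψ => ?_⟩
      · have h1 := hL.mul _ _ hua huai hw hwi
        rw [hL.map_sub, hL.map_smul, hL.map_one, mul_one] at h1
        have h2 : MemLocalIdeal M (L u * (L w - L u ^ (s.card + 1))) :=
          memLocalIdeal_mul hM (hL.mem u hu hui) hwL
        have h3 : MemLocalIdeal M (L w * a) := memLocalIdeal_mul hM (hL.mem w hw hwi) ha
        have := memLocalIdeal_sub hM (memLocalIdeal_add hM h1 h2) h3
        rw [Finset.card_insert_of_notMem hφ]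
        convert this using 1
        ring
      · rw [omega_mul ψ.2 hua, hw0 ψ hψ, mul_zero]
      · rw [omega_mul ψ.2 hua]
        rcases Finset.mem_insert.1 hψ with rfl | hψ
        · rw [omega_sub, omega_smul, omega_one ψ.2, hom, if_pos hφB, mul_one, sub_self, zero_mul]
        · rw [hws ψ hψ, mul_zero]
  obtain ⟨w, hw, -, hwL, hw0, hws⟩ := key (Finset.univ.filter (· ∈ B))
    fun ψ hψ => (Finset.mem_filter.1 hψ).2
  have hw' : w = 0 := by
    apply coeff_injective; ext g
    rw [coeff_eq_sum_omega hw]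
    have : ∀ ψ : IrrCharacter G, omega (ψ : G → ℂ) w = 0 := fun ψ => by
      by_cases h : ψ ∈ B
      · exact hws ψ (Finset.mem_filter.2 ⟨Finset.mem_univ _, h⟩)
      · exact hw0 ψ h
    simp [this]
  rw [hw', hL.map_zero, zero_sub] at hwL
  set n := (Finset.univ.filter (· ∈ B)).card + 1
  have hLu : MemLocalIdeal M (L u) := by
    have hn : MemLocalIdeal M (L u ^ n) := by simpa using memLocalIdeal_neg hwL
    haveI := (locMax_isMaximal hM).isPrime
    exact Ideal.IsPrime.mem_of_pow_mem (I := locMax hM) inferInstance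
      (r := ⟨L u, hL.mem u hu hui⟩) n (by simpa [mem_locMax] using hn)
  have h1 := hL.mul _ _ hzc hzci he hei
  have h2 := memLocalIdeal_sub hM hLu h1
  rw [hL.map_sub, hL.map_smul, hL.map_one, mul_one] at h2
  have h3 : MemLocalIdeal M ((L z - c) * L (blockElem B)) := by
    convert h2 using 1
    ring
  exact ((memLocalIdeal_mul_iff hM ((locRing hM).sub_mem (hL.mem z hz hzi) hc)
    (hL.mem _ he hei)).1 h3).resolve_right hχ₀

variable [Finite G] {P H : Subgroup G}

lemma omega_resMap_classSum [Fintype H] (ξ : H → ℂ) (g : G) :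
    omega ξ (resMap H (classSum g)) = inducedCentralChar H ξ g := by
  classical
  rw [inducedCentralChar, omega, chiLin, Finset.sum_div, finsum_mem_eq_finite_toFinset_sum _ (Set.toFinite _)]
  rw [show (Set.toFinite {h : H | IsConj g (h : G)}).toFinset =
    Finset.univ.filter (fun h : H => IsConj g (h : G)) by ext; simp, Finset.sum_filter]
  refine Finset.sum_congr rfl fun h _ => ?_
  rw [coeff_resMap, classSum, coeff_ofFun]
  split_ifs <;> simp

lemma omega_brauerMap_classSum [Fintype H] (ξ : H → ℂ) (g : G) :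
    omega ξ (brauerMap P H (classSum g)) = brauerCentralChar P H ξ g := by
  classical
  rw [brauerCentralChar, omega, chiLin, Finset.sum_div, finsum_mem_eq_finite_toFinset_sum _ (Set.toFinite _)]
  rw [show (Set.toFinite {h : H | IsConj g (h : G) ∧ (h : G) ∈ Subgroup.centralizer (P : Set G)}).toFinset =
    Finset.univ.filter (fun h : H => IsConj g (h : G) ∧ (h : G) ∈ Subgroup.centralizer (P : Set G)) by
      ext; simp, Finset.sum_filter]
  refine Finset.sum_congr rfl fun h _ => ?_
  rw [coeff_brauerMap, classSum, coeff_ofFun]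
  by_cases h2 : (h : G) ∈ Subgroup.centralizer (P : Set G)
  · by_cases h1 : IsConj g (h : G)
    · rw [if_pos h2, if_pos h1, if_pos ⟨h1, h2⟩, one_mul]
    · rw [if_pos h2, if_neg h1, if_neg (fun e : _ ∧ _ => h1 e.1), zero_mul, zero_div]
  · rw [if_neg h2, if_neg (fun e : _ ∧ _ => h2 e.2), zero_mul, zero_div]

/-- Outside the centraliser of a normal `p`-subgroup every central character is in the ideal. -/
theorem centralChar_mem_of_not_centralizer [Fact p.Prime] (hM : IsPModular p M) (Q : Subgroup G)
    [Q.Normal] (hQ : IsPGroup p Q) (χ : IrrCharacter G) {g : G}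
    (hg : g ∉ Subgroup.centralizer (Q : Set G)) :
    MemLocalIdeal M (centralChar (χ : G → ℂ) g) := by
  classical
  cases nonempty_fintype G
  have hg' : ∀ x : G, IsConj g x → x ∉ Subgroup.centralizer (Q : Set G) := by
    intro x hx hxC
    obtain ⟨c, rfl⟩ := isConj_iff.1 hx
    exact hg (by simpa [mul_assoc] using
      (inferInstance : (Subgroup.centralizer (Q : Set G)).Normal).conj_mem _ hxC c⁻¹)
  obtain ⟨n, hn⟩ := H35.classSumAlg_nilpotent (p := p) hQ g hg'
  set z : MonoidAlgebra ℤ G := H35.classSumAlg ℤ g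
  have hz : MonoidAlgebra.mapRingHom G (Int.castRingHom (ZMod p)) z = H35.classSumAlg (ZMod p) g := by
    simp [z, H35.classSumAlg, map_sum]
  have hzC : MonoidAlgebra.mapRingHom G (Int.castRingHom ℂ) z = classSum g := by
    apply coeff_injective; ext x
    simp [z, H35.classSumAlg, map_sum, classSum, Finsupp.finsetSum_apply, Finsupp.single_apply]
  have hdvd : ∀ x, (p : ℤ) ∣ (z ^ n).coeff x := by
    intro x
    rw [← ZMod.intCast_zmod_eq_zero_iff_dvd]
    have := congrArg (fun w => w.coeff x) (congrArg id hn)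
    rw [← hz, id, id, ← map_pow] at this
    simpa [-map_pow] using this
  have hcoef : ∀ x, MemLocalIdeal M ((classSum g ^ n).coeff x) := by
    intro x
    rw [← hzC, ← map_pow]
    simpa [-map_pow] using (memLocalIdeal_intCast_iff hM _).2 (hdvd x)
  have h := memLocalIdeal_omega hM χ.2 ((isCentralElt_classSum g).pow n) fun x => by
    rw [mul_comm]; exact memLocalIdeal_mul hM (memLocalRing_centralChar hM χ.2 x) (hcoef x)
  rw [omega_pow χ.2 (isCentralElt_classSum g), omega_classSum (IsIrr.isClassFunction χ.2)] at h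
  haveI := (locMax_isMaximal hM).isPrime
  exact Ideal.IsPrime.mem_of_pow_mem (I := locMax hM) inferInstance
    (r := ⟨_, memLocalRing_centralChar hM χ.2 g⟩) n (by simpa [mem_locMax] using h)

/-- The restriction and the Brauer map give congruent central characters. -/
theorem omega_resMap_congr [Fact p.Prime] [Fintype H] (hM : IsPModular p M) (hP : IsPGroup p P)
    (hPH : P ≤ H) (hHN : H ≤ Subgroup.normalizer (P : Set G)) (ξ : IrrCharacter H)
    {z : MonoidAlgebra ℂ G} (hz : IsCentralElt z) (hzi : IsIntElt M z) :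
    MemLocalIdeal M (omega (ξ : H → ℂ) (resMap H z) - omega (ξ : H → ℂ) (brauerMap P H z)) := by
  classical
  rw [← omega_sub]
  refine memLocalIdeal_omega hM ξ.2 ((isCentralElt_resMap hz).sub (isCentralElt_brauerMap hHN hz))
    fun h => ?_
  by_cases hh : (h : G) ∈ Subgroup.centralizer (P : Set G)
  · simpa [coeff_resMap, coeff_brauerMap, hh] using memLocalIdeal_zero hM
  · haveI : (P.subgroupOf H).Normal := ⟨fun q hq x => by
      rw [Subgroup.mem_subgroupOf] at hq ⊢
      simpa using (Subgroup.mem_normalizer_iff.1 (hHN x.2) (q : G)).1 hq⟩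
    have hQ : IsPGroup p (P.subgroupOf H) :=
      hP.of_equiv (Subgroup.subgroupOfEquivOfLe hPH).symm
    refine memLocalIdeal_mul hM ((isIntElt_resMap hzi).sub hM (isIntElt_brauerMap hM hzi) h) ?_
    refine centralChar_mem_of_not_centralizer hM (P.subgroupOf H) hQ ξ fun hC => hh ?_
    rw [Subgroup.mem_centralizer_iff] at hC ⊢
    intro q hq
    exact congrArg Subtype.val (hC ⟨q, hPH hq⟩ (Subgroup.mem_subgroupOf.2 hq))

/-- Composing the central character of `ξ` with the Brauer map. -/
theorem isCentralHom_brauer [Fact p.Prime] [Fintype H] (hM : IsPModular p M) (hP : IsPGroup p P)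
    (hCH : Subgroup.centralizer (P : Set G) ≤ H) (hHN : H ≤ Subgroup.normalizer (P : Set G))
    (ξ : IrrCharacter H) :
    IsCentralHom M (fun z => omega (ξ : H → ℂ) (brauerMap P H z)) where
  map_one := by rw [brauerMap_one, omega_one ξ.2]
  map_add z w := by rw [brauerMap_add, omega_add]
  map_smul c z := by rw [brauerMap_smul, omega_smul]
  mem z hz hzi := memLocalRing_omega hM ξ.2 (isCentralElt_brauerMap hHN hz) (isIntElt_brauerMap hM hzi)
  mul z w hz hzi hw hwi := by
    rw [← omega_mul ξ.2 (isCentralElt_brauerMap hHN hz), ← omega_sub]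
    refine memLocalIdeal_omega hM ξ.2 ((isCentralElt_brauerMap hHN (hz.mul hw)).sub
      ((isCentralElt_brauerMap hHN hz).mul (isCentralElt_brauerMap hHN hw))) fun h => ?_
    rw [mul_comm, coeff_sub, Finsupp.sub_apply]
    exact memLocalIdeal_mul hM (memLocalRing_centralChar hM ξ.2 h)
      (brauerMap_mul_congr hM hP hCH hz hzi hw hwi h)

/-- The congruence criterion for induced blocks via the Brauer map. -/
theorem isInducedBlock_iff [Fact p.Prime] (hM : IsPModular p M) (hP : IsPGroup p P) (hPH : P ≤ H)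
    (hHN : H ≤ Subgroup.normalizer (P : Set G)) {b : Set (IrrCharacter H)} (hb : IsPBlock M b)
    {B : Set (IrrCharacter G)} (hB : IsPBlock M B) :
    IsInducedBlock M H b B ↔ ∀ ξ ∈ b, ∀ χ ∈ B, ∀ g : G,
      MemLocalIdeal M (brauerCentralChar P H (ξ : H → ℂ) g - centralChar (χ : G → ℂ) g) := by
  cases nonempty_fintype G
  cases nonempty_fintype H
  have hd : ∀ (ξ : IrrCharacter H) (g : G), MemLocalIdeal M
      (inducedCentralChar H (ξ : H → ℂ) g - brauerCentralChar P H (ξ : H → ℂ) g) := fun ξ g => by
    rw [← omega_resMap_classSum, ← omega_brauerMap_classSum (P := P)]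
    exact omega_resMap_congr hM hP hPH hHN ξ (isCentralElt_classSum g) (isIntElt_classSum hM g)
  constructor
  · rintro ⟨-, -, h⟩ ξ hξ χ hχ g
    simpa using memLocalIdeal_sub hM (h ξ hξ χ hχ g) (hd ξ g)
  · exact fun h => ⟨hb, hB, fun ξ hξ χ hχ g => by
      simpa using memLocalIdeal_add hM (hd ξ g) (h ξ hξ χ hχ g)⟩

/-- Induced blocks are defined for subgroups between `P C(P)` and `N(P)`. -/
theorem inducedBlockDefined [Fact p.Prime] (hM : IsPModular p M) (hP : IsPGroup p P) (hPH : P ≤ H)
    (hCH : Subgroup.centralizer (P : Set G) ≤ H) (hHN : H ≤ Subgroup.normalizer (P : Set G))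
    {b : Set (IrrCharacter H)} (hb : IsPBlock M b) : InducedBlockDefined M H b := by
  cases nonempty_fintype G
  cases nonempty_fintype H
  obtain ⟨ξ₀, hξ₀⟩ := isPBlock_nonempty hM hb
  obtain ⟨B, hB, h⟩ := exists_block_of_centralHom hM (isCentralHom_brauer hM hP hCH hHN ξ₀)
  refine ⟨B, (isInducedBlock_iff hM hP hPH hHN hb hB).2 fun ξ hξ χ hχ g => ?_⟩
  have h1 := h χ hχ _ (isCentralElt_classSum g) (isIntElt_classSum hM g)
  rw [omega_classSum (IsIrr.isClassFunction χ.2)] at h1
  have h2 := omega_congr hM (IsIrr.isClassFunction ξ.2) (IsIrr.isClassFunction ξ₀.2)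
    (isPBlock_sameBlock hM hb hξ hξ₀) (isCentralElt_brauerMap hHN (isCentralElt_classSum g))
    (isIntElt_brauerMap (P := P) hM (isIntElt_classSum hM g))
  rw [omega_brauerMap_classSum] at h2
  rw [omega_brauerMap_classSum] at h1
  simpa [omega_brauerMap_classSum] using memLocalIdeal_add hM h2 h1

/-- The induced block is unique. -/
theorem isInducedBlock_unique (hM : IsPModular p M) {b : Set (IrrCharacter H)}
    {B B' : Set (IrrCharacter G)} (h : IsInducedBlock M H b B) (h' : IsInducedBlock M H b B') :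
    B = B' := by
  obtain ⟨ξ, hξ⟩ := isPBlock_nonempty hM h.1
  obtain ⟨χ, hχ⟩ := isPBlock_nonempty hM h.2.1
  obtain ⟨ψ, hψ⟩ := isPBlock_nonempty hM h'.2.1
  have : SameBlock M (χ : G → ℂ) (ψ : G → ℂ) := fun g => by
    simpa using memLocalIdeal_sub hM (h'.2.2 ξ hξ ψ hψ g) (h.2.2 ξ hξ χ hχ g)
  rw [isPBlock_eq_blockOf hM h.2.1 hχ, isPBlock_eq_blockOf hM h'.2.1 hψ,
    blockOf_eq_of_sameBlock hM this]

end Cfsg.Agent.BlockBasic
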