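import Cfsg.Agent.BlockBasic.Idem
import Mathlib.LinearAlgebra.FiniteDimensional.Basic
import Mathlib.LinearAlgebra.FiniteDimensional.Lemmas
import Mathlib.RingTheory.Ideal.Quotient.Basic

/-!
# Reduction of the group algebra at `M`, and two vanishing criteria for products
-/

open MonoidAlgebra

namespace Cfsg.Agent.BlockBasic

universe u

/-- Commuting nilpotent elements of a finite-dimensional algebra: long products vanish. -/
theorem prod_nilpotent_eq_zero {k A : Type*} [Field k] [Ring A] [Algebra k A]
    [FiniteDimensional k A] {S : Set A} (hcomm : ∀ x ∈ S, ∀ y ∈ S, Commute x y)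
    (hnil : ∀ x ∈ S, IsNilpotent x) (l : List A) (hl : ∀ x ∈ l, x ∈ S)
    (hlen : Module.finrank k A < l.length) : l.prod = 0 := by
  suffices key : ∀ l : List A, (∀ x ∈ l, x ∈ S) → l.prod = 0 ∨
      Module.finrank k (LinearMap.range (LinearMap.mulLeft k l.prod)) + l.length ≤
        Module.finrank k A by
    rcases key l hl with h | h
    · exact h
    · omega
  intro l
  induction l with
  | nil =>
    refine fun _ => Or.inr ?_
    rw [List.length_nil, add_zero]
    exact Submodule.finrank_le _
  | cons s l ih =>
    intro hl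
    have hs := hl s List.mem_cons_self
    have hl' : ∀ x ∈ l, x ∈ S := fun x hx => hl x (List.mem_cons_of_mem _ hx)
    rcases ih hl' with h | h
    · exact Or.inl (by rw [List.prod_cons, h, mul_zero])
    have hc : Commute s l.prod := Commute.list_prod_right _ _ fun x hx => hcomm s hs x (hl' x hx)
    set W := LinearMap.range (LinearMap.mulLeft k l.prod)
    have hle : LinearMap.range (LinearMap.mulLeft k (s :: l).prod) ≤ W := by
      rintro _ ⟨a, rfl⟩
      exact ⟨s * a, by simp only [LinearMap.mulLeft_apply, List.prod_cons, hc.eq, mul_assoc]⟩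
    rcases hle.lt_or_eq with hlt | heq
    · right
      have := Submodule.finrank_lt_finrank_of_lt hlt
      rw [List.length_cons]
      omega
    · left
      obtain ⟨n, hn⟩ := hnil s hs
      have hdiv : ∀ m : ℕ, ∀ w ∈ W, ∃ v ∈ W, w = s ^ m * v := by
        intro m
        induction m with
        | zero => exact fun w hw => ⟨w, hw, by rw [pow_zero, one_mul]⟩
        | succ m ih =>
          intro w hw
          obtain ⟨v, hv, rfl⟩ := ih w hw
          obtain ⟨a, ha⟩ := heq.symm.le hv
          refine ⟨l.prod * a, ⟨a, rfl⟩, ?_⟩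
          rw [← ha, LinearMap.mulLeft_apply, List.prod_cons, pow_succ]
          simp only [mul_assoc]
      obtain ⟨v, -, hv⟩ := hdiv n l.prod ⟨1, mul_one l.prod⟩
      rw [List.prod_cons, hv, hn, zero_mul, mul_zero]

section Graded

variable {Γ R : Type*} [Group Γ] [Semiring R]

open scoped Classical in
/-- Number of nonempty prefixes of `w` taking the starting degree `d` to `v`. -/
noncomputable def visits (d v : Γ) : List Γ → ℕ
  | [] => 0
  | g :: w => (if d * g = v then 1 else 0) + visits (d * g) v w

/-- Elements starting with a product of `r` members of `S`. -/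
def prefixSet (S : Set R) (r : ℕ) : Set R :=
  {x | ∃ l : List R, ∃ y : R, l.length = r ∧ (∀ s ∈ l, s ∈ S) ∧ x = l.prod * y}

variable (f : Γ → R) {S : Set R}
  (hseg : ∀ w : List Γ, w ≠ [] → w.prod = 1 → (w.map f).prod ∈ S)
include hseg

lemma map_prod_mem_prefixSet (w : List Γ) : ∀ (r : ℕ) (acc : List Γ) (d v : Γ),
    v * acc.prod = d → r ≤ visits d v w → ((acc ++ w).map f).prod ∈ prefixSet S r := by
  induction w with
  | nil =>
    intro r acc d v _ hr
    obtain rfl : r = 0 := Nat.le_zero.1 hr
    exact ⟨[], _, rfl, by simp, (one_mul _).symm⟩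
  | cons g w ih =>
    intro r acc d v hd hr
    rcases r with _ | r
    · exact ⟨[], _, rfl, by simp, (one_mul _).symm⟩
    rw [visits] at hr
    split_ifs at hr with hg
    · obtain ⟨l, y, hl, hlS, hy⟩ := ih r [] (d * g) v (by simp [hg]) (by omega)
      refine ⟨((acc ++ [g]).map f).prod :: l, y, by simp [hl], ?_, ?_⟩
      · intro s hs
        rcases List.mem_cons.1 hs with rfl | hs
        · refine hseg _ (by simp) ?_
          rw [← mul_left_cancel_iff (a := v), mul_one, List.prod_append, ← mul_assoc, hd,
            List.prod_singleton, hg]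
        · exact hlS s hs
      · rw [List.nil_append] at hy
        rw [List.prod_cons, mul_assoc, ← hy]
        simp [mul_assoc]
    · have := ih (r + 1) (acc ++ [g]) (d * g) v
        (by rw [List.prod_append, List.prod_singleton, ← mul_assoc, hd]) (by omega)
      simpa using this

lemma exists_map_prod_eq_mul (w : List Γ) : ∀ (r : ℕ) (d v : Γ), r < visits d v w →
    ∃ a : R, ∃ x ∈ prefixSet S r, (w.map f).prod = a * x := by
  induction w with
  | nil => exact fun r d v h => absurd h (Nat.not_lt_zero r)
  | cons g w ih =>
    intro r d v h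
    rw [visits] at h
    split_ifs at h with hg
    · exact ⟨f g, _, map_prod_mem_prefixSet f hseg w r [] (d * g) v (by simp [hg]) (by omega),
        by simp⟩
    · obtain ⟨a, x, hx, he⟩ := ih r (d * g) v (by omega)
      exact ⟨f g * a, x, hx, by simp [he, mul_assoc]⟩

/-- A graded sum is nilpotent when long products of its segments of degree one vanish. -/
theorem sum_pow_eq_zero [Fintype Γ] {r : ℕ}
    (hS : ∀ l : List R, l.length = r → (∀ s ∈ l, s ∈ S) → l.prod = 0) :
    (∑ g, f g) ^ (r * Fintype.card Γ + 1) = 0 := by
  classical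
  have hvis : ∀ (w : List Γ) (d : Γ), ∑ v, visits d v w = w.length := by
    intro w
    induction w with
    | nil => intro d; simp [visits]
    | cons g w ih => intro d; simp [visits, Finset.sum_add_distrib, ih, add_comm]
  have hw : ∀ w : List Γ, r * Fintype.card Γ < w.length → (w.map f).prod = 0 := by
    intro w hlen
    obtain ⟨v, hv⟩ : ∃ v, r < visits 1 v w := by
      by_contra h
      push Not at h
      have := Finset.sum_le_sum (s := Finset.univ) fun v _ => h v
      rw [hvis, Finset.sum_const, Finset.card_univ, smul_eq_mul, mul_comm] at this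
      omega
    obtain ⟨a, _, ⟨l, y, hl, hlS, rfl⟩, he⟩ := exists_map_prod_eq_mul f hseg w r 1 v hv
    rw [he, hS l hl hlS, zero_mul, mul_zero]
  have key : ∀ (n : ℕ) (pre : List Γ), r * Fintype.card Γ < pre.length + n →
      (pre.map f).prod * (∑ g, f g) ^ n = 0 := by
    intro n
    induction n with
    | zero => intro pre h; rw [hw pre (by omega), zero_mul]
    | succ n ih =>
      intro pre h
      rw [pow_succ', ← mul_assoc, Finset.mul_sum, Finset.sum_mul]
      refine Finset.sum_eq_zero fun g _ => ?_
      have := ih (pre ++ [g]) (by simp only [List.length_append, List.length_singleton]; omega)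
      simpa using this
  simpa using key (r * Fintype.card Γ + 1) [] (by simp)

end Graded

section Reduction

variable {G : Type u} [Group G] {p : ℕ} {M : Ideal AlgInt}

/-- The residue field at `M`. -/
abbrev Residue (hM : IsPModular p M) : Type := locRing hM ⧸ locMax hM

open scoped Classical in
/-- Reduction of a local integer, extended by zero. -/
noncomputable def res (hM : IsPModular p M) (x : ℂ) : Residue hM :=
  if h : MemLocalRing M x then Ideal.Quotient.mk _ ⟨x, h⟩ else 0

lemma res_apply (hM : IsPModular p M) {x : ℂ} (h : MemLocalRing M x) :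
    res hM x = Ideal.Quotient.mk _ ⟨x, h⟩ := dif_pos h

lemma res_zero (hM : IsPModular p M) : res hM 0 = 0 := by
  rw [res_apply hM (locRing hM).zero_mem]
  exact map_zero _

lemma res_one (hM : IsPModular p M) : res hM 1 = 1 := by
  rw [res_apply hM (locRing hM).one_mem]
  exact map_one _

lemma res_add (hM : IsPModular p M) {x y : ℂ} (hx : MemLocalRing M x) (hy : MemLocalRing M y) :
    res hM (x + y) = res hM x + res hM y := by
  rw [res_apply hM (memLocalRing_add hM hx hy), res_apply hM hx, res_apply hM hy, ← map_add]
  rfl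

lemma res_mul (hM : IsPModular p M) {x y : ℂ} (hx : MemLocalRing M x) (hy : MemLocalRing M y) :
    res hM (x * y) = res hM x * res hM y := by
  rw [res_apply hM (memLocalRing_mul hM hx hy), res_apply hM hx, res_apply hM hy, ← map_mul]
  rfl

lemma res_sum (hM : IsPModular p M) {ι : Type*} (s : Finset ι) {f : ι → ℂ}
    (h : ∀ i ∈ s, MemLocalRing M (f i)) : res hM (∑ i ∈ s, f i) = ∑ i ∈ s, res hM (f i) := by
  classical
  induction s using Finset.induction with
  | empty => simpa using res_zero hM
  | insert i s hi ih =>
    rw [Finset.sum_insert hi, Finset.sum_insert hi, res_add hM (h i (Finset.mem_insert_self i s))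
      ((locRing hM).sum_mem fun j hj => h j (Finset.mem_insert_of_mem hj)),
      ih fun j hj => h j (Finset.mem_insert_of_mem hj)]

lemma res_eq_zero_iff (hM : IsPModular p M) {x : ℂ} (hx : MemLocalRing M x) :
    res hM x = 0 ↔ MemLocalIdeal M x := by
  rw [res_apply hM hx, Ideal.Quotient.eq_zero_iff_mem, mem_locMax]

variable [Finite G]

/-- Reduction of a group algebra element. -/
noncomputable def red (hM : IsPModular p M) (z : MonoidAlgebra ℂ G) :
    MonoidAlgebra (Residue hM) G :=
  .ofCoeff (Finsupp.equivFunOnFinite.symm fun g => res hM (z.coeff g))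

@[simp] lemma coeff_red (hM : IsPModular p M) (z : MonoidAlgebra ℂ G) (g : G) :
    (red hM z).coeff g = res hM (z.coeff g) := by simp [red]

lemma red_mul (hM : IsPModular p M) {z w : MonoidAlgebra ℂ G} (hz : IsIntElt M z)
    (hw : IsIntElt M w) : red hM (z * w) = red hM z * red hM w := by
  cases nonempty_fintype G
  apply coeff_injective
  ext g
  rw [coeff_red, coeff_mul_apply_left, coeff_mul_apply_left, Finsupp.sum_fintype _ _ (by simp),
    Finsupp.sum_fintype _ _ (by simp), res_sum hM _ fun i _ => memLocalRing_mul hM (hz _) (hw _)]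
  exact Finset.sum_congr rfl fun i _ => by rw [res_mul hM (hz _) (hw _), coeff_red, coeff_red]

lemma red_one (hM : IsPModular p M) : red hM (1 : MonoidAlgebra ℂ G) = 1 := by
  classical
  apply coeff_injective
  ext g
  rw [coeff_red, one_def, one_def, coeff_single, coeff_single, Finsupp.single_apply,
    Finsupp.single_apply]
  split_ifs
  · exact res_one hM
  · exact res_zero hM

lemma red_pow (hM : IsPModular p M) {z : MonoidAlgebra ℂ G} (hz : IsIntElt M z) (n : ℕ) :
    red hM (z ^ n) = red hM z ^ n := by
  induction n with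
  | zero => simpa using red_one hM
  | succ n ih => rw [pow_succ, pow_succ, red_mul hM (hz.pow hM n) hz, ih]

lemma red_sum (hM : IsPModular p M) {ι : Type*} (s : Finset ι) {f : ι → MonoidAlgebra ℂ G}
    (h : ∀ i ∈ s, IsIntElt M (f i)) : red hM (∑ i ∈ s, f i) = ∑ i ∈ s, red hM (f i) := by
  apply coeff_injective
  ext g
  rw [coeff_red, coeff_sum, coeff_sum, Finsupp.finsetSum_apply, Finsupp.finsetSum_apply,
    res_sum hM _ fun i hi => h i hi g]
  exact Finset.sum_congr rfl fun i _ => (coeff_red hM _ g).symm

lemma red_list_prod (hM : IsPModular p M) (l : List (MonoidAlgebra ℂ G))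
    (h : ∀ z ∈ l, IsIntElt M z) : IsIntElt M l.prod ∧ red hM l.prod = (l.map (red hM)).prod := by
  induction l with
  | nil => exact ⟨by simpa using isIntElt_one hM, by simpa using red_one hM⟩
  | cons z l ih =>
    obtain ⟨h1, h2⟩ := ih fun w hw => h w (List.mem_cons_of_mem _ hw)
    have hz := h z List.mem_cons_self
    exact ⟨by simpa using hz.mul hM h1, by simp [red_mul hM hz h1, h2]⟩

lemma red_eq_zero_iff (hM : IsPModular p M) {z : MonoidAlgebra ℂ G} (hz : IsIntElt M z) :
    red hM z = 0 ↔ ∀ g, MemLocalIdeal M (z.coeff g) := by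
  constructor
  · intro h g
    rw [← res_eq_zero_iff hM (hz g), ← coeff_red, h, coeff_zero, Finsupp.coe_zero, Pi.zero_apply]
  · intro h
    apply coeff_injective
    ext g
    rw [coeff_red, (res_eq_zero_iff hM (hz g)).2 (h g), coeff_zero, Finsupp.coe_zero, Pi.zero_apply]

/-- Long products of commuting nilpotent reductions vanish. -/
theorem exists_prod_red_eq_zero (hM : IsPModular p M) {S : Set (MonoidAlgebra (Residue hM) G)}
    (hcomm : ∀ x ∈ S, ∀ y ∈ S, Commute x y) (hnil : ∀ x ∈ S, IsNilpotent x) :
    ∃ r : ℕ, ∀ l : List (MonoidAlgebra (Residue hM) G), l.length = r → (∀ s ∈ l, s ∈ S) →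
      l.prod = 0 := by
  haveI := locMax_isMaximal hM
  letI : Field (Residue hM) := Ideal.Quotient.field _
  haveI : Module.Finite (Residue hM) (MonoidAlgebra (Residue hM) G) :=
    Module.Finite.of_basis (MonoidAlgebra.basis G (Residue hM))
  exact ⟨Module.finrank (Residue hM) (MonoidAlgebra (Residue hM) G) + 1, fun l hl hlS =>
    prod_nilpotent_eq_zero (k := Residue hM) hcomm hnil l hlS (by omega)⟩

end Reduction

end Cfsg.Agent.BlockBasic
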