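import Cfsg.Agent.BlockBasic.LocalBlocks
import Cfsg.Agent.BlockBasic.Residue
import Cfsg.Prelude.Def_BrauerPairs

/-!
# The Brauer correspondence over a subgroup containing the normalizer
-/

open scoped ComplexConjugate
open MonoidAlgebra

namespace Cfsg.Agent.BlockBasic

open CharBasic

universe u

variable {G : Type u} [Group G] [Fintype G] {p : ℕ} {M : Ideal AlgInt} [Fact p.Prime]

omit [Fintype G] [Fact p.Prime] in
lemma red_sub [Finite G] (hM : IsPModular p M) {z w : MonoidAlgebra ℂ G} (hz : IsIntElt M z)
    (hw : IsIntElt M w) : red hM (z - w) = red hM z - red hM w := by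
  apply coeff_injective
  ext g
  rw [coeff_sub, Finsupp.sub_apply, coeff_red, coeff_red, coeff_red, eq_sub_iff_add_eq,
    coeff_sub, Finsupp.sub_apply, ← res_add hM ((locRing hM).sub_mem (hz g) (hw g)) (hw g),
    sub_add_cancel]

/-- Two central elements, idempotent modulo `M`, with congruent central characters are
congruent. -/
theorem coeff_congr_of_omega (hM : IsPModular p M) {a b : MonoidAlgebra ℂ G}
    (hac : IsCentralElt a) (hbc : IsCentralElt b) (hai : IsIntElt M a) (hbi : IsIntElt M b)
    (ha : ∀ g, MemLocalIdeal M ((a * a).coeff g - a.coeff g))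
    (hb : ∀ g, MemLocalIdeal M ((b * b).coeff g - b.coeff g))
    (h : ∀ χ : IrrCharacter G,
      MemLocalIdeal M (omega (χ : G → ℂ) a - omega (χ : G → ℂ) b)) (g : G) :
    MemLocalIdeal M (a.coeff g - b.coeff g) := by
  have hid : ∀ {w : MonoidAlgebra ℂ G}, IsIntElt M w →
      (∀ g, MemLocalIdeal M ((w * w).coeff g - w.coeff g)) → red hM w * red hM w = red hM w := by
    intro w hwi hw
    rw [← red_mul hM hwi hwi, ← sub_eq_zero, ← red_sub hM (hwi.mul hM hwi) hwi,
      red_eq_zero_iff hM ((hwi.mul hM hwi).sub hM hwi)]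
    intro g
    rw [coeff_sub, Finsupp.sub_apply]
    exact hw g
  have key : ∀ {x y : MonoidAlgebra ℂ G}, IsCentralElt x → IsCentralElt y → IsIntElt M x →
      IsIntElt M y → red hM x * red hM x = red hM x → red hM y * red hM y = red hM y →
      (∀ χ : IrrCharacter G, MemLocalIdeal M (omega (χ : G → ℂ) x - omega (χ : G → ℂ) y)) →
      red hM x = red hM x * red hM y := by
    intro x y hxc hyc hxi hyi hx hy hxy
    have huc : IsCentralElt (x - x * y) := hxc.sub (hxc.mul hyc)
    have hui : IsIntElt M (x - x * y) := hxi.sub hM (hxi.mul hM hyi)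
    have hcomm : red hM y * red hM x = red hM x * red hM y := by
      rw [← red_mul hM hyi hxi, isCentralElt_comm hyc, red_mul hM hxi hyi]
    have hxxy : red hM x * (red hM x * red hM y) = red hM x * red hM y := by rw [← mul_assoc, hx]
    have hu2 : ∀ g, MemLocalIdeal M (((x - x * y) * (x - x * y)).coeff g - (x - x * y).coeff g) := by
      intro g
      have h1 : red hM ((x - x * y) * (x - x * y) - (x - x * y)) = 0 := by
        rw [red_sub hM (hui.mul hM hui) hui, red_mul hM hui hui,
          red_sub hM hxi (hxi.mul hM hyi), red_mul hM hxi hyi, sub_eq_zero]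
        have e1 : red hM x * red hM y * red hM x = red hM x * red hM y := by
          rw [mul_assoc, hcomm, hxxy]
        have e2 : red hM x * red hM y * (red hM x * red hM y) = red hM x * red hM y := by
          rw [← mul_assoc, e1, mul_assoc, hy]
        simp only [mul_sub, sub_mul, hx, hxxy, e1, e2]
        abel
      have := (red_eq_zero_iff hM ((hui.mul hM hui).sub hM hui)).1 h1 g
      rwa [coeff_sub, Finsupp.sub_apply] at this
    have hu0 : ∀ χ : IrrCharacter G, MemLocalIdeal M (omega (χ : G → ℂ) (x - x * y)) := by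
      intro χ
      have hix : MemLocalIdeal M (omega (χ : G → ℂ) x * omega (χ : G → ℂ) x -
          omega (χ : G → ℂ) x) := by
        rw [← omega_mul χ.2 hxc, ← omega_sub]
        refine memLocalIdeal_omega hM χ.2 ((hxc.mul hxc).sub hxc) fun g => ?_
        rw [mul_comm]
        refine memLocalIdeal_mul hM (memLocalRing_centralChar hM χ.2 g) ?_
        have := (red_eq_zero_iff hM ((hxi.mul hM hxi).sub hM hxi)).1
          (by rw [red_sub hM (hxi.mul hM hxi) hxi, red_mul hM hxi hxi, hx, sub_self]) g
        exact this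
      rw [omega_sub, omega_mul χ.2 hxc]
      have h2 := memLocalIdeal_mul hM (memLocalRing_omega hM χ.2 hxc hxi) (hxy χ)
      convert memLocalIdeal_sub hM h2 hix using 1
      ring
    have h3 := (red_eq_zero_iff hM hui).2 (H35.coeff_mem_of_omega_mem hM huc hui hu2 hu0)
    rwa [red_sub hM hxi (hxi.mul hM hyi), red_mul hM hxi hyi, sub_eq_zero] at h3
  have e1 := key hac hbc hai hbi (hid hai ha) (hid hbi hb) h
  have e2 := key hbc hac hbi hai (hid hbi hb) (hid hai ha) fun χ => by
    simpa using memLocalIdeal_neg (h χ)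
  have heq : red hM a = red hM b := by
    rw [e1]; conv_rhs => rw [e2]
    rw [← red_mul hM hai hbi, isCentralElt_comm hac, red_mul hM hbi hai]
  have := (red_eq_zero_iff hM (hai.sub hM hbi)).1
    (by rw [red_sub hM hai hbi, heq, sub_self]) g
  rwa [coeff_sub, Finsupp.sub_apply] at this

omit [Fintype G] [Fact p.Prime] in
/-- A `p`-local condition inside a subgroup. -/
lemma coe_mem_centralizer_iff {P H : Subgroup G} (hPH : P ≤ H) (x : H) :
    x ∈ Subgroup.centralizer (P.subgroupOf H : Set H) ↔
      (x : G) ∈ Subgroup.centralizer (P : Set G) := by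
  simp only [Subgroup.mem_centralizer_iff]
  constructor
  · exact fun h q hq => congrArg Subtype.val (h ⟨q, hPH hq⟩ (Subgroup.mem_subgroupOf.2 hq))
  · exact fun h q hq => Subtype.ext (h q (Subgroup.mem_subgroupOf.1 hq))

/-- The Brauer correspondence over `H ⊇ N(P)`, with `L = P C(P)`. -/
structure LocalPair (p : ℕ) (P L H : Subgroup G) : Prop where
  isPGroup : IsPGroup p P
  le : P ≤ L
  centralizer_le : Subgroup.centralizer (P : Set G) ≤ L
  le_normalizer : L ≤ Subgroup.normalizer (P : Set G)
  normalizer_le : Subgroup.normalizer (P : Set G) ≤ Subgroup.normalizer (L : Set G)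
  normalizer_le_sub : Subgroup.normalizer (P : Set G) ≤ H

variable {P L H : Subgroup G}

namespace LocalPair

variable (S : LocalPair p P L H)
include S

omit [Fintype G] [Fact p.Prime] in
lemma le_sub : L ≤ H := S.le_normalizer.trans S.normalizer_le_sub

omit [Fintype G] [Fact p.Prime] in
lemma sub : LocalPair p (P.subgroupOf H) (L.subgroupOf H) (⊤ : Subgroup H) where
  isPGroup := S.isPGroup.comap_of_injective H.subtype (Subgroup.subtype_injective H)
  le := fun _ hx => S.le hx
  centralizer_le := fun _ hx =>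
    S.centralizer_le ((coe_mem_centralizer_iff (S.le.trans S.le_sub) _).1 hx)
  le_normalizer := fun x hx => Subgroup.mem_normalizer_iff.2 fun y => by
    simp only [Subgroup.mem_subgroupOf]
    exact Subgroup.mem_normalizer_iff.1 (S.le_normalizer hx) (y : G)
  normalizer_le := fun x hx => by
    have hxP : (x : G) ∈ Subgroup.normalizer (P : Set G) := Subgroup.mem_normalizer_iff.2 fun y => by
      by_cases hy : y ∈ H
      · exact Subgroup.mem_normalizer_iff.1 hx ⟨y, hy⟩
      · have h1 : y ∉ P := fun h => hy (S.le.trans S.le_sub h)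
        have h2 : (x : G) * y * (x : G)⁻¹ ∉ P := fun h => hy (by
          simpa [mul_assoc] using H.mul_mem (H.mul_mem (H.inv_mem x.2) (S.le.trans S.le_sub h)) x.2)
        simp [h1, h2]
    refine Subgroup.mem_normalizer_iff.2 fun y => ?_
    simp only [Subgroup.mem_subgroupOf]
    exact Subgroup.mem_normalizer_iff.1 (S.normalizer_le hxP) (y : G)
  normalizer_le_sub := le_top

end LocalPair

/-- A character of `L` viewed on `L` inside `H`. -/
noncomputable def pullChar (hLH : L ≤ H) (ξ : IrrCharacter L) : IrrCharacter (L.subgroupOf H) :=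
  ⟨fun x => (ξ : L → ℂ) (Subgroup.subgroupOfEquivOfLe hLH x),
    H80.isIrrCharacter_comp_mulEquiv _ ξ.2⟩

omit [Fact p.Prime] in
lemma pullChar_surjective (hLH : L ≤ H) : Function.Surjective (pullChar hLH) := fun η =>
  ⟨⟨fun x => (η : L.subgroupOf H → ℂ) ((Subgroup.subgroupOfEquivOfLe hLH).symm x),
    H80.isIrrCharacter_comp_mulEquiv _ η.2⟩, Subtype.ext (funext fun x => by
      simp [pullChar])⟩

variable [Fintype L] [Fintype H] [Fintype (L.subgroupOf H)]

omit [Fact p.Prime] in
/-- Central characters and Brauer maps agree under the transport. -/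
lemma omega_pull (hLH : L ≤ H) (hPH : P ≤ H) (ξ : IrrCharacter L) {z : MonoidAlgebra ℂ H}
    {w : MonoidAlgebra ℂ G}
    (hzw : ∀ h : H, (h : G) ∈ Subgroup.centralizer (P : Set G) → (h : G) ∈ L →
      z.coeff h = w.coeff h) :
    omega (pullChar hLH ξ : L.subgroupOf H → ℂ) (brauerMap (P.subgroupOf H) (L.subgroupOf H) z) =
      omega (ξ : L → ℂ) (brauerMap P L w) := by
  classical
  set e := Subgroup.subgroupOfEquivOfLe hLH
  have h1 : ∀ x : L.subgroupOf H, (pullChar hLH ξ : L.subgroupOf H → ℂ) x = (ξ : L → ℂ) (e x) :=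
    fun _ => rfl
  simp only [omega, chiLin, h1, map_one]
  congr 1
  refine Fintype.sum_equiv e.toEquiv _ _ fun x => ?_
  simp only [MulEquiv.toEquiv_eq_coe, EquivLike.coe_coe, coeff_brauerMap]
  have hx : ((e x : L) : G) = ((x : H) : G) := rfl
  simp only [coe_mem_centralizer_iff hPH, hx]
  split_ifs with hc
  · rw [hzw _ hc (Subgroup.mem_subgroupOf.1 x.2)]
  · rfl

/-- The two induced blocks of a root are compatible. -/
theorem inducedBlock_of_pair (hM : IsPModular p M) (S : LocalPair p P L H) {ξ : IrrCharacter L}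
    {B : Set (IrrCharacter G)} {c : Set (IrrCharacter H)}
    (hB : IsInducedBlock M L (blockOf M (ξ : L → ℂ)) B)
    (hc : IsInducedBlock M (L.subgroupOf H)
      (blockOf M (pullChar S.le_sub ξ : L.subgroupOf H → ℂ)) c) :
    IsInducedBlock M H c B := by
  have S' := S.sub
  refine ⟨hc.2.1, hB.2.1, fun ψ hψ χ hχ g => ?_⟩
  have h1 := omega_brauerMap_of_induced hM S.isPGroup S.le S.centralizer_le S.le_normalizer hB
    (self_mem_blockOf hM ξ) hχ (isCentralElt_classSum g) (isIntElt_classSum hM g)
  have h2 := omega_brauerMap_of_induced hM S'.isPGroup S'.le S'.centralizer_le S'.le_normalizer hc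
    (self_mem_blockOf hM _) hψ (isCentralElt_resMap (H := H) (isCentralElt_classSum g))
    (isIntElt_resMap (isIntElt_classSum hM g))
  rw [omega_pull S.le_sub (S.le.trans S.le_sub) ξ (w := classSum g)
    (fun h _ _ => coeff_resMap h)] at h2
  rw [omega_classSum (IsIrr.isClassFunction χ.2)] at h1
  rw [omega_resMap_classSum] at h2
  convert memLocalIdeal_sub hM h1 h2 using 1
  ring

/-- Elements of `C_H(P)` with local Sylow condition in `H` are local classes of `G`. -/
theorem localClass_of_sub (S : LocalPair p P L H) {h : H}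
    (hh : IsLocalClass p (P.subgroupOf H) h) : IsLocalClass p P (h : G) := by
  have hPH := S.le.trans S.le_sub
  obtain ⟨hC, R, hR⟩ := hh
  have hC' := (coe_mem_centralizer_iff hPH h).1 hC
  refine ⟨hC', H35.exists_sylow_of_normalizer ?_⟩
  have hPK : P ≤ Subgroup.centralizer ({(h : G)} : Set G) ⊓ Subgroup.normalizer (P : Set G) :=
    fun q hq => ⟨Subgroup.mem_centralizer_singleton_iff.2
      (Subgroup.mem_centralizer_iff.1 hC' q hq), Subgroup.le_normalizer hq⟩
  set K := Subgroup.centralizer ({(h : G)} : Set G) ⊓ Subgroup.normalizer (P : Set G)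
  obtain ⟨e, he⟩ := IsPGroup.iff_card.1 S.isPGroup
  have hcard : Nat.card P = p ^ (Nat.card (Subgroup.centralizer ({h} : Set H))).factorization p := by
    rw [← Nat.card_congr (Subgroup.subgroupOfEquivOfLe hPH).toEquiv, ← hR, H35.card_sylImage]
  have hdvd : Nat.card K ∣ Nat.card (Subgroup.centralizer ({h} : Set H)) := by
    refine Subgroup.card_dvd_of_injective
      ({ toFun := fun x => ⟨⟨x, S.normalizer_le_sub x.2.2⟩,
          Subgroup.mem_centralizer_singleton_iff.2
            (Subtype.ext (Subgroup.mem_centralizer_singleton_iff.1 x.2.1))⟩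
         map_one' := rfl
         map_mul' := fun _ _ => rfl } : K →* Subgroup.centralizer ({h} : Set H)) fun a b hab => ?_
    exact Subtype.ext (congrArg (fun y : Subgroup.centralizer ({h} : Set H) => ((y : H) : G)) hab)
  refine H35.exists_sylow_map_eq hPK ?_
  refine le_antisymm ?_ ?_
  · rw [he]
    refine Nat.pow_le_pow_right (Fact.out : p.Prime).pos ?_
    rw [← (Fact.out : p.Prime).pow_dvd_iff_le_factorization Nat.card_pos.ne', ← he]
    exact Subgroup.card_dvd_of_le hPK
  · rw [hcard]
    exact Nat.pow_le_pow_right (Fact.out : p.Prime).pos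
      ((Nat.factorization_le_iff_dvd Nat.card_pos.ne' Nat.card_pos.ne').2 hdvd p)

/-- The induced block of a root of a block of `H` with defect group `P` has defect group `P`. -/
theorem isDefectGroup_up (hM : IsPModular p M) (S : LocalPair p P L H) {ξ : IrrCharacter L}
    {B : Set (IrrCharacter G)} {c : Set (IrrCharacter H)}
    (hB : IsInducedBlock M L (blockOf M (ξ : L → ℂ)) B)
    (hc : IsInducedBlock M (L.subgroupOf H)
      (blockOf M (pullChar S.le_sub ξ : L.subgroupOf H → ℂ)) c)
    (hcP : IsDefectGroup p M c (P.subgroupOf H)) : IsDefectGroup p M B P := by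
  classical
  have S' := S.sub
  obtain ⟨h, hloc, hdef⟩ := exists_localClass hcP
  have hlocG := localClass_of_sub S hloc
  obtain ⟨χ, hχ⟩ := isPBlock_nonempty hM hB.2.1
  obtain ⟨ψ, hψ⟩ := isPBlock_nonempty hM hc.2.1
  have hunit : ¬ MemLocalIdeal M (centralChar (χ : G → ℂ) (h : G)) := by
    have h1 := omega_brauerMap_of_induced hM S.isPGroup S.le S.centralizer_le S.le_normalizer hB
      (self_mem_blockOf hM ξ) hχ (isCentralElt_classSum (h : G)) (isIntElt_classSum hM _)
    have h2 := omega_brauerMap_of_induced hM S'.isPGroup S'.le S'.centralizer_le S'.le_normalizer hc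
      (self_mem_blockOf hM _) hψ (isCentralElt_classSum h) (isIntElt_classSum hM h)
    rw [omega_classSum (IsIrr.isClassFunction χ.2)] at h1
    rw [omega_classSum (IsIrr.isClassFunction ψ.2),
      omega_pull S.le_sub (S.le.trans S.le_sub) ξ (w := classSum (h : G)) fun x hx _ => ?_] at h2
    · intro hm
      exact hdef.2.2 ψ hψ (by
        simpa using memLocalIdeal_sub hM (memLocalIdeal_add hM h1 hm) h2)
    · simp only [classSum, coeff_ofFun]
      have : IsConj (h : G) (x : G) ↔ IsConj h x := by
        refine ⟨fun hc' => ?_, fun hc' => H.subtype.map_isConj hc'⟩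
        obtain ⟨n, hn, hne⟩ := H35.exists_normalizer_conj hlocG.2
          (H35.exists_sylow_of_isConj hlocG.2 hc' hx) hc'
        exact isConj_iff.2 ⟨⟨n, S.normalizer_le_sub hn⟩, Subtype.ext hne⟩
      simp only [this]
  obtain ⟨y, hyC, hy⟩ := exists_coeff_of_root hM S.isPGroup S.le S.centralizer_le S.le_normalizer
    hB.2.1 hB
  obtain ⟨D, hD, hPD⟩ := H35.exists_defectGroup_ge hM hB.2.1 hy P S.isPGroup fun q hq =>
    Subgroup.mem_centralizer_singleton_iff.2 (Subgroup.mem_centralizer_iff.1 hyC q hq)
  obtain ⟨R, hR⟩ := hlocG.2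
  obtain ⟨d, hd, T, hT⟩ := id hD
  obtain ⟨a, ha⟩ := H35.exists_sylImage_le hM hB.2.1 hχ hunit hd.2.1 T R
  have hcard := Subgroup.card_le_of_le ha
  rw [Subgroup.card_map_of_injective (MulAut.conj a).injective, hR] at hcard
  exact (Subgroup.eq_of_le_of_card_ge hPD (le_of_eq_of_le (by rw [hT]; rfl) hcard)).symm ▸ hD

/-- The block of `H` below a block with defect group `P` has defect group `P`. -/
theorem isDefectGroup_down (hM : IsPModular p M) (S : LocalPair p P L H) {ξ : IrrCharacter L}
    {B : Set (IrrCharacter G)} {c : Set (IrrCharacter H)}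
    (hB : IsInducedBlock M L (blockOf M (ξ : L → ℂ)) B)
    (hc : IsInducedBlock M (L.subgroupOf H)
      (blockOf M (pullChar S.le_sub ξ : L.subgroupOf H → ℂ)) c)
    (hBP : IsDefectGroup p M B P) : IsDefectGroup p M c (P.subgroupOf H) := by
  have S' := S.sub
  obtain ⟨y, hyC, hy⟩ := exists_coeff_of_root hM S'.isPGroup S'.le S'.centralizer_le
    S'.le_normalizer hc.2.1 hc
  obtain ⟨D, hD, hPD⟩ := H35.exists_defectGroup_ge hM hc.2.1 hy (P.subgroupOf H) S'.isPGroup
    fun q hq => Subgroup.mem_centralizer_singleton_iff.2 (Subgroup.mem_centralizer_iff.1 hyC q hq)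
  obtain ⟨E, hE, hDE⟩ := H35.defectGroup_le_induced hM H (inducedBlock_of_pair hM S hB hc) hD
  have hcard := Subgroup.card_le_of_le hDE
  rw [Subgroup.card_map_of_injective H.subtype_injective, H35.card_defectGroup hM hB.2.1 hE,
    ← H35.card_defectGroup hM hB.2.1 hBP,
    ← Nat.card_congr (Subgroup.subgroupOfEquivOfLe (S.le.trans S.le_sub)).toEquiv] at hcard
  exact (Subgroup.eq_of_le_of_card_ge hPD hcard).symm ▸ hD

/-- Blocks with a common root have congruent idempotents on the centralizer of `P`. -/
theorem coeff_congr_of_pair (hM : IsPModular p M) (S : LocalPair p P L H) {ξ : IrrCharacter L}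
    {B : Set (IrrCharacter G)} {c : Set (IrrCharacter H)}
    (hB : IsInducedBlock M L (blockOf M (ξ : L → ℂ)) B)
    (hc : IsInducedBlock M (L.subgroupOf H)
      (blockOf M (pullChar S.le_sub ξ : L.subgroupOf H → ℂ)) c)
    (hBP : IsDefectGroup p M B P) {x : G} (hx : x ∈ Subgroup.centralizer (P : Set G)) :
    MemLocalIdeal M (blockCoeff B x - subgroupBlockCoeff H c x) := by
  classical
  have S' := S.sub
  obtain ⟨g, hloc, hg⟩ := exists_localClass hBP
  let z : MonoidAlgebra ℂ G := ofFun fun y =>
    if y ∈ Subgroup.centralizer (P : Set G) then subgroupBlockCoeff H c y else 0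
  have hCH : ∀ y ∈ Subgroup.centralizer (P : Set G), y ∈ H := fun y hy =>
    S.le_sub (S.centralizer_le hy)
  have hzc : ∀ h : H, (h : G) ∈ Subgroup.centralizer (P : Set G) →
      z.coeff (h : G) = (blockElem c).coeff h := fun h hh => by
    simp [z, hh, subgroupBlockCoeff, coeff_blockElem]
  have hzi : IsIntElt M z := fun y => by
    simp only [z, coeff_ofFun, subgroupBlockCoeff]
    split_ifs
    exacts [memLocalRing_blockCoeff hM hc.2.1 _, (locRing hM).zero_mem, (locRing hM).zero_mem]
  have hzs : ∀ y, y ∉ L → z.coeff y = 0 := fun y hy => by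
    have hy' : y ∉ Subgroup.centralizer (P : Set G) := fun h => hy (S.centralizer_le h)
    simp [z, hy']
  have hzN : ∀ n ∈ Subgroup.normalizer (P : Set G), ∀ y, z.coeff (n * y * n⁻¹) = z.coeff y := by
    intro n hn y
    simp only [z, coeff_ofFun, conj_mem_centralizer_of_normalizer hn y]
    split_ifs with hy
    · simp only [subgroupBlockCoeff, dif_pos (hCH y hy),
        dif_pos (hCH _ ((conj_mem_centralizer_of_normalizer hn y).2 hy))]
      exact isClassFunction_blockCoeff c (⟨y, hCH y hy⟩ : H) ⟨n, S.normalizer_le_sub hn⟩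
    · rfl
  have hres : resMap L z = brauerMap P L z := by
    apply coeff_injective; ext y
    simp only [coeff_resMap, coeff_brauerMap]
    split_ifs with hy
    · rfl
    · simp [z, hy]
  have hpull : ∀ η : IrrCharacter L, omega (η : L → ℂ) (brauerMap P L z) =
      omega (pullChar S.le_sub η : L.subgroupOf H → ℂ)
        (brauerMap (P.subgroupOf H) (L.subgroupOf H) (blockElem c)) := fun η =>
    (omega_pull S.le_sub (S.le.trans S.le_sub) η (fun h hh _ => (hzc h hh).symm)).symm
  have ha : IsCentralElt (brauerMap P L (blockElem B)) :=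
    isCentralElt_brauerMap S.le_normalizer (isCentralElt_blockElem B)
  have hb : IsCentralElt (resMap L z) := fun a b => by
    simp only [coeff_resMap, Subgroup.coe_mul, Subgroup.coe_inv]
    exact hzN b (S.le_normalizer b.2) a
  have hmain : ∀ η : IrrCharacter L, MemLocalIdeal M
      (omega (η : L → ℂ) (brauerMap P L (blockElem B)) - omega (η : L → ℂ) (resMap L z)) := by
    intro η
    obtain ⟨χ, hχ⟩ := isPBlock_nonempty hM hB.2.1
    obtain ⟨ψ, hψ⟩ := isPBlock_nonempty hM hc.2.1
    obtain ⟨B₁, hB₁⟩ := inducedBlockDefined hM S.isPGroup S.le S.centralizer_le S.le_normalizer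
      (isPBlock_blockOf M η)
    obtain ⟨c₁, hc₁⟩ := inducedBlockDefined hM S'.isPGroup S'.le S'.centralizer_le S'.le_normalizer
      (isPBlock_blockOf M (pullChar S.le_sub η))
    obtain ⟨χ₁, hχ₁⟩ := isPBlock_nonempty hM hB₁.2.1
    obtain ⟨ψ₁, hψ₁⟩ := isPBlock_nonempty hM hc₁.2.1
    have h1 := omega_brauerMap_of_induced hM S.isPGroup S.le S.centralizer_le S.le_normalizer hB₁
      (self_mem_blockOf hM η) hχ₁ (isCentralElt_blockElem B) (isIntElt_blockElem hM hB.2.1)
    have h2 := omega_brauerMap_of_induced hM S'.isPGroup S'.le S'.centralizer_le S'.le_normalizer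
      hc₁ (self_mem_blockOf hM _) hψ₁ (isCentralElt_blockElem c) (isIntElt_blockElem hM hc.2.1)
    rw [← hpull, ← hres] at h2
    have hiff : (χ₁ ∈ B) ↔ (ψ₁ ∈ c) := by
      constructor
      · intro hm
        have hB₁' : B₁ = B := isPBlock_eq_of_mem hM hB₁.2.1 hB.2.1 hχ₁ hm
        subst hB₁'
        by_contra hn
        rw [omega_blockElem, if_neg hn, sub_zero] at h2
        have h3 := omega_congr_of_roots hM S.isPGroup S.le S.centralizer_le S.le_normalizer
          S.normalizer_le hloc hg.2.2 hB hB₁ hzs hzi hzN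
        have h4 : MemLocalIdeal M (omega (ξ : L → ℂ) (resMap L z)) := by
          simpa using memLocalIdeal_add hM h3 h2
        rw [hres, hpull] at h4
        exact (induced_iff_brauer_unit hM S'.isPGroup S'.le S'.centralizer_le S'.le_normalizer
          hc.2.1 _).1 hc h4
      · intro hm
        have hc₁' : c₁ = c := isPBlock_eq_of_mem hM hc₁.2.1 hc.2.1 hψ₁ hm
        subst hc₁'
        have := isInducedBlock_unique hM (inducedBlock_of_pair hM S hB₁ hc₁)
          (inducedBlock_of_pair hM S hB hc)
        exact this ▸ hχ₁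
    rw [omega_blockElem] at h1 h2
    simp only [hiff] at h1
    simpa using memLocalIdeal_sub hM h1 h2
  have hidB : ∀ g, MemLocalIdeal M ((brauerMap P L (blockElem B) * brauerMap P L (blockElem B)).coeff g -
      (brauerMap P L (blockElem B)).coeff g) := fun g => by
    have := brauerMap_mul_congr hM S.isPGroup S.centralizer_le (isCentralElt_blockElem B)
      (isIntElt_blockElem hM hB.2.1) (isCentralElt_blockElem B) (isIntElt_blockElem hM hB.2.1) g
    rw [blockElem_idem] at this
    simpa using memLocalIdeal_neg this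
  have hidz : ∀ g, MemLocalIdeal M ((resMap L z * resMap L z).coeff g - (resMap L z).coeff g) := by
    intro g
    set e := Subgroup.subgroupOfEquivOfLe S.le_sub
    have hz' : ∀ u : L.subgroupOf H, (resMap L z).coeff (e u) =
        (brauerMap (P.subgroupOf H) (L.subgroupOf H) (blockElem c)).coeff u := by
      intro u
      have hu : ((e u : L) : G) = ((u : H) : G) := rfl
      simp only [coeff_resMap, hu, coeff_brauerMap, coe_mem_centralizer_iff (S.le.trans S.le_sub)]
      split_ifs with hc'
      · exact hzc _ hc'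
      · simp [z, hc']
    have := brauerMap_mul_congr hM S'.isPGroup S'.centralizer_le (isCentralElt_blockElem c)
      (isIntElt_blockElem hM hc.2.1) (isCentralElt_blockElem c) (isIntElt_blockElem hM hc.2.1)
      (e.symm g)
    rw [blockElem_idem] at this
    have h5 := memLocalIdeal_neg this
    rw [neg_sub, ← hz', MulEquiv.apply_symm_apply] at h5
    convert h5 using 2
    rw [coeff_mul_apply_left, coeff_mul_apply_left, Finsupp.sum_fintype _ _ (by simp),
      Finsupp.sum_fintype _ _ (by simp)]
    refine Fintype.sum_equiv e.symm.toEquiv _ _ fun a => ?_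
    simp only [MulEquiv.toEquiv_eq_coe, EquivLike.coe_coe, ← hz', map_mul, map_inv,
      MulEquiv.apply_symm_apply]
  have h6 := coeff_congr_of_omega hM ha hb (isIntElt_brauerMap hM (isIntElt_blockElem hM hB.2.1))
    (isIntElt_resMap hzi) hidB hidz hmain ⟨x, S.centralizer_le hx⟩
  rw [coeff_brauerMap, if_pos hx, coeff_resMap, coeff_blockElem] at h6
  simpa [z, hx] using h6

end Cfsg.Agent.BlockBasic
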