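import Cfsg.Prelude.Def_Blocks
import Mathlib.RingTheory.Ideal.Quotient.Operations
import Mathlib.RingTheory.Polynomial.RationalRoot
import Mathlib.RingTheory.Int.Basic
import Mathlib.FieldTheory.Minpoly.Basic
import Mathlib.Analysis.Complex.Polynomial.Basic
import Mathlib.RingTheory.RootsOfUnity.Complex
import Mathlib.RingTheory.RootsOfUnity.PrimitiveRoots
import Mathlib.Algebra.CharP.Quotient

/-!
# The local ring of algebraic integers at a modular maximal ideal
-/

namespace Cfsg.Agent.BlockBasic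

open Polynomial

variable {p : ℕ} {M : Ideal AlgInt}

lemma algInt_isIntegral (a : AlgInt) : IsIntegral ℤ (a : ℂ) := a.2

/-- A rational integer quotient which is an algebraic integer is an integer. -/
lemma dvd_of_isIntegral_div {m : ℤ} {n : ℤ} (hn : n ≠ 0)
    (h : IsIntegral ℤ ((m : ℂ) / (n : ℂ))) : n ∣ m := by
  have h2 : IsIntegral ℤ (algebraMap ℚ ℂ ((m : ℚ) / n)) := by simpa using h
  rw [isIntegral_algebraMap_iff (algebraMap ℚ ℂ).injective] at h2
  obtain ⟨z, hz⟩ := IsIntegrallyClosed.isIntegral_iff.1 h2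
  refine ⟨z, ?_⟩
  have hn' : (n : ℚ) ≠ 0 := by exact_mod_cast hn
  have hz' : (z : ℚ) = (m : ℚ) / n := by simpa using hz
  have : (m : ℚ) = (n : ℚ) * z := by rw [hz']; field_simp
  exact_mod_cast this

lemma isPrime (hM : IsPModular p M) : M.IsPrime := hM.2.1.isPrime

lemma natCast_mem_iff (hM : IsPModular p M) (n : ℕ) : (n : AlgInt) ∈ M ↔ p ∣ n := by
  refine ⟨fun h => ?_, fun ⟨k, hk⟩ => ?_⟩
  · by_contra hd
    have hg : Nat.gcd p n = 1 := (hM.1.coprime_iff_not_dvd.2 hd)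
    have he : ((Nat.gcd p n : ℕ) : AlgInt) =
        (p : AlgInt) * ((Nat.gcdA p n : ℤ) : AlgInt) + (n : AlgInt) * ((Nat.gcdB p n : ℤ) : AlgInt) := by
      have := congrArg (fun z : ℤ => (z : AlgInt)) (Nat.gcd_eq_gcd_ab p n)
      push_cast at this
      exact this
    have h1 : (1 : AlgInt) ∈ M := by
      rw [hg, Nat.cast_one] at he
      rw [he]
      exact M.add_mem (M.mul_mem_right _ hM.2.2) (M.mul_mem_right _ h)
    exact hM.2.1.ne_top ((Ideal.eq_top_iff_one M).2 h1)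
  · rw [hk, Nat.cast_mul]
    exact M.mul_mem_right _ hM.2.2

lemma intCast_mem_iff (hM : IsPModular p M) (n : ℤ) : (n : AlgInt) ∈ M ↔ (p : ℤ) ∣ n := by
  obtain ⟨m, rfl | rfl⟩ := Int.eq_nat_or_neg n
  · rw [Int.cast_natCast, natCast_mem_iff hM, Int.natCast_dvd_natCast]
  · rw [Int.cast_neg, Int.cast_natCast, neg_mem_iff, natCast_mem_iff hM, Int.dvd_neg,
      Int.natCast_dvd_natCast]

/-- Modular maximal ideals exist. -/
theorem exists_isPModular {p : ℕ} (hp : p.Prime) : ∃ M : Ideal AlgInt, IsPModular p M := by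
  have hne : Ideal.span ({(p : AlgInt)} : Set AlgInt) ≠ ⊤ := by
    rw [Ne, Ideal.span_singleton_eq_top]
    intro hu
    obtain ⟨c, hc⟩ := hu.exists_right_inv
    have hc' : (p : ℂ) * (c : ℂ) = 1 := by
      have := congrArg (fun x : AlgInt => (x : ℂ)) hc
      simpa using this
    have hi : IsIntegral ℤ (((1 : ℤ) : ℂ) / ((p : ℤ) : ℂ)) := by
      have : (c : ℂ) = ((1 : ℤ) : ℂ) / ((p : ℤ) : ℂ) := by
        push_cast
        rw [eq_div_iff (Nat.cast_ne_zero.2 hp.ne_zero), mul_comm, hc']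
      exact this ▸ c.2
    have := dvd_of_isIntegral_div (by exact_mod_cast hp.ne_zero) hi
    exact hp.ne_one (Nat.dvd_one.1 (by exact_mod_cast this))
  obtain ⟨M, hMmax, hle⟩ := Ideal.exists_le_maximal _ hne
  exact ⟨M, hp, hMmax, hle (Ideal.subset_span rfl)⟩

lemma coe_ne_zero (b : AlgInt) (hb : b ∉ M) : (b : ℂ) ≠ 0 := by
  intro h
  have : b = 0 := Subtype.ext h
  exact hb (this ▸ M.zero_mem)

lemma one_not_mem (hM : IsPModular p M) : (1 : AlgInt) ∉ M :=
  fun h => hM.2.1.ne_top ((Ideal.eq_top_iff_one M).2 h)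

lemma mul_not_mem (hM : IsPModular p M) {a b : AlgInt} (ha : a ∉ M) (hb : b ∉ M) :
    a * b ∉ M := fun h => ((isPrime hM).mem_or_mem h).elim ha hb

lemma memLocalRing_coe (hM : IsPModular p M) (a : AlgInt) : MemLocalRing M (a : ℂ) :=
  ⟨a, 1, one_not_mem hM, by simp⟩

lemma memLocalRing_add (hM : IsPModular p M) {x y : ℂ} (hx : MemLocalRing M x)
    (hy : MemLocalRing M y) : MemLocalRing M (x + y) := by
  obtain ⟨a, b, hb, rfl⟩ := hx
  obtain ⟨c, d, hd, rfl⟩ := hy
  refine ⟨a * d + b * c, b * d, mul_not_mem hM hb hd, ?_⟩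
  push_cast
  rw [div_add_div _ _ (coe_ne_zero b hb) (coe_ne_zero d hd)]

lemma memLocalRing_mul (hM : IsPModular p M) {x y : ℂ} (hx : MemLocalRing M x)
    (hy : MemLocalRing M y) : MemLocalRing M (x * y) := by
  obtain ⟨a, b, hb, rfl⟩ := hx
  obtain ⟨c, d, hd, rfl⟩ := hy
  refine ⟨a * c, b * d, mul_not_mem hM hb hd, ?_⟩
  push_cast
  rw [div_mul_div_comm]

lemma memLocalRing_neg {x : ℂ} (hx : MemLocalRing M x) : MemLocalRing M (-x) := by
  obtain ⟨a, b, hb, rfl⟩ := hx
  exact ⟨-a, b, hb, by push_cast; rw [neg_div]⟩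

/-- The localisation of the algebraic integers at `M`, as a subring of `ℂ`. -/
def locRing (hM : IsPModular p M) : Subring ℂ where
  carrier := {z | MemLocalRing M z}
  mul_mem' := memLocalRing_mul hM
  one_mem' := by simpa using memLocalRing_coe hM 1
  add_mem' := memLocalRing_add hM
  zero_mem' := by simpa using memLocalRing_coe hM 0
  neg_mem' := memLocalRing_neg

lemma mem_locRing {hM : IsPModular p M} {z : ℂ} : z ∈ locRing hM ↔ MemLocalRing M z := Iff.rfl

lemma MemLocalIdeal.memLocalRing {z : ℂ} (h : MemLocalIdeal M z) : MemLocalRing M z := by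
  obtain ⟨a, b, -, hb, he⟩ := h
  exact ⟨a, b, hb, he⟩

lemma memLocalIdeal_zero (hM : IsPModular p M) : MemLocalIdeal M 0 :=
  ⟨0, 1, M.zero_mem, one_not_mem hM, by simp⟩

lemma memLocalIdeal_add (hM : IsPModular p M) {x y : ℂ} (hx : MemLocalIdeal M x)
    (hy : MemLocalIdeal M y) : MemLocalIdeal M (x + y) := by
  obtain ⟨a, b, ha, hb, rfl⟩ := hx
  obtain ⟨c, d, hc, hd, rfl⟩ := hy
  refine ⟨a * d + b * c, b * d, M.add_mem (M.mul_mem_right _ ha) (M.mul_mem_left _ hc),
    mul_not_mem hM hb hd, ?_⟩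
  push_cast
  rw [div_add_div _ _ (coe_ne_zero b hb) (coe_ne_zero d hd)]

lemma memLocalIdeal_mul (hM : IsPModular p M) {x y : ℂ} (hx : MemLocalRing M x)
    (hy : MemLocalIdeal M y) : MemLocalIdeal M (x * y) := by
  obtain ⟨a, b, hb, rfl⟩ := hx
  obtain ⟨c, d, hc, hd, rfl⟩ := hy
  refine ⟨a * c, b * d, M.mul_mem_left _ hc, mul_not_mem hM hb hd, ?_⟩
  push_cast
  rw [div_mul_div_comm]

lemma memLocalIdeal_neg {x : ℂ} (hx : MemLocalIdeal M x) : MemLocalIdeal M (-x) := by
  obtain ⟨a, b, ha, hb, rfl⟩ := hx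
  exact ⟨-a, b, M.neg_mem ha, hb, by push_cast; rw [neg_div]⟩

lemma memLocalIdeal_sub (hM : IsPModular p M) {x y : ℂ} (hx : MemLocalIdeal M x)
    (hy : MemLocalIdeal M y) : MemLocalIdeal M (x - y) := by
  rw [sub_eq_add_neg]
  exact memLocalIdeal_add hM hx (memLocalIdeal_neg hy)

/-- For an algebraic integer, lying in the local ideal is lying in `M`. -/
lemma memLocalIdeal_coe_iff (hM : IsPModular p M) (a : AlgInt) :
    MemLocalIdeal M (a : ℂ) ↔ a ∈ M := by
  refine ⟨fun ⟨c, d, hc, hd, he⟩ => ?_, fun h => ⟨a, 1, h, one_not_mem hM, by simp⟩⟩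
  rw [div_eq_iff (coe_ne_zero d hd)] at he
  have : a * d = c := Subtype.ext (by push_cast; exact he.symm)
  exact ((isPrime hM).mem_or_mem (this ▸ hc)).resolve_right hd

lemma memLocalRing_of_isIntegral (hM : IsPModular p M) {z : ℂ} (hz : IsIntegral ℤ z) :
    MemLocalRing M z :=
  memLocalRing_coe hM ⟨z, hz⟩

lemma not_memLocalIdeal_one (hM : IsPModular p M) : ¬ MemLocalIdeal M 1 := by
  intro h
  exact one_not_mem hM ((memLocalIdeal_coe_iff hM 1).1 (by simpa using h))

lemma memLocalRing_natCast (hM : IsPModular p M) (n : ℕ) : MemLocalRing M (n : ℂ) := by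
  simpa using memLocalRing_coe hM (n : AlgInt)

lemma memLocalIdeal_natCast_iff (hM : IsPModular p M) (n : ℕ) :
    MemLocalIdeal M (n : ℂ) ↔ p ∣ n := by
  rw [← natCast_mem_iff hM, ← memLocalIdeal_coe_iff hM]
  push_cast
  rfl

lemma memLocalIdeal_intCast_iff (hM : IsPModular p M) (n : ℤ) :
    MemLocalIdeal M (n : ℂ) ↔ (p : ℤ) ∣ n := by
  rw [← intCast_mem_iff hM, ← memLocalIdeal_coe_iff hM]
  push_cast
  rfl

/-- An element of the local ring outside the local ideal is invertible there. -/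
lemma memLocalRing_inv (hM : IsPModular p M) {z : ℂ} (hz : MemLocalRing M z)
    (hz' : ¬ MemLocalIdeal M z) : MemLocalRing M z⁻¹ := by
  obtain ⟨a, b, hb, rfl⟩ := hz
  refine ⟨b, a, fun ha => hz' ⟨a, b, ha, hb, rfl⟩, ?_⟩
  rw [inv_div]

lemma memLocalRing_natCast_inv (hM : IsPModular p M) {n : ℕ} (hn : ¬ p ∣ n) :
    MemLocalRing M (n : ℂ)⁻¹ :=
  memLocalRing_inv hM (memLocalRing_natCast hM n) (fun h => hn ((memLocalIdeal_natCast_iff hM n).1 h))

lemma memLocalIdeal_mul_iff (hM : IsPModular p M) {x y : ℂ} (hx : MemLocalRing M x)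
    (hy : MemLocalRing M y) :
    MemLocalIdeal M (x * y) ↔ MemLocalIdeal M x ∨ MemLocalIdeal M y := by
  constructor
  · intro h
    by_contra hc
    rw [not_or] at hc
    have hx0 : x ≠ 0 := fun e => hc.1 (e ▸ memLocalIdeal_zero hM)
    exact hc.2 (by simpa [hx0] using memLocalIdeal_mul hM (memLocalRing_inv hM hx hc.1) h)
  · rintro (h | h)
    · rw [mul_comm]; exact memLocalIdeal_mul hM hy h
    · exact memLocalIdeal_mul hM hx h

/-- The maximal ideal of the local ring. -/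
def locMax (hM : IsPModular p M) : Ideal (locRing hM) where
  carrier := {x | MemLocalIdeal M (x : ℂ)}
  add_mem' := memLocalIdeal_add hM
  zero_mem' := memLocalIdeal_zero hM
  smul_mem' c _ hx := memLocalIdeal_mul hM c.2 hx

lemma mem_locMax {hM : IsPModular p M} {x : locRing hM} :
    x ∈ locMax hM ↔ MemLocalIdeal M (x : ℂ) := Iff.rfl

lemma isUnit_iff_not_mem_locMax (hM : IsPModular p M) (x : locRing hM) :
    IsUnit x ↔ x ∉ locMax hM := by
  constructor
  · intro hu hx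
    have h : (locMax hM) = ⊤ := Ideal.eq_top_of_isUnit_mem _ hx hu
    exact not_memLocalIdeal_one hM (show (1 : locRing hM) ∈ locMax hM by rw [h]; trivial)
  · intro hx
    have hx0 : (x : ℂ) ≠ 0 := fun e => hx (show MemLocalIdeal M _ by rw [e]; exact memLocalIdeal_zero hM)
    exact IsUnit.of_mul_eq_one ⟨(x : ℂ)⁻¹, memLocalRing_inv hM x.2 hx⟩
      (Subtype.ext (mul_inv_cancel₀ hx0))

lemma locMax_isMaximal (hM : IsPModular p M) : (locMax hM).IsMaximal := by
  refine ⟨⟨fun h => not_memLocalIdeal_one hM (show (1 : locRing hM) ∈ locMax hM by rw [h]; trivial),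
    fun J hJ => ?_⟩⟩
  obtain ⟨x, hxJ, hx⟩ := SetLike.exists_of_lt hJ
  exact Ideal.eq_top_of_isUnit_mem _ hxJ ((isUnit_iff_not_mem_locMax hM x).2 hx)

lemma natCast_p_mem_locMax (hM : IsPModular p M) : (p : locRing hM) ∈ locMax hM := by
  rw [mem_locMax]
  simpa using (memLocalIdeal_natCast_iff hM p).2 dvd_rfl

/-- Some power of each element of `M` is divisible by `p` in the local ring. -/
lemma exists_pow_eq_natCast_mul_of_mem (hM : IsPModular p M) {m : AlgInt} (hm : m ∈ M) :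
    ∃ N : ℕ, ∃ r : ℂ, MemLocalRing M r ∧ (m : ℂ) ^ N = (p : ℂ) * r := by
  obtain ⟨f, hmo, hf⟩ := m.2
  have hex : ∃ j, ¬ (p : ℤ) ∣ f.coeff j := ⟨f.natDegree, by
    rw [hmo.coeff_natDegree]
    intro h
    exact hM.1.ne_one (Nat.dvd_one.1 (by exact_mod_cast h))⟩
  classical
  let j := Nat.find hex
  have hj : ¬ (p : ℤ) ∣ f.coeff j := Nat.find_spec hex
  have hlt : ∀ i < j, (p : ℤ) ∣ f.coeff i := fun i hi => not_not.1 (Nat.find_min hex hi)
  choose c hc using hlt
  have hjd : j ≤ f.natDegree := by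
    by_contra h
    exact hj ((coeff_eq_zero_of_natDegree_lt (not_le.1 h)).symm ▸ dvd_zero _)
  -- evaluate in the ring of algebraic integers
  have hf' : ∑ i ∈ Finset.range (f.natDegree + 1), (f.coeff i : AlgInt) * m ^ i = 0 := by
    apply Subtype.ext
    have := hf
    rw [eval₂_eq_sum_range] at this
    push_cast
    simpa using this
  let S : AlgInt := ∑ i ∈ Finset.Ico j (f.natDegree + 1), (f.coeff i : AlgInt) * m ^ (i - j)
  let T : AlgInt := ∑ i ∈ (Finset.range j).attach,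
    (c i (Finset.mem_range.1 i.2) : AlgInt) * m ^ (i : ℕ)
  have hST : m ^ j * S + (p : AlgInt) * T = 0 := by
    rw [← hf', ← Finset.sum_range_add_sum_Ico _ (Nat.le_succ_of_le hjd), add_comm]
    congr 1
    · rw [← Finset.sum_attach (Finset.range j) (fun i => (f.coeff i : AlgInt) * m ^ i)]
      simp only [T, Finset.mul_sum]
      refine Finset.sum_congr rfl fun i _ => ?_
      rw [hc i (Finset.mem_range.1 i.2), Int.cast_mul, Int.cast_natCast, mul_assoc]
    · simp only [S, Finset.mul_sum]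
      refine Finset.sum_congr rfl fun i hi => ?_
      rw [mul_left_comm, ← pow_add, Nat.add_sub_cancel' (Finset.mem_Ico.1 hi).1]
  have hS : S ∉ M := by
    intro hS
    have hsplit : S = (f.coeff j : AlgInt) +
        ∑ i ∈ Finset.Ico (j + 1) (f.natDegree + 1), (f.coeff i : AlgInt) * m ^ (i - j) := by
      show ∑ i ∈ _, _ = _
      rw [Finset.sum_eq_sum_Ico_succ_bot (Nat.lt_succ_of_le hjd)]
      simp
    have hrest : ∑ i ∈ Finset.Ico (j + 1) (f.natDegree + 1),
        (f.coeff i : AlgInt) * m ^ (i - j) ∈ M := by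
      refine Ideal.sum_mem _ fun i hi => M.mul_mem_left _ (Ideal.pow_mem_of_mem _ hm _ ?_)
      have := (Finset.mem_Ico.1 hi).1
      omega
    exact hj ((intCast_mem_iff hM _).1 ((Ideal.add_mem_iff_left _ hrest).1 (hsplit ▸ hS)))
  refine ⟨j, ((-T : AlgInt) : ℂ) / (S : ℂ), ⟨-T, S, hS, rfl⟩, ?_⟩
  have h := congrArg (fun x : AlgInt => (x : ℂ)) hST
  push_cast at h ⊢
  field_simp [coe_ne_zero S hS]
  linear_combination h

lemma exists_pow_eq_natCast_mul (hM : IsPModular p M) {z : ℂ} (hz : MemLocalIdeal M z) :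
    ∃ N : ℕ, ∃ r : ℂ, MemLocalRing M r ∧ z ^ N = (p : ℂ) * r := by
  obtain ⟨a, b, ha, hb, rfl⟩ := hz
  obtain ⟨N, r, hr, he⟩ := exists_pow_eq_natCast_mul_of_mem hM ha
  refine ⟨N, r * ((1 : AlgInt) / (b : ℂ)) ^ N, memLocalRing_mul hM hr ?_, ?_⟩
  · exact pow_mem (mem_locRing (hM := hM).2 ⟨1, b, hb, rfl⟩) N
  · rw [div_pow, he]
    push_cast
    rw [div_pow]
    ring

/-- An element of the local ring divisible by every power of `p` is zero. -/
lemma eq_zero_of_forall_dvd (hM : IsPModular p M) {z : ℂ}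
    (hdvd : ∀ n : ℕ, ∃ r : ℂ, MemLocalRing M r ∧ z = (p : ℂ) ^ n * r) : z = 0 := by
  obtain ⟨r0, hr0, hz0⟩ := hdvd 0
  simp only [pow_zero, one_mul] at hz0
  obtain ⟨a, b, hb, hab⟩ := hr0
  by_contra hne
  have hzab : z = (a : ℂ) / (b : ℂ) := hz0.trans hab.symm
  have ha0 : (a : ℂ) ≠ 0 := fun e => hne (by rw [hzab, e, zero_div])
  have hint : IsIntegral ℤ (a : ℂ) := a.2
  have hc0 : (minpoly ℤ (a : ℂ)).coeff 0 ≠ 0 := by
    intro h0
    have hX : X ∣ minpoly ℤ (a : ℂ) := X_dvd_iff.2 h0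
    obtain ⟨g, hg⟩ := hX
    have h2 := minpoly.aeval ℤ (a : ℂ)
    rw [hg, map_mul, aeval_X, mul_eq_zero, or_iff_right ha0] at h2
    have hgm : g.Monic := Monic.of_mul_monic_left monic_X (hg ▸ minpoly.monic hint)
    have h3 := natDegree_le_natDegree (minpoly.min ℤ (a : ℂ) hgm h2)
    rw [hg, natDegree_mul X_ne_zero hgm.ne_zero, natDegree_X] at h3
    omega
  set f := minpoly ℤ (a : ℂ) with hf
  set c0 : ℤ := f.coeff 0 with hc0def
  -- c0 is a multiple of a in the algebraic integers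
  let q : AlgInt := aeval a f.divX
  have hq : (c0 : AlgInt) = -(a * q) := by
    have h1 : aeval a f = 0 := by
      apply Subtype.ext
      have := minpoly.aeval ℤ (a : ℂ)
      rw [← hf] at this
      have h2 := Polynomial.aeval_algHom_apply (AlgInt.val) a f
      simp only [Subalgebra.coe_val] at h2
      rw [← h2, this]; rfl
    conv_lhs at h1 => rw [← X_mul_divX_add f]
    simp only [map_add, map_mul, aeval_X, aeval_C] at h1
    rw [eq_neg_iff_add_eq_zero, add_comm]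
    simpa [q] using h1
  have hc0' : (c0 : ℂ) = z * -((b : ℂ) * (q : ℂ)) := by
    have := congrArg (fun x : AlgInt => (x : ℂ)) hq
    push_cast at this
    rw [this, hzab]
    field_simp [coe_ne_zero b hb]
  obtain ⟨v, u, hu, hvu⟩ : ∃ v : ℕ, ∃ u : ℤ, ¬ (p : ℤ) ∣ u ∧ c0 = (p : ℤ) ^ v * u := by
    obtain ⟨v, u, hu, huv⟩ := Nat.exists_eq_pow_mul_and_not_dvd
      (Int.natAbs_ne_zero.2 hc0) p hM.1.ne_one
    refine ⟨v, Int.sign c0 * u, ?_, ?_⟩
    · intro hd
      apply hu
      have := Int.natAbs_dvd_natAbs.2 hd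
      rw [Int.natAbs_mul, Int.natAbs_sign_of_ne_zero hc0, one_mul] at this
      simpa using this
    · conv_lhs => rw [← Int.sign_mul_natAbs c0, huv]
      push_cast
      ring
  obtain ⟨r, hr, hzr⟩ := hdvd (v + 1)
  apply hu
  rw [← memLocalIdeal_intCast_iff hM]
  have hpne : (p : ℂ) ≠ 0 := Nat.cast_ne_zero.2 hM.1.ne_zero
  have : (u : ℂ) = (r * -((b : ℂ) * (q : ℂ))) * (p : ℂ) := by
    apply mul_left_cancel₀ (pow_ne_zero v hpne)
    rw [hvu] at hc0'
    push_cast at hc0'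
    rw [hc0', hzr]
    ring
  rw [this]
  refine memLocalIdeal_mul hM (memLocalRing_mul hM hr (memLocalRing_neg ?_)) ?_
  · exact memLocalRing_mul hM (memLocalRing_coe hM b) (memLocalRing_coe hM q)
  · exact (memLocalIdeal_natCast_iff hM p).2 dvd_rfl

end Cfsg.Agent.BlockBasic
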