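import Cfsg.Agent.CharBasic.Complete
import Cfsg.Agent.BlockBasic.Local
import Mathlib.Algebra.MonoidAlgebra.Basic
import Mathlib.GroupTheory.GroupAction.ConjAct
import Mathlib.RingTheory.IntegralClosure.IsIntegral.Basic

/-!
# Central elements of the complex group algebra and their central characters
-/

open scoped ComplexConjugate
open MonoidAlgebra

namespace Cfsg.Agent.BlockBasic

open CharBasic

universe u

variable {G : Type u} [Group G]

/-- Conjugation invariance of the coefficients. -/
def IsCentralElt (z : MonoidAlgebra ℂ G) : Prop :=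
  IsClassFunction G (fun g => z.coeff g)

lemma isCentralElt_comm {z : MonoidAlgebra ℂ G} (hz : IsCentralElt z) (w : MonoidAlgebra ℂ G) :
    z * w = w * z := by
  induction w using MonoidAlgebra.induction_linear with
  | zero => simp
  | add a b ha hb => rw [mul_add, add_mul, ha, hb]
  | single g r =>
    apply coeff_injective
    ext h
    rw [coeff_mul_single_apply, coeff_single_mul_apply, mul_comm]
    congr 1
    have := hz (h * g⁻¹) g⁻¹
    simp only [inv_inv] at this
    rw [← this]
    congr 1
    group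

lemma isCentralElt_of_comm {z : MonoidAlgebra ℂ G}
    (h : ∀ g : G, z * single g 1 = single g 1 * z) : IsCentralElt z := by
  intro g x
  have := congrArg (fun w => w.coeff (x * g)) (h x)
  simp only [coeff_mul_single_apply, coeff_single_mul_apply, mul_one, one_mul] at this
  simpa [mul_assoc] using this

lemma IsCentralElt.one : IsCentralElt (1 : MonoidAlgebra ℂ G) :=
  isCentralElt_of_comm (by simp)

lemma IsCentralElt.mul {z w : MonoidAlgebra ℂ G} (hz : IsCentralElt z) (hw : IsCentralElt w) :
    IsCentralElt (z * w) := by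
  refine isCentralElt_of_comm fun g => ?_
  rw [mul_assoc, isCentralElt_comm hw, ← mul_assoc, isCentralElt_comm hz, mul_assoc]

lemma IsCentralElt.add {z w : MonoidAlgebra ℂ G} (hz : IsCentralElt z) (hw : IsCentralElt w) :
    IsCentralElt (z + w) := fun g h => by
  simp only [coeff_add, Finsupp.add_apply]
  exact congrArg₂ (· + ·) (hz g h) (hw g h)

lemma IsCentralElt.sub {z w : MonoidAlgebra ℂ G} (hz : IsCentralElt z) (hw : IsCentralElt w) :
    IsCentralElt (z - w) := fun g h => by
  simp only [coeff_sub, Finsupp.sub_apply]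
  exact congrArg₂ (· - ·) (hz g h) (hw g h)

lemma IsCentralElt.smul {z : MonoidAlgebra ℂ G} (c : ℂ) (hz : IsCentralElt z) :
    IsCentralElt (c • z) := fun g h => by
  simp only [coeff_smul_apply, smul_eq_mul]
  exact congrArg (c * ·) (hz g h)

lemma IsCentralElt.pow {z : MonoidAlgebra ℂ G} (hz : IsCentralElt z) (n : ℕ) :
    IsCentralElt (z ^ n) := by
  induction n with
  | zero => simpa using IsCentralElt.one
  | succ n ih => rw [pow_succ]; exact ih.mul hz

/-- The group algebra element with given coefficient function. -/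
noncomputable def ofFun [Finite G] (f : G → ℂ) : MonoidAlgebra ℂ G :=
  .ofCoeff (Finsupp.equivFunOnFinite.symm f)

@[simp] lemma coeff_ofFun [Finite G] (f : G → ℂ) (g : G) : (ofFun f).coeff g = f g := by
  simp [ofFun]

lemma isCentralElt_ofFun [Finite G] {f : G → ℂ} (hf : IsClassFunction G f) :
    IsCentralElt (ofFun f) := fun g h => by simpa using hf g h

open scoped Classical in
/-- The class sum of `g`. -/
noncomputable def classSum [Finite G] (g : G) : MonoidAlgebra ℂ G :=
  ofFun fun h => if IsConj g h then 1 else 0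

lemma isCentralElt_classSum [Finite G] (g : G) : IsCentralElt (classSum g) := by
  classical
  refine isCentralElt_ofFun fun h x => ?_
  have : IsConj g (x * h * x⁻¹) ↔ IsConj g h :=
    ⟨fun hh => hh.trans (isConj_iff.2 ⟨x, rfl⟩).symm, fun hh => hh.trans (isConj_iff.2 ⟨x, rfl⟩)⟩
  simp only [this]

section Lin

variable [Fintype G]

/-- A function on `G`, extended linearly to the group algebra. -/
def chiLin (χ : G → ℂ) (z : MonoidAlgebra ℂ G) : ℂ := ∑ g, z.coeff g * χ g

lemma chiLin_add (χ : G → ℂ) (z w : MonoidAlgebra ℂ G) :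
    chiLin χ (z + w) = chiLin χ z + chiLin χ w := by
  simp [chiLin, add_mul, Finset.sum_add_distrib]

lemma chiLin_sub (χ : G → ℂ) (z w : MonoidAlgebra ℂ G) :
    chiLin χ (z - w) = chiLin χ z - chiLin χ w := by
  simp [chiLin, sub_mul, Finset.sum_sub_distrib]

lemma chiLin_smul (χ : G → ℂ) (c : ℂ) (z : MonoidAlgebra ℂ G) :
    chiLin χ (c • z) = c * chiLin χ z := by
  simp [chiLin, mul_assoc, Finset.mul_sum]

lemma chiLin_single (χ : G → ℂ) (g : G) (c : ℂ) : chiLin χ (single g c) = c * χ g := by
  classical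
  simp [chiLin, coeff_single, Finsupp.single_apply]

lemma chiLin_one (χ : G → ℂ) : chiLin χ (1 : MonoidAlgebra ℂ G) = χ 1 := by
  rw [one_def, chiLin_single, one_mul]

lemma chiLin_eq_trace {n : ℕ} (ρ : Representation ℂ G (Fin n → ℂ)) (z : MonoidAlgebra ℂ G) :
    chiLin ρ.character z = LinearMap.trace ℂ _ (ρ.asAlgebraHom z) := by
  induction z using MonoidAlgebra.induction_linear with
  | zero => simp [chiLin]
  | add a b ha hb => rw [chiLin_add, ha, hb, map_add, map_add]
  | single g r =>
    rw [chiLin_single, Representation.asAlgebraHom_single, map_smul, smul_eq_mul]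
    rfl

lemma irr_one_ne_zero {χ : G → ℂ} (hχ : IsIrrCharacter G χ) : χ 1 ≠ 0 := by
  obtain ⟨n, ρ, hρ, rfl⟩ := hχ
  rw [Representation.char_one]
  exact_mod_cast (finrank_pos_of_isIrreducible ρ).ne'

/-- The central character of `χ` as a function on the group algebra. -/
noncomputable def omega (χ : G → ℂ) (z : MonoidAlgebra ℂ G) : ℂ := chiLin χ z / χ 1

lemma asAlgebraHom_central {n : ℕ} (ρ : Representation ℂ G (Fin n → ℂ)) [ρ.IsIrreducible]
    {z : MonoidAlgebra ℂ G} (hz : IsCentralElt z) :
    ρ.asAlgebraHom z = omega ρ.character z • LinearMap.id := by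
  obtain ⟨c, hc⟩ := schur_scalar ρ (ρ.asAlgebraHom z) fun g => by
    rw [← Representation.asAlgebraHom_single_one ρ g, ← map_mul, ← map_mul, isCentralElt_comm hz]
  have hn : (Module.finrank ℂ (Fin n → ℂ) : ℂ) ≠ 0 := by
    exact_mod_cast (finrank_pos_of_isIrreducible ρ).ne'
  have ho : omega ρ.character z = c := by
    rw [omega, chiLin_eq_trace, hc, map_smul, LinearMap.trace_id, Representation.char_one,
      smul_eq_mul, mul_div_assoc, div_self hn, mul_one]
  rw [ho, hc]

lemma chiLin_central_mul {χ : G → ℂ} (hχ : IsIrrCharacter G χ) {z : MonoidAlgebra ℂ G}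
    (hz : IsCentralElt z) (w : MonoidAlgebra ℂ G) :
    chiLin χ (z * w) = omega χ z * chiLin χ w := by
  obtain ⟨n, ρ, hρ, rfl⟩ := hχ
  rw [chiLin_eq_trace, map_mul, asAlgebraHom_central ρ hz, smul_mul_assoc, map_smul, smul_eq_mul,
    chiLin_eq_trace ρ w]
  rfl

lemma omega_mul {χ : G → ℂ} (hχ : IsIrrCharacter G χ) {z : MonoidAlgebra ℂ G}
    (hz : IsCentralElt z) (w : MonoidAlgebra ℂ G) :
    omega χ (z * w) = omega χ z * omega χ w := by
  rw [omega, chiLin_central_mul hχ hz, mul_div_assoc]
  rfl

lemma omega_one {χ : G → ℂ} (hχ : IsIrrCharacter G χ) : omega χ (1 : MonoidAlgebra ℂ G) = 1 := by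
  rw [omega, chiLin_one, div_self (irr_one_ne_zero hχ)]

lemma omega_pow {χ : G → ℂ} (hχ : IsIrrCharacter G χ) {z : MonoidAlgebra ℂ G}
    (hz : IsCentralElt z) (n : ℕ) : omega χ (z ^ n) = omega χ z ^ n := by
  induction n with
  | zero => rw [pow_zero, pow_zero, omega_one hχ]
  | succ n ih => rw [pow_succ, pow_succ, omega_mul hχ (hz.pow n), ih]

lemma omega_add (χ : G → ℂ) (z w : MonoidAlgebra ℂ G) :
    omega χ (z + w) = omega χ z + omega χ w := by
  rw [omega, chiLin_add, add_div]; rfl

lemma omega_sub (χ : G → ℂ) (z w : MonoidAlgebra ℂ G) :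
    omega χ (z - w) = omega χ z - omega χ w := by
  rw [omega, chiLin_sub, sub_div]; rfl

lemma omega_smul (χ : G → ℂ) (c : ℂ) (z : MonoidAlgebra ℂ G) :
    omega χ (c • z) = c * omega χ z := by
  rw [omega, chiLin_smul, mul_div_assoc]; rfl

/-- The central elements are detected by the central characters: coefficient formula. -/
lemma sum_conjTransporter_coeff (w : MonoidAlgebra ℂ G) (y : G) :
    ∑ h, w.coeff h * (Nat.card {x : G // x * y * x⁻¹ = h} : ℂ) =
      ∑ χ : IrrCharacter G, chiLin (χ : G → ℂ) w * conj ((χ : G → ℂ) y) := by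
  simp only [chiLin, Finset.sum_mul]
  rw [Finset.sum_comm]
  refine Finset.sum_congr rfl fun h _ => ?_
  rw [← second_orthogonality_count h y, Finset.mul_sum]
  exact Finset.sum_congr rfl fun χ _ => by rw [mul_assoc]

lemma card_conjTransporter {y h : G} (hyh : IsConj y h) :
    Nat.card {x : G // x * y * x⁻¹ = h} = Nat.card (Subgroup.centralizer ({y} : Set G)) := by
  obtain ⟨c, rfl⟩ := isConj_iff.1 hyh
  rw [← card_conj_eq_centralizer]
  refine Nat.card_congr ((Equiv.mulLeft c⁻¹).subtypeEquiv fun x => ?_)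
  constructor
  · intro e
    simp only [Equiv.coe_mulLeft]
    rw [show c⁻¹ * x * y * (c⁻¹ * x)⁻¹ = c⁻¹ * (x * y * x⁻¹) * c by group, e]
    group
  · intro e
    simp only [Equiv.coe_mulLeft] at e
    conv_rhs => rw [← e]
    group

open scoped Classical in
lemma card_centralizer_mul_sum_class (w : MonoidAlgebra ℂ G) (y : G) :
    (Nat.card (Subgroup.centralizer ({y} : Set G)) : ℂ) * ∑ h with IsConj y h, w.coeff h =
      ∑ χ : IrrCharacter G, chiLin (χ : G → ℂ) w * conj ((χ : G → ℂ) y) := by
  rw [← sum_conjTransporter_coeff, Finset.mul_sum, Finset.sum_filter]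
  refine Finset.sum_congr rfl fun h _ => ?_
  split_ifs with hh
  · rw [card_conjTransporter hh, mul_comm]
  · haveI : IsEmpty {x : G // x * y * x⁻¹ = h} := ⟨fun x => hh (isConj_iff.2 ⟨x.1, x.2⟩)⟩
    simp

lemma coeff_eq_sum_omega {z : MonoidAlgebra ℂ G} (hz : IsCentralElt z) (y : G) :
    z.coeff y = (Nat.card G : ℂ)⁻¹ *
      ∑ χ : IrrCharacter G, (χ : G → ℂ) 1 * omega (χ : G → ℂ) z * conj ((χ : G → ℂ) y) := by
  have h := sum_conjTransporter_coeff z y
  have hl : ∑ h, z.coeff h * (Nat.card {x : G // x * y * x⁻¹ = h} : ℂ) =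
      (Nat.card G : ℂ) * z.coeff y := by
    classical
    calc ∑ h, z.coeff h * (Nat.card {x : G // x * y * x⁻¹ = h} : ℂ)
        = ∑ h, ∑ x : G, if x * y * x⁻¹ = h then z.coeff h else 0 := by
          refine Finset.sum_congr rfl fun h _ => ?_
          rw [Nat.card_eq_fintype_card, Fintype.card_subtype, ← Finset.sum_filter,
            Finset.sum_const, nsmul_eq_mul, mul_comm]
      _ = ∑ x : G, z.coeff (x * y * x⁻¹) := by
          rw [Finset.sum_comm]; simp
      _ = _ := by
          simp only [show ∀ x, z.coeff (x * y * x⁻¹) = z.coeff y from fun x => hz y x,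
            Finset.sum_const, Finset.card_univ, nsmul_eq_mul, Nat.card_eq_fintype_card]
  rw [hl] at h
  have hG : (Nat.card G : ℂ) ≠ 0 := Nat.cast_ne_zero.2 Nat.card_pos.ne'
  rw [show z.coeff y = (Nat.card G : ℂ)⁻¹ * ((Nat.card G : ℂ) * z.coeff y) by field_simp, h]
  congr 1
  refine Finset.sum_congr rfl fun χ _ => ?_
  rw [omega]
  field_simp [irr_one_ne_zero χ.2]

open scoped Classical in
lemma card_class (g : G) :
    (Finset.univ.filter fun h => IsConj g h).card =
      (Subgroup.centralizer ({g} : Set G)).index := by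
  have h1 : ∑ h ∈ Finset.univ.filter (fun h => IsConj g h), Nat.card {x : G // x * g * x⁻¹ = h} =
      Nat.card G := by
    rw [Nat.card_eq_fintype_card, ← Finset.card_univ,
      Finset.card_eq_sum_card_fiberwise (f := fun x => x * g * x⁻¹)
        (t := Finset.univ.filter (fun h => IsConj g h))
        (fun x _ => by simp [isConj_iff])]
    refine Finset.sum_congr rfl fun h _ => ?_
    rw [Nat.card_eq_fintype_card, Fintype.card_subtype]
  rw [Finset.sum_congr rfl (fun h hh => card_conjTransporter (Finset.mem_filter.1 hh).2),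
    Finset.sum_const, smul_eq_mul, ← Subgroup.index_mul_card (Subgroup.centralizer ({g} : Set G))]
    at h1
  exact Nat.eq_of_mul_eq_mul_right Nat.card_pos h1

open scoped Classical in
lemma sum_class_mul {χ : G → ℂ} (hχ : IsClassFunction G χ) (g : G) :
    ∑ h with IsConj g h, χ h = ((Subgroup.centralizer ({g} : Set G)).index : ℂ) * χ g := by
  rw [Finset.sum_congr rfl (g := fun _ => χ g), Finset.sum_const, nsmul_eq_mul, card_class]
  intro h hh
  obtain ⟨c, rfl⟩ := isConj_iff.1 (Finset.mem_filter.1 hh).2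
  exact hχ g c

lemma omega_classSum {χ : G → ℂ} (hχ : IsClassFunction G χ) (g : G) :
    omega χ (classSum g) = centralChar χ g := by
  classical
  rw [omega, centralChar, chiLin]
  congr 1
  rw [← sum_class_mul hχ g, Finset.sum_filter]
  exact Finset.sum_congr rfl fun h _ => by simp [classSum]

lemma omega_eq_sum_classes {χ : G → ℂ} (hχ : IsClassFunction G χ) {z : MonoidAlgebra ℂ G}
    (hz : IsCentralElt z) [Fintype (ConjClasses G)] :
    omega χ z = ∑ C : ConjClasses G, z.coeff C.out * centralChar χ C.out := by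
  classical
  rw [omega, chiLin, Finset.sum_div, ← Finset.sum_fiberwise Finset.univ ConjClasses.mk]
  refine Finset.sum_congr rfl fun C _ => ?_
  obtain ⟨g, rfl⟩ : ∃ g, ConjClasses.mk g = C := ⟨C.out, Quotient.out_eq _⟩
  set r := (ConjClasses.mk g).out with hr
  have hgr : IsConj g r := (ConjClasses.mk_eq_mk_iff_isConj.1 (Quotient.out_eq _)).symm
  have hs : (Finset.univ.filter fun h => ConjClasses.mk h = ConjClasses.mk g) =
      Finset.univ.filter fun h => IsConj r h := by
    ext h
    simp only [Finset.mem_filter, Finset.mem_univ, true_and, ConjClasses.mk_eq_mk_iff_isConj]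
    exact ⟨fun hh => hgr.symm.trans hh.symm, fun hh => (hgr.trans hh).symm⟩
  rw [hs, Finset.sum_congr rfl (g := fun h => z.coeff r * (χ h / χ 1)), ← Finset.mul_sum,
    ← Finset.sum_div, sum_class_mul hχ]
  · rfl
  · intro h hh
    obtain ⟨c, rfl⟩ := isConj_iff.1 (Finset.mem_filter.1 hh).2
    rw [show z.coeff (c * r * c⁻¹) = z.coeff r from hz r c, mul_div_assoc]

lemma isIntegral_centralChar {χ : G → ℂ} (hχ : IsIrrCharacter G χ) (g : G) :
    IsIntegral ℤ (centralChar χ g) := by
  classical
  obtain ⟨n, ρ, hρ, rfl⟩ := hχ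
  rw [← omega_classSum (IsIrr.isClassFunction ⟨n, ρ, hρ, rfl⟩) g]
  let z : MonoidAlgebra ℤ G := .ofCoeff (Finsupp.equivFunOnFinite.symm fun h => if IsConj g h then 1 else 0)
  have hz : MonoidAlgebra.mapRingHom G (Int.castRingHom ℂ) z = classSum g := by
    apply coeff_injective
    ext h
    simp [z, classSum]
  haveI : Module.Finite ℤ (MonoidAlgebra ℤ G) :=
    Module.Finite.of_basis (MonoidAlgebra.basis G ℤ)
  have h1 : IsIntegral ℤ z := IsIntegral.of_finite ℤ z
  have h2 := h1.map (MonoidAlgebra.mapRingHom G (Int.castRingHom ℂ)).toIntAlgHom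
  have h3 := h2.map (ρ.asAlgebraHom.restrictScalars ℤ)
  simp only [RingHom.toIntAlgHom_apply, hz, AlgHom.coe_restrictScalars'] at h3
  rw [asAlgebraHom_central ρ (isCentralElt_classSum g)] at h3
  haveI := nontrivial_of_isIrreducible ρ
  exact (isIntegral_algebraMap_iff (algebraMap ℂ (Module.End ℂ (Fin n → ℂ))).injective).1
    (by rw [Algebra.algebraMap_eq_smul_one]; exact h3)

lemma memLocalRing_centralChar {p : ℕ} {M : Ideal AlgInt} (hM : IsPModular p M) {χ : G → ℂ}
    (hχ : IsIrrCharacter G χ) (g : G) : MemLocalRing M (centralChar χ g) :=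
  memLocalRing_of_isIntegral hM (isIntegral_centralChar hχ g)

end Lin

end Cfsg.Agent.BlockBasic
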