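import Cfsg.Agent.BlockBasic.Orth
import Cfsg.Agent.H35.BlockInduction
import Cfsg.Agent.H35.Defect
import Cfsg.Agent.H86.BlockInflation
import Cfsg.Agent.H82.PrincipalBlock

/-!
# Blocks whose defect group is central modulo its centralizer

Blocks with defect group `P` in a group `G = P C(P)`.
-/

open scoped ComplexConjugate

namespace Cfsg.Agent.BlockBasic.CentralDefect

open CharBasic BlockBasic

universe u

variable {G : Type u} [Group G] [Finite G] {p : ℕ} [hp : Fact p.Prime] {M : Ideal AlgInt}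
  {P : Subgroup G}

omit [Finite G] hp in
lemma normal_of_sup (hG : P ⊔ Subgroup.centralizer (P : Set G) = ⊤) : P.Normal := by
  rw [← Subgroup.normalizer_eq_top_iff, eq_top_iff, ← hG]
  exact sup_le Subgroup.le_normalizer (Subgroup.centralizer_le_normalizer _)

omit [Finite G] hp in
lemma exists_mul (hG : P ⊔ Subgroup.centralizer (P : Set G) = ⊤) (g : G) :
    ∃ a ∈ P, ∃ c ∈ Subgroup.centralizer (P : Set G), a * c = g := by
  haveI := normal_of_sup hG
  exact Subgroup.mem_sup_of_normal_left.1 (hG ▸ Subgroup.mem_top g)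

/-- The `p`-regular elements centralize `P`. -/
lemma mem_centralizer_of_regular (hP : IsPGroup p P)
    (hG : P ⊔ Subgroup.centralizer (P : Set G) = ⊤) {s : G} (hs : ¬ p ∣ orderOf s) :
    s ∈ Subgroup.centralizer (P : Set G) := by
  obtain ⟨a, ha, c, hc, rfl⟩ := exists_mul hG s
  obtain ⟨k, hk⟩ := H86.pPow_orderOf hP ha
  have hac : Commute a c := (Subgroup.mem_centralizer_iff.1 hc a ha)
  have h1 : (a * c) ^ p ^ k ∈ Subgroup.centralizer (P : Set G) := by
    rw [hac.mul_pow, ← hk, pow_orderOf_eq_one, one_mul]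
    exact Subgroup.pow_mem _ hc _
  obtain ⟨m, hm⟩ := exists_pow_eq_self_of_coprime
    (x := a * c) (n := p ^ k) (((hp.out.coprime_iff_not_dvd).2 hs).pow_left k)
  rw [← hm]
  exact Subgroup.pow_mem _ h1 _

lemma commute_of_regular (hP : IsPGroup p P) (hG : P ⊔ Subgroup.centralizer (P : Set G) = ⊤)
    {x s : G} (hx : x ∈ P) (hs : ¬ p ∣ orderOf s) : Commute x s :=
  Subgroup.mem_centralizer_iff.1 (mem_centralizer_of_regular hP hG hs) x hx

/-- Sums over the elements with `p`-part in `P`. -/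
lemma sum_pPart_mem [Fintype G] [Fintype P] (hP : IsPGroup p P)
    (hG : P ⊔ Subgroup.centralizer (P : Set G) = ⊤) (f : G → ℂ)
    [DecidablePred fun g : G => pPart (p := p) g ∈ P]
    [DecidablePred fun g : G => ¬ p ∣ orderOf g] :
    ∑ g with pPart (p := p) g ∈ P, f g =
      ∑ x : P, ∑ s with ¬ p ∣ orderOf s, f ((x : G) * s) := by
  classical
  have e : ∀ x : P, ∀ s : G, ¬ p ∣ orderOf s → pPart (p := p) ((x : G) * s) = x := fun x s hs =>
    pPart_mul_of (commute_of_regular hP hG x.2 hs) (H86.pPow_orderOf hP x.2) hs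
  rw [← Finset.sum_product']
  refine (Finset.sum_bij (fun x _ => (x.1 : G) * x.2) ?_ ?_ ?_ fun _ _ => rfl).symm
  · intro x hx
    refine Finset.mem_filter.2 ⟨Finset.mem_univ _, ?_⟩
    rw [e x.1 x.2 (Finset.mem_filter.1 (Finset.mem_product.1 hx).2).2]
    exact x.1.2
  · intro x hx y hy hxy
    have ex := e x.1 x.2 (Finset.mem_filter.1 (Finset.mem_product.1 hx).2).2
    have ey := e y.1 y.2 (Finset.mem_filter.1 (Finset.mem_product.1 hy).2).2
    have h : (x.1 : G) = y.1 := by rw [← ex, ← ey, hxy]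
    refine Prod.ext (Subtype.ext h) ?_
    have h2 : (x.1 : G) * x.2 = (y.1 : G) * y.2 := hxy
    rw [h] at h2
    exact mul_left_cancel h2
  · intro g hg
    exact ⟨(⟨pPart (p := p) g, (Finset.mem_filter.1 hg).2⟩, pReg (p := p) g),
      Finset.mem_product.2 ⟨Finset.mem_univ _,
        Finset.mem_filter.2 ⟨Finset.mem_univ _, not_dvd_orderOf_pReg g⟩⟩, pPart_mul_pReg g⟩

/-- `χ (x s) χ 1 = χ x χ s` for `x` in `P` and `s` regular. -/
lemma apply_mul_regular (hP : IsPGroup p P) (hG : P ⊔ Subgroup.centralizer (P : Set G) = ⊤)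
    (χ : IrrCharacter G) {x s : G} (hx : x ∈ P) (hs : ¬ p ∣ orderOf s) :
    (χ : G → ℂ) (x * s) * (χ : G → ℂ) 1 = (χ : G → ℂ) x * (χ : G → ℂ) s := by
  cases nonempty_fintype G
  obtain ⟨n, ρ, hρ, he⟩ := χ.2
  have hcl := IsIrr.isClassFunction χ.2
  set T : Module.End ℂ (Fin n → ℂ) := ∑ k : G, ρ (k * s * k⁻¹) with hT
  obtain ⟨c, hc⟩ := schur_scalar ρ T fun g => by
    simp only [hT, Finset.sum_mul, Finset.mul_sum, ← map_mul]
    refine Fintype.sum_equiv (Equiv.mulLeft g⁻¹) _ _ fun k => ?_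
    simp only [Equiv.coe_mulLeft]
    congr 1
    group
  have h1 : LinearMap.trace ℂ _ T = (Nat.card G : ℂ) * (χ : G → ℂ) s := by
    rw [hT, map_sum]
    have : ∀ k : G, LinearMap.trace ℂ _ (ρ (k * s * k⁻¹)) = (χ : G → ℂ) s := fun k => by
      rw [← hcl s k, ← he]; rfl
    rw [Finset.sum_congr rfl fun k _ => this k]
    simp [Nat.card_eq_fintype_card]
  have h2 : LinearMap.trace ℂ _ (ρ x * T) = (Nat.card G : ℂ) * (χ : G → ℂ) (x * s) := by
    rw [hT, Finset.mul_sum, map_sum]
    have : ∀ k : G, LinearMap.trace ℂ _ (ρ x * ρ (k * s * k⁻¹)) = (χ : G → ℂ) (x * s) := fun k => by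
      rw [← map_mul]
      obtain ⟨a, ha, d, hd, rfl⟩ := exists_mul hG k
      have hds : d * s * d⁻¹ ∈ Subgroup.centralizer (P : Set G) :=
        mul_mem (mul_mem hd (mem_centralizer_of_regular hP hG hs)) (inv_mem hd)
      have hfix : (a * d) * s * (a * d)⁻¹ = d * s * d⁻¹ := by
        rw [show (a * d) * s * (a * d)⁻¹ = a * (d * s * d⁻¹) * a⁻¹ by group,
          Subgroup.mem_centralizer_iff.1 hds a ha]
        group
      have hxd : x * (d * s * d⁻¹) = d * (x * s) * d⁻¹ := by
        rw [show d * (x * s) * d⁻¹ = (d * x) * (s * d⁻¹) by group,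
          ← Subgroup.mem_centralizer_iff.1 hd x hx]
        group
      rw [hfix, hxd, ← hcl (x * s) d, ← he]; rfl
    rw [Finset.sum_congr rfl fun k _ => this k]
    simp [Nat.card_eq_fintype_card]
  have e1 : LinearMap.trace ℂ _ T = c * (χ : G → ℂ) 1 := by
    rw [hc, map_smul, smul_eq_mul, ← he, Representation.char_one]
    congr 1
    exact LinearMap.trace_id ℂ _
  have e2 : LinearMap.trace ℂ _ (ρ x * T) = c * (χ : G → ℂ) x := by
    rw [hc, mul_smul_comm, map_smul, smul_eq_mul, ← he]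
    rfl
  have key : (Nat.card G : ℂ) * ((χ : G → ℂ) (x * s) * (χ : G → ℂ) 1 - (χ : G → ℂ) x * (χ : G → ℂ) s)
      = 0 := by linear_combination ((χ : G → ℂ) x) * (e1.symm.trans h1) - ((χ : G → ℂ) 1) * (e2.symm.trans h2)
  exact sub_eq_zero.1 ((mul_eq_zero.1 key).resolve_left (Nat.cast_ne_zero.2 Nat.card_pos.ne'))

variable (hM : IsPModular p M) {B : Set (IrrCharacter G)} (hB : IsPBlock M B)
  (hG : P ⊔ Subgroup.centralizer (P : Set G) = ⊤) (hD : IsDefectGroup p M B P)

include hM hB hD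

omit [Finite G] hp in
lemma isPGroup_defect [Finite G] [Fact p.Prime] : IsPGroup p P :=
  IsPGroup.of_card (H35.card_defectGroup hM hB hD)

include hG in
/-- Members of the block vanish off the elements with `p`-part in `P`. -/
lemma apply_eq_zero {χ : IrrCharacter G} (hχ : χ ∈ B) {g : G} (hg : pPart (p := p) g ∉ P) :
    (χ : G → ℂ) g = 0 := by
  haveI := normal_of_sup hG
  refine H35.apply_eq_zero_of_no_defectGroup hM χ g fun E hE hgE => hg ?_
  rw [← isPBlock_eq_blockOf hM hB hχ] at hE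
  obtain ⟨c, hc⟩ := H35.defectGroup_le_conj hM hB hD hE
  obtain ⟨y, hy, e⟩ := Subgroup.mem_map.1 (hc hgE)
  rw [← e]
  exact Subgroup.Normal.conj_mem ‹P.Normal› y hy c

include hG in
/-- The `p`-part of the degree of a member trivial on `P` is that of the index. -/
theorem factorization_degree {θ : IrrCharacter G} (hθ : θ ∈ B)
    (htriv : ∀ x ∈ P, (θ : G → ℂ) x = (θ : G → ℂ) 1) :
    (charDegree (θ : G → ℂ)).factorization p = P.index.factorization p := by
  haveI := normal_of_sup hG
  refine le_antisymm ?_ ?_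
  · exact (Nat.factorization_le_iff_dvd (charDegree_pos θ).ne' Subgroup.index_ne_zero_of_finite).2
      (H82.charDegree_dvd_index P θ.2 htriv) p
  · obtain ⟨g, hg, R, hR⟩ := hD
    have h1 := H35.index_le_degree hM θ (hg.2.2 θ hθ)
    have hc : (Nat.card P).factorization p =
        (Nat.card (Subgroup.centralizer ({g} : Set G))).factorization p := by
      rw [H35.card_defectGroup hM hB ⟨g, hg, R, hR⟩, hp.out.factorization_pow,
        Finsupp.single_eq_same, H35.blockDefect_eq hM hB hg]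
    have h2 := congrArg (fun n => n.factorization p) (P.card_mul_index.trans
      (Subgroup.centralizer ({g} : Set G)).card_mul_index.symm)
    simp only [Nat.factorization_mul Nat.card_pos.ne' Subgroup.index_ne_zero_of_finite,
      Finsupp.add_apply] at h2
    omega

include hG in
/-- Inner product of two members. -/
lemma sum_mul_conj [Fintype G] [Fintype P] [DecidablePred fun g : G => ¬ p ∣ orderOf g]
    {χ ψ : IrrCharacter G} (hχ : χ ∈ B) :
    ∑ g, (χ : G → ℂ) g * conj ((ψ : G → ℂ) g) =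
      ∑ x : P, ∑ s with ¬ p ∣ orderOf s,
        (χ : G → ℂ) ((x : G) * s) * conj ((ψ : G → ℂ) ((x : G) * s)) := by
  classical
  rw [← sum_pPart_mem (isPGroup_defect hM hB hD) hG
    (fun g => (χ : G → ℂ) g * conj ((ψ : G → ℂ) g))]
  refine (Finset.sum_subset (Finset.filter_subset _ _) fun g _ hg => ?_).symm
  rw [apply_eq_zero hM hB hG hD hχ (fun h => hg (Finset.mem_filter.2 ⟨Finset.mem_univ _, h⟩)),
    zero_mul]

include hG in
/-- Uniqueness of the member trivial on `P`. -/
theorem trivial_unique {θ θ' : IrrCharacter G} (hθ : θ ∈ B) (hθ' : θ' ∈ B)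
    (h : ∀ x ∈ P, (θ : G → ℂ) x = (θ : G → ℂ) 1) (h' : ∀ x ∈ P, (θ' : G → ℂ) x = (θ' : G → ℂ) 1) :
    θ = θ' := by
  classical
  cases nonempty_fintype G
  haveI := Fintype.ofFinite P
  haveI := normal_of_sup hG
  by_contra hne
  have hP := isPGroup_defect hM hB hD
  have hval : ∀ (φ : IrrCharacter G), (∀ x ∈ P, (φ : G → ℂ) x = (φ : G → ℂ) 1) → ∀ x : P, ∀ s : G,
      ¬ p ∣ orderOf s → (φ : G → ℂ) ((x : G) * s) = (φ : G → ℂ) s := by
    intro φ hφ x s hs
    have h1 := apply_mul_regular hP hG φ x.2 hs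
    rw [hφ x x.2, mul_comm] at h1
    exact mul_left_cancel₀ (irr_one_ne_zero φ.2) h1
  set S : IrrCharacter G → ℂ := fun φ =>
    ∑ s with ¬ p ∣ orderOf s, (φ : G → ℂ) s * conj ((θ' : G → ℂ) s) with hS
  have hinner : ∀ φ : IrrCharacter G, φ ∈ B → (∀ x ∈ P, (φ : G → ℂ) x = (φ : G → ℂ) 1) →
      (Nat.card P : ℂ) * S φ = if φ = θ' then (Nat.card G : ℂ) else 0 := by
    intro φ hφ hφt
    have h1 := classInner_irrCharacter φ θ'
    rw [classInner_def, inv_mul_eq_iff_eq_mul₀ (Nat.cast_ne_zero.2 Nat.card_pos.ne'),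
      sum_mul_conj hM hB hG hD hφ] at h1
    have h2 : ∀ x : P, ∑ s with ¬ p ∣ orderOf s,
        (φ : G → ℂ) ((x : G) * s) * conj ((θ' : G → ℂ) ((x : G) * s)) = S φ := fun x =>
      Finset.sum_congr rfl fun s hs => by
        rw [hval φ hφt x s (Finset.mem_filter.1 hs).2, hval θ' h' x s (Finset.mem_filter.1 hs).2]
    simp only [h2, Finset.sum_const, Finset.card_univ, nsmul_eq_mul, ← Nat.card_eq_fintype_card] at h1
    rw [h1]
    split_ifs <;> simp
  have hθ0 : S θ = 0 := by
    have := hinner θ hθ h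
    rw [if_neg hne] at this
    exact (mul_eq_zero.1 this).resolve_left (Nat.cast_ne_zero.2 Nat.card_pos.ne')
  have hθ'S : S θ' = (P.index : ℂ) := by
    have := hinner θ' hθ' h'
    rw [if_pos rfl, ← P.card_mul_index, Nat.cast_mul] at this
    exact mul_left_cancel₀ (Nat.cast_ne_zero.2 Nat.card_pos.ne') this
  set z : MonoidAlgebra ℂ G :=
    ofFun fun g => if ¬ p ∣ orderOf g then conj ((θ' : G → ℂ) g) else 0 with hz
  have hzc : IsCentralElt z := isCentralElt_ofFun fun g k => by
    have hord : orderOf (k * g * k⁻¹) = orderOf g := (MulAut.conj k).orderOf_eq g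
    simp [hord, IsIrr.isClassFunction θ'.2 g k]
  have hzi : IsIntElt M z := by
    intro g
    rw [hz, coeff_ofFun]
    split_ifs
    · exact (locRing hM).zero_mem
    · exact memLocalRing_of_isIntegral hM (isIntegral_conj_apply θ' g)
  have hom : ∀ φ : IrrCharacter G, omega (φ : G → ℂ) z = S φ / (φ : G → ℂ) 1 := by
    intro φ
    rw [omega, chiLin]
    simp only [hS, Finset.sum_filter]
    congr 1
    refine Finset.sum_congr rfl fun g _ => ?_
    rw [hz, coeff_ofFun]
    split_ifs <;> ring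
  have hcong := omega_congr hM (IsIrr.isClassFunction θ.2) (IsIrr.isClassFunction θ'.2)
    (isPBlock_sameBlock hM hB hθ hθ') hzc hzi
  rw [hom, hom, hθ0, hθ'S, zero_div, zero_sub] at hcong
  have hmem := memLocalIdeal_neg hcong
  rw [neg_neg, apply_one_eq_charDegree] at hmem
  obtain ⟨d, hd⟩ := H82.charDegree_dvd_index P θ'.2 h'
  have hdne : d ≠ 0 := by
    rintro rfl
    exact Subgroup.index_ne_zero_of_finite (H := P) (by simpa using hd)
  rw [hd, Nat.cast_mul, mul_div_cancel_left₀ _ (Nat.cast_ne_zero.2 (charDegree_pos θ').ne'),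
    memLocalIdeal_natCast_iff hM] at hmem
  have h1 := factorization_degree hM hB hG hD hθ' h'
  rw [hd, Nat.factorization_mul (charDegree_pos θ').ne' hdne, Finsupp.add_apply] at h1
  have := (hp.out.factorization_pos_of_dvd hdne hmem)
  omega

include hG in
/-- On regular elements the members are proportional to the member trivial on `P`. -/
theorem apply_regular {θ : IrrCharacter G} (hθ : θ ∈ B)
    (htriv : ∀ x ∈ P, (θ : G → ℂ) x = (θ : G → ℂ) 1) {ψ : IrrCharacter G} (hψ : ψ ∈ B)
    {s : G} (hs : ¬ p ∣ orderOf s) :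
    (ψ : G → ℂ) s * (θ : G → ℂ) 1 = (ψ : G → ℂ) 1 * (θ : G → ℂ) s := by
  classical
  cases nonempty_fintype G
  haveI := Fintype.ofFinite P
  haveI := normal_of_sup hG
  have hP := isPGroup_defect hM hB hD
  -- the kernel on regular elements
  have hK : ∀ a t : G, ¬ p ∣ orderOf a → ¬ p ∣ orderOf t →
      blockKernel B a t = (Nat.card P : ℂ) * ((θ : G → ℂ) a * conj ((θ : G → ℂ) t)) := by
    intro a t ha ht
    have h1 : ∑ x : P, blockKernel B ((x : G) * a) t = blockKernel B a t := by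
      rw [Finset.sum_eq_single (1 : P)]
      · simp
      · intro x _ hx
        refine blockKernel_eq_zero hM hB fun hc => hx ?_
        rw [pPart_mul_of (commute_of_regular hP hG x.2 ha) (H86.pPow_orderOf hP x.2) ha,
          (pPart_eq_one_iff t).2 ht] at hc
        exact Subtype.ext (isConj_one_left.1 hc)
      · simp
    rw [← h1]
    simp only [blockKernel, finsum_mem_eq_sum_ite]
    rw [Finset.sum_comm, Finset.sum_eq_single θ]
    · simp only [if_pos hθ]
      have h2 : ∀ x : P, (θ : G → ℂ) ((x : G) * a) = (θ : G → ℂ) a := fun x => by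
        have h3 := apply_mul_regular hP hG θ x.2 ha
        rw [htriv x x.2, mul_comm] at h3
        exact mul_left_cancel₀ (irr_one_ne_zero θ.2) h3
      simp [h2, Nat.card_eq_fintype_card]
    · intro φ _ hne
      split_ifs with hφ
      · rw [← Finset.sum_mul]
        have h4 : (∑ x : P, (φ : G → ℂ) ((x : G) * a)) * (φ : G → ℂ) 1 =
            (∑ x : P, (φ : G → ℂ) (x : G)) * (φ : G → ℂ) a := by
          rw [Finset.sum_mul, Finset.sum_mul]
          exact Finset.sum_congr rfl fun x _ => apply_mul_regular hP hG φ x.2 ha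
        rw [show ∑ x : P, (φ : G → ℂ) (x : G) = 0 from by
          by_contra h0
          exact hne (trivial_unique hM hB hG hD hφ hθ (H86.trivial_of_sum_ne_zero P φ.2 h0) htriv),
          zero_mul] at h4
        rw [(mul_eq_zero.1 h4).resolve_right (irr_one_ne_zero φ.2), zero_mul]
      · simp
    · simp
  have hexp : ∀ a, ∑ y, blockKernel B a y * (ψ : G → ℂ) y = (Nat.card G : ℂ) * (ψ : G → ℂ) a := by
    intro a
    simp only [blockKernel, finsum_mem_eq_sum_ite, Finset.sum_mul]
    rw [Finset.sum_comm, Finset.sum_eq_single ψ]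
    · simp only [if_pos hψ]
      have h1 := classInner_irr_self ψ.2
      rw [classInner_def, inv_mul_eq_iff_eq_mul₀ (Nat.cast_ne_zero.2 Nat.card_pos.ne'), mul_one] at h1
      rw [← h1, Finset.sum_mul]
      exact Finset.sum_congr rfl fun y _ => by ring
    · intro φ _ hne
      split_ifs
      · have h1 := classInner_irrCharacter ψ φ
        rw [classInner_def, inv_mul_eq_iff_eq_mul₀ (Nat.cast_ne_zero.2 Nat.card_pos.ne'),
          if_neg hne.symm, mul_zero] at h1
        rw [show ∑ y, (φ : G → ℂ) a * conj ((φ : G → ℂ) y) * (ψ : G → ℂ) y =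
          (φ : G → ℂ) a * ∑ y, (ψ : G → ℂ) y * conj ((φ : G → ℂ) y) by
            rw [Finset.mul_sum]; exact Finset.sum_congr rfl fun y _ => by ring, h1, mul_zero]
      · simp
    · simp
  set c : ℂ := (Nat.card P : ℂ) *
    ∑ y with ¬ p ∣ orderOf y, conj ((θ : G → ℂ) y) * (ψ : G → ℂ) y with hc
  have hmain : ∀ a, ¬ p ∣ orderOf a → (Nat.card G : ℂ) * (ψ : G → ℂ) a = (θ : G → ℂ) a * c := by
    intro a ha
    rw [← hexp a, hc, Finset.mul_sum, Finset.mul_sum, ← Finset.sum_subset (Finset.filter_subset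
      (fun y : G => ¬ p ∣ orderOf y) Finset.univ) (fun y _ hy => by
        rw [blockKernel_eq_zero_of_regular_of_singular hM hB ha
          (not_not.1 fun h => hy (Finset.mem_filter.2 ⟨Finset.mem_univ _, h⟩)), zero_mul])]
    refine Finset.sum_congr rfl fun y hy => ?_
    rw [hK a y ha (Finset.mem_filter.1 hy).2]
    ring
  have h1 := hmain 1 (by rw [orderOf_one, Nat.dvd_one]; exact hp.out.ne_one)
  have h2 := hmain s hs
  have key : (Nat.card G : ℂ) * ((ψ : G → ℂ) s * (θ : G → ℂ) 1 - (ψ : G → ℂ) 1 * (θ : G → ℂ) s) = 0 := by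
    linear_combination (θ : G → ℂ) 1 * h2 - (θ : G → ℂ) s * h1
  exact sub_eq_zero.1 ((mul_eq_zero.1 key).resolve_left (Nat.cast_ne_zero.2 Nat.card_pos.ne'))

include hG in
/-- Members take the product values on `P × regular`. -/
theorem apply_mul {θ : IrrCharacter G} (hθ : θ ∈ B)
    (htriv : ∀ x ∈ P, (θ : G → ℂ) x = (θ : G → ℂ) 1) {ψ : IrrCharacter G} (hψ : ψ ∈ B)
    {x s : G} (hx : x ∈ P) (hs : ¬ p ∣ orderOf s) :
    (ψ : G → ℂ) (x * s) * (θ : G → ℂ) 1 = (ψ : G → ℂ) x * (θ : G → ℂ) s := by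
  cases nonempty_fintype G
  refine mul_left_cancel₀ (irr_one_ne_zero ψ.2) ?_
  have h1 := apply_mul_regular (isPGroup_defect hM hB hD) hG ψ hx hs
  have h2 := apply_regular hM hB hG hD hθ htriv hψ hs
  linear_combination (θ : G → ℂ) 1 * h1 + (ψ : G → ℂ) x * h2

include hG in
/-- The restrictions to `P` of the members are orthogonal. -/
theorem sum_defect_mul_conj [Fintype P] [DecidableEq (IrrCharacter G)] {θ : IrrCharacter G} (hθ : θ ∈ B)
    (htriv : ∀ x ∈ P, (θ : G → ℂ) x = (θ : G → ℂ) 1) {χ ψ : IrrCharacter G} (hχ : χ ∈ B)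
    (hψ : ψ ∈ B) :
    ∑ x : P, (χ : G → ℂ) (x : G) * conj ((ψ : G → ℂ) (x : G)) =
      if χ = ψ then (Nat.card P : ℂ) * (θ : G → ℂ) 1 ^ 2 else 0 := by
  classical
  cases nonempty_fintype G
  have hreal : conj ((θ : G → ℂ) 1) = (θ : G → ℂ) 1 := by
    rw [apply_one_eq_charDegree, Complex.conj_natCast]
  have hfac : ∀ (φ : IrrCharacter G), φ ∈ B →
      (∑ x : P, (χ : G → ℂ) (x : G) * conj ((φ : G → ℂ) (x : G))) *
        ∑ s with ¬ p ∣ orderOf s, (θ : G → ℂ) s * conj ((θ : G → ℂ) s) =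
      if χ = φ then (Nat.card G : ℂ) * (θ : G → ℂ) 1 ^ 2 else 0 := by
    intro φ hφ
    have h1 := classInner_irrCharacter χ φ
    rw [classInner_def, inv_mul_eq_iff_eq_mul₀ (Nat.cast_ne_zero.2 Nat.card_pos.ne'),
      sum_mul_conj hM hB hG hD hχ] at h1
    rw [show (if χ = φ then (Nat.card G : ℂ) * (θ : G → ℂ) 1 ^ 2 else 0) =
      (∑ x : P, ∑ s with ¬ p ∣ orderOf s,
        (χ : G → ℂ) ((x : G) * s) * conj ((φ : G → ℂ) ((x : G) * s))) * (θ : G → ℂ) 1 ^ 2 by
        rw [h1]; split_ifs <;> ring,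
      Finset.sum_mul, Finset.sum_mul]
    refine Finset.sum_congr rfl fun x _ => ?_
    rw [Finset.mul_sum, Finset.sum_mul]
    refine Finset.sum_congr rfl fun s hs => ?_
    have h2 := apply_mul hM hB hG hD hθ htriv hχ x.2 (Finset.mem_filter.1 hs).2
    have h3 := congrArg conj (apply_mul hM hB hG hD hθ htriv hφ x.2 (Finset.mem_filter.1 hs).2)
    rw [map_mul, map_mul, hreal] at h3
    linear_combination (-(conj ((φ : G → ℂ) ((x : G) * s)) * (θ : G → ℂ) 1)) * h2
      - ((χ : G → ℂ) (x : G) * (θ : G → ℂ) s) * h3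
  have hT : (Nat.card P : ℂ) * ∑ s with ¬ p ∣ orderOf s, (θ : G → ℂ) s * conj ((θ : G → ℂ) s) =
      (Nat.card G : ℂ) := by
    have h1 := classInner_irr_self θ.2
    rw [classInner_def, inv_mul_eq_iff_eq_mul₀ (Nat.cast_ne_zero.2 Nat.card_pos.ne'), mul_one,
      sum_mul_conj hM hB hG hD hθ] at h1
    rw [← h1, Nat.card_eq_fintype_card, ← Finset.card_univ, ← nsmul_eq_mul, ← Finset.sum_const]
    refine Finset.sum_congr rfl fun x _ => Finset.sum_congr rfl fun s hs => ?_
    have h2 := apply_mul_regular (isPGroup_defect hM hB hD) hG θ x.2 (Finset.mem_filter.1 hs).2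
    rw [htriv x x.2, mul_comm] at h2
    rw [mul_left_cancel₀ (irr_one_ne_zero θ.2) h2]
  set T := ∑ s with ¬ p ∣ orderOf s, (θ : G → ℂ) s * conj ((θ : G → ℂ) s)
  have hTne : T ≠ 0 := fun h => by
    rw [h, mul_zero] at hT
    exact Nat.cast_ne_zero.2 Nat.card_pos.ne' hT.symm
  refine mul_right_cancel₀ hTne ?_
  rw [hfac ψ hψ]
  split_ifs
  · rw [← hT]; ring
  · ring

include hG in
/-- The number of members is the class number of `P`. -/
theorem card_eq {θ : IrrCharacter G} (hθ : θ ∈ B)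
    (htriv : ∀ x ∈ P, (θ : G → ℂ) x = (θ : G → ℂ) 1) :
    Nat.card B = Nat.card (ConjClasses P) := by
  classical
  cases nonempty_fintype G
  haveI := Fintype.ofFinite P
  haveI := normal_of_sup hG
  haveI : Finite (ConjClasses P) := Finite.of_surjective _ ConjClasses.mk_surjective
  haveI : Fintype (ConjClasses P) := Fintype.ofFinite _
  haveI : Fintype B := Fintype.ofFinite _
  have hP := isPGroup_defect hM hB hD
  set A : B → ConjClasses P → ℂ := fun χ C => (χ.1 : G → ℂ) ((C.out : P) : G) with hA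
  have hout : ∀ (χ : IrrCharacter G) (x : P),
      (χ : G → ℂ) (((ConjClasses.mk x).out : P) : G) = (χ : G → ℂ) (x : G) := by
    intro χ x
    obtain ⟨c, hc⟩ := isConj_iff.1 (ConjClasses.mk_eq_mk_iff_isConj.1
      (Quotient.out_eq (ConjClasses.mk x) : ConjClasses.mk (ConjClasses.mk x).out = ConjClasses.mk x))
    conv_rhs => rw [← hc]
    exact (IsIrr.isClassFunction χ.2 _ (c : G)).symm
  have hrow : LinearIndependent ℂ A := by
    rw [Fintype.linearIndependent_iff]
    intro a ha φ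
    have h0 : ∀ x : P, ∑ χ : B, a χ * (χ.1 : G → ℂ) (x : G) = 0 := by
      intro x
      have h1 := congrFun ha (ConjClasses.mk x)
      simp only [hA, Finset.sum_apply, Pi.smul_apply, smul_eq_mul, Pi.zero_apply, hout] at h1
      exact h1
    have h1 : ∑ x : P, (∑ χ : B, a χ * (χ.1 : G → ℂ) (x : G)) * conj ((φ.1 : G → ℂ) (x : G)) = 0 := by
      simp [h0]
    simp only [Finset.sum_mul] at h1
    rw [Finset.sum_comm] at h1
    simp only [mul_assoc, ← Finset.mul_sum] at h1
    rw [Finset.sum_eq_single φ] at h1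
    · rw [sum_defect_mul_conj hM hB hG hD hθ htriv φ.2 φ.2, if_pos rfl] at h1
      exact (mul_eq_zero.1 h1).resolve_right
        (mul_ne_zero (Nat.cast_ne_zero.2 Nat.card_pos.ne') (pow_ne_zero 2 (irr_one_ne_zero θ.2)))
    · intro χ _ hne
      rw [sum_defect_mul_conj hM hB hG hD hθ htriv χ.2 φ.2,
        if_neg (fun e => hne (Subtype.ext e)), mul_zero]
    · simp
  have hcol : LinearIndependent ℂ (fun C : ConjClasses P => fun χ : B => A χ C) := by
    rw [Fintype.linearIndependent_iff]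
    intro a ha D
    have hK : ∀ x y : G, blockKernel B x y = ∑ χ : B, (χ.1 : G → ℂ) x * conj ((χ.1 : G → ℂ) y) := by
      intro x y
      rw [blockKernel, finsum_mem_eq_sum_ite, ← Finset.sum_filter]
      exact Finset.sum_subtype _ (by simp) fun χ : IrrCharacter G => (χ : G → ℂ) x * conj ((χ : G → ℂ) y)
    have hoff : ∀ C : ConjClasses P, C ≠ D →
        blockKernel B ((C.out : P) : G) ((D.out : P) : G) = 0 := by
      intro C hCD
      refine blockKernel_eq_zero hM hB fun hc => hCD ?_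
      have hpp : ∀ x : P, pPart (p := p) (x : G) = x :=
        fun x => (pPart_eq_self_iff _).2 (H86.pPow_orderOf hP x.2)
      rw [hpp, hpp] at hc
      obtain ⟨k, hk⟩ := isConj_iff.1 hc
      obtain ⟨b, hb, d, hd, rfl⟩ := exists_mul hG k
      rw [← Quotient.out_eq C, ← Quotient.out_eq D]
      refine ConjClasses.mk_eq_mk_iff_isConj.2 (isConj_iff.2 ⟨⟨b, hb⟩, Subtype.ext ?_⟩)
      have hcx : d * ((C.out : P) : G) * d⁻¹ = ((C.out : P) : G) := by
        rw [← Subgroup.mem_centralizer_iff.1 hd _ (C.out : P).2, mul_inv_cancel_right]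
      calc b * ((C.out : P) : G) * b⁻¹ = b * (d * ((C.out : P) : G) * d⁻¹) * b⁻¹ := by rw [hcx]
        _ = b * d * ((C.out : P) : G) * (b * d)⁻¹ := by group
        _ = _ := hk
    have h1 : ∑ χ : B, (∑ C, a C * (χ.1 : G → ℂ) ((C.out : P) : G)) *
        conj ((χ.1 : G → ℂ) ((D.out : P) : G)) = 0 := by
      refine Finset.sum_eq_zero fun χ _ => ?_
      have h2 := congrFun ha χ
      simp only [hA, Finset.sum_apply, Pi.smul_apply, smul_eq_mul, Pi.zero_apply] at h2
      rw [h2, zero_mul]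
    simp only [Finset.sum_mul] at h1
    rw [Finset.sum_comm] at h1
    simp only [mul_assoc, ← Finset.mul_sum, ← hK] at h1
    rw [Finset.sum_eq_single D (fun C _ hC => by rw [hoff C hC, mul_zero]) (by simp)] at h1
    refine (mul_eq_zero.1 h1).resolve_right ?_
    rw [hK]
    simp only [Complex.mul_conj, ← Complex.ofReal_sum, Ne, Complex.ofReal_eq_zero]
    refine (Finset.sum_pos' (fun χ _ => Complex.normSq_nonneg _)
      ⟨⟨θ, hθ⟩, Finset.mem_univ _, Complex.normSq_pos.2 ?_⟩).ne'
    rw [htriv _ (D.out : P).2]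
    exact irr_one_ne_zero θ.2
  refine le_antisymm ?_ ?_
  · have := hrow.fintype_card_le_finrank
    rw [Module.finrank_fintype_fun_eq_card, ← Nat.card_eq_fintype_card,
      ← Nat.card_eq_fintype_card] at this
    exact this
  · have := hcol.fintype_card_le_finrank
    rw [Module.finrank_fintype_fun_eq_card, ← Nat.card_eq_fintype_card,
      ← Nat.card_eq_fintype_card] at this
    exact this

end Cfsg.Agent.BlockBasic.CentralDefect
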