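import Cfsg.Agent.BlockBasic.Brauer
import Cfsg.Agent.H80.Clifford

/-!
# Blocks and normal subgroups: central characters on the classes inside a normal subgroup
-/

open scoped ComplexConjugate
open MonoidAlgebra

namespace Cfsg.Agent.BlockBasic

open CharBasic

universe u

variable {G : Type u} [Group G] [Fintype G] {p : ℕ} {M : Ideal AlgInt}

/-- A union of blocks has a locally integral idempotent. -/
theorem isIntElt_blockElem_of_union (hM : IsPModular p M) {A : Set (IrrCharacter G)}
    (hA : ∀ χ ∈ A, blockOf M (χ : G → ℂ) ⊆ A) : IsIntElt M (blockElem A) := by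
  classical
  have key : ∀ s : Finset (IrrCharacter G), (∀ χ ∈ s, χ ∈ A) →
      ∃ w : MonoidAlgebra ℂ G, IsCentralElt w ∧ IsIntElt M w ∧
        (∀ ψ : IrrCharacter G, ψ ∉ A → omega (ψ : G → ℂ) w = 1) ∧
        ∀ ψ ∈ s, omega (ψ : G → ℂ) w = 0 := by
    intro s
    induction s using Finset.induction with
    | empty => exact fun _ => ⟨1, IsCentralElt.one, isIntElt_one hM, fun ψ _ => omega_one ψ.2, by simp⟩
    | insert χ s _ ih =>
      intro hs
      obtain ⟨w, hw, hwi, hw1, hw0⟩ := ih fun ψ hψ => hs ψ (Finset.mem_insert_of_mem hψ)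
      set e := blockElem (blockOf M (χ : G → ℂ))
      have he : IsCentralElt e := isCentralElt_blockElem _
      refine ⟨(1 - e) * w, (IsCentralElt.one.sub he).mul hw,
        ((isIntElt_one hM).sub hM (isIntElt_blockElem hM (isPBlock_blockOf M χ))).mul hM hwi,
        fun ψ hψ => ?_, fun ψ hψ => ?_⟩
      · rw [omega_mul ψ.2 (IsCentralElt.one.sub he), omega_sub, omega_one ψ.2, omega_blockElem,
          if_neg (fun h => hψ (hA χ (hs χ (Finset.mem_insert_self χ s)) h)), sub_zero, one_mul,
          hw1 ψ hψ]
      · rw [omega_mul ψ.2 (IsCentralElt.one.sub he), omega_sub, omega_one ψ.2]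
        rcases Finset.mem_insert.1 hψ with rfl | hψ
        · rw [omega_blockElem, if_pos (self_mem_blockOf hM _), sub_self, zero_mul]
        · rw [hw0 ψ hψ, mul_zero]
  obtain ⟨w, hw, hwi, hw1, hw0⟩ := key (Finset.univ.filter (· ∈ A)) fun ψ hψ => (Finset.mem_filter.1 hψ).2
  have : blockElem A = 1 - w := eq_of_omega_eq (isCentralElt_blockElem A) (IsCentralElt.one.sub hw)
    fun ψ => by
      rw [omega_blockElem, omega_sub, omega_one ψ.2]
      split_ifs with h
      · rw [hw0 ψ (Finset.mem_filter.2 ⟨Finset.mem_univ _, h⟩), sub_zero]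
      · rw [hw1 ψ h, sub_self]
  rw [this]
  exact (isIntElt_one hM).sub hM hwi

/-- A central element as a combination of class sums. -/
lemma eq_sum_classSum [Fintype (ConjClasses G)] {z : MonoidAlgebra ℂ G} (hz : IsCentralElt z) :
    z = ∑ C : ConjClasses G, z.coeff C.out • classSum C.out := by
  classical
  have hout : ∀ g : G, IsConj (ConjClasses.mk g).out g := fun g =>
    ConjClasses.mk_eq_mk_iff_isConj.1 (Quotient.out_eq _)
  apply coeff_injective
  ext g
  rw [coeff_sum, Finsupp.finsetSum_apply, Finset.sum_eq_single (ConjClasses.mk g)]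
  · obtain ⟨c, hc⟩ := isConj_iff.1 (hout g)
    rw [coeff_smul_apply, classSum, coeff_ofFun, if_pos (hout g), smul_eq_mul, mul_one]
    conv_lhs => rw [← hc]
    exact hz _ c
  · intro C _ hC
    rw [coeff_smul_apply, classSum, coeff_ofFun, if_neg, smul_zero]
    intro h
    exact hC ((Quotient.out_eq C).symm.trans (ConjClasses.mk_eq_mk_iff_isConj.2 h))
  · simp

variable {N : Subgroup G} [Fintype N]

lemma chiLin_resMap {z : MonoidAlgebra ℂ G} (hzN : ∀ g, g ∉ N → z.coeff g = 0) (χ : G → ℂ) :
    chiLin (fun n : N => χ n) (resMap N z) = chiLin χ z := by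
  classical
  simp only [chiLin, coeff_resMap]
  rw [← Finset.sum_subset (Finset.subset_univ (Finset.univ.filter (· ∈ N))) (fun g _ hg => by
    rw [hzN g (by simpa using hg), zero_mul]), Finset.sum_subtype _ (p := (· ∈ N)) (by simp)]

lemma resMap_mul {z w : MonoidAlgebra ℂ G} (hzN : ∀ g, g ∉ N → z.coeff g = 0) :
    resMap N (z * w) = resMap N z * resMap N w := by
  classical
  apply coeff_injective
  ext h
  rw [coeff_resMap, coeff_mul_apply_left, coeff_mul_apply_left, Finsupp.sum_fintype _ _ (by simp),
    Finsupp.sum_fintype _ _ (by simp)]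
  rw [← Finset.sum_subset (Finset.subset_univ (Finset.univ.filter (· ∈ N))) (fun g _ hg => by
    rw [hzN g (by simpa using hg), zero_mul]), Finset.sum_subtype _ (p := (· ∈ N)) (by simp)]
  exact Finset.sum_congr rfl fun a _ => by
    simp only [coeff_resMap, Subgroup.coe_mul, Subgroup.coe_inv]

/-- The central character of a constituent agrees on central elements supported in `N`. -/
theorem omega_eq_omega_resMap (χ : IrrCharacter G) (θ : IrrCharacter N)
    (h : classInner (fun n : N => (χ : G → ℂ) n) (θ : N → ℂ) ≠ 0) {z : MonoidAlgebra ℂ G}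
    (hz : IsCentralElt z) (hzN : ∀ g, g ∉ N → z.coeff g = 0) :
    omega (χ : G → ℂ) z = omega (θ : N → ℂ) (resMap N z) := by
  classical
  set f : N → ℂ := fun n => (χ : G → ℂ) n with hf
  have hfc : IsClassFunction N f := fun a b => IsIrr.isClassFunction χ.2 (a : G) (b : G)
  set a : IrrCharacter N → ℂ := fun φ => classInner f (φ : N → ℂ)
  have hlin : ∀ v : MonoidAlgebra ℂ N, chiLin f v = ∑ φ : IrrCharacter N, a φ * chiLin (φ : N → ℂ) v := by
    intro v
    simp only [chiLin, Finset.mul_sum]
    rw [Finset.sum_comm]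
    refine Finset.sum_congr rfl fun n _ => ?_
    conv_lhs => rw [classFunction_expansion hfc]
    simp only [Finset.sum_apply, Pi.smul_apply, smul_eq_mul, Finset.mul_sum, a]
    exact Finset.sum_congr rfl fun φ _ => by ring
  set e := blockElem ({θ} : Set (IrrCharacter N))
  have he : ∀ v : MonoidAlgebra ℂ N, chiLin f (e * v) = a θ * chiLin (θ : N → ℂ) v := by
    intro v
    rw [hlin, Finset.sum_eq_single θ]
    · rw [chiLin_blockElem_mul, if_pos (Set.mem_singleton θ)]
    · intro φ _ hφ
      rw [chiLin_blockElem_mul, if_neg (by simpa using hφ), mul_zero]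
    · simp
  -- lift of the idempotent to the big group
  let E : MonoidAlgebra ℂ G := ofFun fun g => if hg : g ∈ N then e.coeff ⟨g, hg⟩ else 0
  have hE : resMap N E = e := by
    apply coeff_injective; ext n
    simp [coeff_resMap, E]
  have hEN : ∀ g, g ∉ N → E.coeff g = 0 := fun g hg => by simp [E, hg]
  have h1 : chiLin f (resMap N z * e) = omega (χ : G → ℂ) z * chiLin f e := by
    rw [← hE, ← resMap_mul hzN, hf, chiLin_resMap ?_, chiLin_resMap hEN, chiLin_central_mul χ.2 hz]
    intro g hg
    rw [coeff_mul_apply_left, Finsupp.sum_fintype _ _ (by simp)]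
    refine Finset.sum_eq_zero fun b _ => ?_
    by_cases hb : b ∈ N
    · rw [hEN _ (fun hc => hg (by simpa using N.mul_mem hb hc)), mul_zero]
    · rw [hzN b hb, zero_mul]
  rw [← isCentralElt_comm (isCentralElt_blockElem _), he] at h1
  have h2 := he 1
  rw [mul_one] at h2
  rw [h2, chiLin_one] at h1
  have hθ := irr_one_ne_zero θ.2
  have ha : a θ ≠ 0 := h
  rw [omega.eq_def (θ : N → ℂ), eq_div_iff hθ]
  apply mul_left_cancel₀ ha
  rw [h1]
  ring

omit [Fintype N] in
lemma coeff_classSum_eq_zero (hN : N.Normal) {g : G} (hg : g ∈ N) (x : G) (hx : x ∉ N) :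
    (classSum g).coeff x = 0 := by
  rw [classSum, coeff_ofFun, if_neg]
  intro h
  obtain ⟨c, rfl⟩ := isConj_iff.1 h
  exact hx (hN.conj_mem g hg c)

variable [hN : N.Normal]

/-- Constituents are detected by central characters. -/
theorem classInner_ne_zero_iff_centralChar (χ : IrrCharacter G) (θ : IrrCharacter N) :
    classInner (fun n : N => (χ : G → ℂ) n) (θ : N → ℂ) ≠ 0 ↔
      ∀ n : N, centralChar (χ : G → ℂ) (n : G) = inducedCentralChar N (θ : N → ℂ) (n : G) := by
  classical
  constructor
  · intro h n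
    rw [← omega_classSum (IsIrr.isClassFunction χ.2), ← omega_resMap_classSum]
    exact omega_eq_omega_resMap χ θ h (isCentralElt_classSum _)
      (coeff_classSum_eq_zero hN n.2)
  · intro h h0
    haveI : Finite (ConjClasses G) := Finite.of_surjective _ ConjClasses.mk_surjective
    haveI : Fintype (ConjClasses G) := Fintype.ofFinite _
    let S : G → ℂ := fun g => ∑ x : G, extendByZero N (θ : N → ℂ) (x * g * x⁻¹)
    have hext : ∀ (g : G) (hg : g ∈ N), extendByZero N (θ : N → ℂ) g = (θ : N → ℂ) ⟨g, hg⟩ :=
      fun g hg => Subtype.val_injective.extend_apply (θ : N → ℂ) 0 ⟨g, hg⟩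
    have hext0 : ∀ g : G, g ∉ N → extendByZero N (θ : N → ℂ) g = 0 := fun g hg =>
      Function.extend_apply' _ _ _ (fun ⟨a, ha⟩ => hg (ha ▸ a.2))
    have hS0 : ∀ g : G, g ∉ N → S g = 0 := fun g hg => Finset.sum_eq_zero fun x _ =>
      hext0 _ fun hc => hg (by simpa [mul_assoc] using hN.conj_mem _ hc x⁻¹)
    have hScl : IsClassFunction G S := by
      intro g c
      refine Fintype.sum_equiv (Equiv.mulRight c) _ _ fun x => ?_
      simp only [Equiv.coe_mulRight]
      congr 1
      group
    let z : MonoidAlgebra ℂ G := ofFun fun g => conj (S g)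
    have hz : IsCentralElt z := isCentralElt_ofFun fun g c => by rw [hScl g c]
    have hzN : ∀ g, g ∉ N → z.coeff g = 0 := fun g hg => by simp [z, hS0 g hg]
    -- both central characters agree on `z`
    have heq : omega (χ : G → ℂ) z = omega (θ : N → ℂ) (resMap N z) := by
      have hlin : omega (θ : N → ℂ) (resMap N z) =
          ∑ C : ConjClasses G, z.coeff C.out * inducedCentralChar N (θ : N → ℂ) C.out := by
        conv_lhs => rw [eq_sum_classSum hz]
        simp only [← omega_resMap_classSum, omega, chiLin, coeff_resMap, coeff_sum,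
          Finsupp.finsetSum_apply, coeff_smul_apply, smul_eq_mul, Finset.sum_mul, Finset.sum_div]
        rw [Finset.sum_comm]
        refine Finset.sum_congr rfl fun C _ => ?_
        rw [Finset.mul_sum]
        exact Finset.sum_congr rfl fun n _ => by ring
      rw [hlin, omega_eq_sum_classes (IsIrr.isClassFunction χ.2) hz]
      refine Finset.sum_congr rfl fun C _ => ?_
      by_cases hC : C.out ∈ N
      · rw [show centralChar (χ : G → ℂ) C.out = inducedCentralChar N (θ : N → ℂ) C.out from h ⟨_, hC⟩]
      · rw [hzN _ hC, zero_mul, zero_mul]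
    -- the right-hand side is positive
    have hpos : ∑ g : G, conj (S g) * S g ≠ 0 := by
      intro hsum
      have h' : ∑ g : G, Complex.normSq (S g) = 0 := by
        have : ((∑ g : G, Complex.normSq (S g) : ℝ) : ℂ) = 0 := by
          push_cast
          rw [← hsum]
          exact Finset.sum_congr rfl fun g _ => by rw [← Complex.mul_conj, mul_comm]
        exact_mod_cast this
      have h1 := Complex.normSq_eq_zero.1
        ((Finset.sum_eq_zero_iff_of_nonneg (fun g _ => Complex.normSq_nonneg _)).1 h' 1 (Finset.mem_univ 1))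
      simp only [S, mul_one, mul_inv_cancel, hext 1 N.one_mem, Finset.sum_const, Finset.card_univ,
        nsmul_eq_mul] at h1
      exact mul_ne_zero (Nat.cast_ne_zero.2 Fintype.card_ne_zero) (irr_one_ne_zero θ.2) h1
    have hR : ∑ g : G, conj (S g) * S g = (Fintype.card G : ℂ) * chiLin (θ : N → ℂ) (resMap N z) := by
      have h3 : ∀ x : G, ∑ g : G, conj (S g) * extendByZero N (θ : N → ℂ) (x * g * x⁻¹) =
          ∑ g : G, conj (S g) * extendByZero N (θ : N → ℂ) g := fun x =>
        Fintype.sum_equiv (MulAut.conj x).toEquiv _ _ fun g => by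
          simp only [MulEquiv.toEquiv_eq_coe, EquivLike.coe_coe, MulAut.conj_apply, hScl g x]
      calc ∑ g : G, conj (S g) * S g
          = ∑ x : G, ∑ g : G, conj (S g) * extendByZero N (θ : N → ℂ) (x * g * x⁻¹) := by
            rw [Finset.sum_comm]
            exact Finset.sum_congr rfl fun g _ => Finset.mul_sum _ _ _
        _ = _ := by
            simp only [h3, Finset.sum_const, Finset.card_univ, nsmul_eq_mul]
            congr 1
            rw [← Finset.sum_subset (Finset.subset_univ (Finset.univ.filter (· ∈ N))) (fun g _ hg => by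
              rw [hS0 g (by simpa using hg), map_zero, zero_mul]),
              Finset.sum_subtype _ (p := (· ∈ N)) (by simp), chiLin]
            exact Finset.sum_congr rfl fun n _ => by simp [coeff_resMap, z, hext]
    -- the left-hand side is a multiple of the multiplicity
    have hL : chiLin (χ : G → ℂ) z = (Fintype.card G : ℂ) * (Nat.card N : ℂ) *
        classInner (fun n : N => (χ : G → ℂ) n) (θ : N → ℂ) := by
      have h3 : ∀ x : G, ∑ g : G, conj (extendByZero N (θ : N → ℂ) (x * g * x⁻¹)) * (χ : G → ℂ) g =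
          ∑ g : G, conj (extendByZero N (θ : N → ℂ) g) * (χ : G → ℂ) g := fun x =>
        Fintype.sum_equiv (MulAut.conj x).toEquiv _ _ fun g => by
          simp only [MulEquiv.toEquiv_eq_coe, EquivLike.coe_coe, MulAut.conj_apply,
            IsIrr.isClassFunction χ.2 g x]
      rw [chiLin, Finset.sum_congr rfl (g := fun g => ∑ x : G,
        conj (extendByZero N (θ : N → ℂ) (x * g * x⁻¹)) * (χ : G → ℂ) g) (fun g _ => by
          simp only [z, coeff_ofFun, S, map_sum, Finset.sum_mul]), Finset.sum_comm]
      simp only [h3, Finset.sum_const, Finset.card_univ, nsmul_eq_mul]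
      rw [mul_assoc]
      congr 1
      rw [classInner_def, ← mul_assoc, mul_inv_cancel₀ (Nat.cast_ne_zero.2 Nat.card_pos.ne'), one_mul,
        ← Finset.sum_subset (Finset.subset_univ (Finset.univ.filter (· ∈ N))) (fun g _ hg => by
          rw [hext0 g (by simpa using hg), map_zero, zero_mul]),
        Finset.sum_subtype _ (p := (· ∈ N)) (by simp)]
      exact Finset.sum_congr rfl fun n _ => by rw [hext _ n.2]; ring
    rw [omega, hL, h0, mul_zero, zero_div, omega, eq_comm, div_eq_zero_iff] at heq
    apply hpos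
    rw [hR, heq.resolve_right (irr_one_ne_zero θ.2), mul_zero]

/-- Congruent central characters on central integral elements supported in `N`. -/
theorem omega_resMap_congr_of_sameBlock (hM : IsPModular p M) {χ ψ : IrrCharacter G}
    (h : SameBlock M (χ : G → ℂ) (ψ : G → ℂ)) {θ φ : IrrCharacter N}
    (hθ : classInner (fun n : N => (χ : G → ℂ) n) (θ : N → ℂ) ≠ 0)
    (hφ : classInner (fun n : N => (ψ : G → ℂ) n) (φ : N → ℂ) ≠ 0) (n : N) :
    MemLocalIdeal M (inducedCentralChar N (θ : N → ℂ) (n : G) -
      inducedCentralChar N (φ : N → ℂ) (n : G)) := by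
  rw [← (classInner_ne_zero_iff_centralChar χ θ).1 hθ n,
    ← (classInner_ne_zero_iff_centralChar ψ φ).1 hφ n]
  exact h n

omit [Fintype G] [Fintype N] in
lemma centralChar_twist [Finite G] (θ : IrrCharacter N) (d : G) (n : N) :
    centralChar (H80.conjTwist N θ d : N → ℂ) n = centralChar (θ : N → ℂ) (MulAut.conjNormal d n) := by
  unfold centralChar
  rw [show (H80.conjTwist N θ d : N → ℂ) n = (θ : N → ℂ) (MulAut.conjNormal d n) from rfl,
    show (H80.conjTwist N θ d : N → ℂ) 1 = (θ : N → ℂ) (MulAut.conjNormal d 1) from rfl, map_one]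
  congr 2
  set e := MulAut.conjNormal (H := N) d
  have : (Subgroup.centralizer ({e n} : Set N)) =
      (Subgroup.centralizer ({n} : Set N)).map e.toMonoidHom := by
    ext y
    rw [Subgroup.mem_map_equiv, Subgroup.mem_centralizer_singleton_iff,
      Subgroup.mem_centralizer_singleton_iff]
    constructor
    · intro hy
      apply e.injective
      simp only [map_mul, MulEquiv.apply_symm_apply]
      exact hy
    · intro hy
      have := congrArg e hy
      simpa only [map_mul, MulEquiv.apply_symm_apply] using this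
  rw [this]
  exact congrArg Nat.cast (Subgroup.index_map_equiv (H := Subgroup.centralizer ({n} : Set N)) e).symm

omit [Fintype G] [Fintype N] in
lemma sameBlock_twist [Finite G] {θ φ : IrrCharacter N} (d : G)
    (h : SameBlock M (θ : N → ℂ) (φ : N → ℂ)) :
    SameBlock M (H80.conjTwist N θ d : N → ℂ) (H80.conjTwist N φ d : N → ℂ) := fun n => by
  rw [centralChar_twist, centralChar_twist]
  exact h _

omit [Fintype G] [Fintype N] in
lemma conjTwist_conjTwist [Finite G] (θ : IrrCharacter N) (d e : G) :
    H80.conjTwist N (H80.conjTwist N θ d) e = H80.conjTwist N θ (d * e) := by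
  apply Subtype.ext
  funext n
  show (θ : N → ℂ) (MulAut.conjNormal d (MulAut.conjNormal e n)) =
    (θ : N → ℂ) (MulAut.conjNormal (d * e) n)
  rw [map_mul]; rfl

omit [Fintype G] [Fintype N] in
lemma conjTwist_one [Finite G] (θ : IrrCharacter N) : H80.conjTwist N θ (1 : G) = θ := by
  apply Subtype.ext
  funext n
  show (θ : N → ℂ) (MulAut.conjNormal (1 : G) n) = _
  rw [map_one]; rfl

/-- Congruence on the classes inside `N` means conjugate blocks. -/
theorem exists_twist_sameBlock (hM : IsPModular p M) {θ φ : IrrCharacter N}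
    (h : ∀ n : N, MemLocalIdeal M (inducedCentralChar N (θ : N → ℂ) (n : G) -
      inducedCentralChar N (φ : N → ℂ) (n : G))) :
    ∃ d : G, SameBlock M (H80.conjTwist N φ d : N → ℂ) (θ : N → ℂ) := by
  classical
  let O : Set (IrrCharacter N) := {ψ | ∃ d : G, SameBlock M (H80.conjTwist N φ d : N → ℂ) (ψ : N → ℂ)}
  have hOunion : ∀ ψ ∈ O, blockOf M (ψ : N → ℂ) ⊆ O := fun ψ ⟨d, hd⟩ ψ' hψ' =>
    ⟨d, sameBlock_trans hM hd hψ'⟩
  have hOmem : ∀ (ψ : IrrCharacter N) (e : G), ψ ∈ O → H80.conjTwist N ψ e ∈ O := by
    rintro ψ e ⟨d, hd⟩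
    refine ⟨d * e, ?_⟩
    rw [← conjTwist_conjTwist]
    exact sameBlock_twist e hd
  let tw : G → (IrrCharacter N ≃ IrrCharacter N) := fun e =>
    { toFun := fun ψ => H80.conjTwist N ψ e
      invFun := fun ψ => H80.conjTwist N ψ e⁻¹
      left_inv := fun ψ => by simp [conjTwist_conjTwist, conjTwist_one]
      right_inv := fun ψ => by simp [conjTwist_conjTwist, conjTwist_one] }
  have hOiff : ∀ (ψ : IrrCharacter N) (e : G), H80.conjTwist N ψ e ∈ O ↔ ψ ∈ O := fun ψ e =>
    ⟨fun h' => by simpa [conjTwist_conjTwist, conjTwist_one] using hOmem _ e⁻¹ h', hOmem ψ e⟩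
  have hinv : ∀ (e : G) (n : N), blockCoeff O (MulAut.conjNormal e n) = blockCoeff O n := by
    intro e n
    unfold blockCoeff
    congr 1
    rw [finsum_mem_eq_sum_ite, finsum_mem_eq_sum_ite]
    refine Fintype.sum_equiv (tw e) _ _ fun ψ => ?_
    simp only [tw, Equiv.coe_fn_mk, hOiff]
    split_ifs
    · show _ = (ψ : N → ℂ) (MulAut.conjNormal e 1) * conj ((ψ : N → ℂ) (MulAut.conjNormal e n))
      rw [map_one]
    · rfl
  let z : MonoidAlgebra ℂ G := ofFun fun g => if hg : g ∈ N then blockCoeff O ⟨g, hg⟩ else 0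
  have hz : IsCentralElt z := isCentralElt_ofFun fun g c => by
    by_cases hg : g ∈ N
    · rw [dif_pos hg, dif_pos (hN.conj_mem g hg c)]
      exact hinv c ⟨g, hg⟩
    · rw [dif_neg hg, dif_neg]
      intro hc
      exact hg (by simpa [mul_assoc] using hN.conj_mem _ hc c⁻¹)
  have hres : resMap N z = blockElem O := by
    apply coeff_injective; ext n
    simp [coeff_resMap, z, coeff_blockElem]
  haveI : Finite (ConjClasses G) := Finite.of_surjective _ ConjClasses.mk_surjective
  haveI : Fintype (ConjClasses G) := Fintype.ofFinite _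
  have hlin : ∀ η : IrrCharacter N, omega (η : N → ℂ) (resMap N z) =
      ∑ C : ConjClasses G, z.coeff C.out * inducedCentralChar N (η : N → ℂ) C.out := by
    intro η
    conv_lhs => rw [eq_sum_classSum hz]
    simp only [← omega_resMap_classSum, omega, chiLin, coeff_resMap, coeff_sum,
      Finsupp.finsetSum_apply, coeff_smul_apply, smul_eq_mul, Finset.sum_mul, Finset.sum_div]
    rw [Finset.sum_comm]
    refine Finset.sum_congr rfl fun C _ => ?_
    rw [Finset.mul_sum]
    exact Finset.sum_congr rfl fun n _ => by ring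
  have hcong : MemLocalIdeal M (omega (θ : N → ℂ) (resMap N z) - omega (φ : N → ℂ) (resMap N z)) := by
    rw [hlin, hlin, ← Finset.sum_sub_distrib]
    refine memLocalIdeal_sum hM _ _ fun C _ => ?_
    rw [← mul_sub]
    by_cases hC : C.out ∈ N
    · refine memLocalIdeal_mul hM ?_ (h ⟨_, hC⟩)
      have := isIntElt_blockElem_of_union hM hOunion ⟨_, hC⟩
      rwa [← hres, coeff_resMap] at this
    · have : z.coeff C.out = 0 := by simp [z, hC]
      rw [this, zero_mul]
      exact memLocalIdeal_zero hM
  rw [hres, omega_blockElem, omega_blockElem,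
    if_pos (show φ ∈ O from ⟨1, by rw [conjTwist_one]; exact sameBlock_refl hM _⟩)] at hcong
  by_contra hne
  rw [if_neg (show θ ∉ O from hne), zero_sub] at hcong
  exact not_memLocalIdeal_one hM (by simpa using memLocalIdeal_neg hcong)

end Cfsg.Agent.BlockBasic
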