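import Cfsg.Agent.BlockBasic.CoverDefect

/-!
# Every member of a covered block lies below the covering block
-/

open scoped ComplexConjugate
open MonoidAlgebra

namespace Cfsg.Agent.BlockBasic

open CharBasic

universe u

variable {G : Type u} [Group G] [Fintype G] {p : ℕ} {M : Ideal AlgInt}
variable {N : Subgroup G} [hN : N.Normal] [Fintype N]

/-- The part of a block idempotent on a coset. -/
noncomputable def cosetPart (B : Set (IrrCharacter G)) (t : G ⧸ N) : MonoidAlgebra ℂ G :=
  open scoped Classical in ofFun fun g => if (g : G ⧸ N) = t then (blockElem B).coeff g else 0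

/-- Some product of coset parts of degree one of a covering block is a unit at some character. -/
theorem exists_unit_segment [Fact p.Prime] (hM : IsPModular p M) {B : Set (IrrCharacter G)}
    (hB : IsPBlock M B) {χ₀ : IrrCharacter G} (hχ₀ : χ₀ ∈ B) {θ : IrrCharacter N}
    (hθ : classInner (fun n : N => (χ₀ : G → ℂ) n) (θ : N → ℂ) ≠ 0) :
    ∃ z : MonoidAlgebra ℂ G, ∃ φ : IrrCharacter N, IsIntElt M z ∧ (∀ g, g ∉ N → z.coeff g = 0) ∧
      IsCentralElt (resMap N z) ∧ ¬ MemLocalIdeal M (omega (φ : N → ℂ) (resMap N z)) ∧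
      φ ∈ twistOrbit N M θ ∧ ∃ (a : MonoidAlgebra ℂ G) (t : G ⧸ N), z = a * cosetPart B t := by
  classical
  by_contra hcon
  push Not at hcon
  obtain ⟨hEc, hEsupp, hEres, -⟩ := orbitElem_spec N hM θ
  set E := orbitElem N M θ
  set e := blockElem B with he
  have hei : IsIntElt M e := isIntElt_blockElem hM hB
  -- components of `e` along the cosets
  let comp : G ⧸ N → MonoidAlgebra ℂ G := cosetPart B
  let P : G ⧸ N → MonoidAlgebra ℂ G → Prop := fun t z =>
    IsIntElt M z ∧ (∀ g, z.coeff g ≠ 0 → (g : G ⧸ N) = t) ∧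
      ∀ n ∈ N, ∀ g, z.coeff (n * g * n⁻¹) = z.coeff g
  have hPcomp : ∀ t, P t (comp t) := by
    refine fun t => ⟨fun g => ?_, fun g hg => ?_, fun n hn g => ?_⟩
    · simp only [comp, cosetPart, coeff_ofFun, ← he]
      split_ifs
      exacts [hei g, (locRing hM).zero_mem]
    · simp only [comp, cosetPart, coeff_ofFun, ← he] at hg
      exact of_not_not fun h => hg (if_neg h)
    · have : ((n * g * n⁻¹ : G) : G ⧸ N) = (g : G ⧸ N) := by
        simp [(QuotientGroup.eq_one_iff n).2 hn]
      simp only [comp, cosetPart, coeff_ofFun, this, isCentralElt_blockElem B g n]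
  have hPone : P 1 1 := by
    refine ⟨isIntElt_one hM, fun g hg => ?_, fun n _ g => IsCentralElt.one g n⟩
    rw [one_def, coeff_single, Finsupp.single_apply] at hg
    split_ifs at hg with h1
    · rw [← h1]; rfl
    · exact absurd rfl hg
  have hPmul : ∀ t u x y, P t x → P u y → P (t * u) (x * y) := by
    rintro t u x y ⟨hxi, hxs, hxv⟩ ⟨hyi, hys, hyv⟩
    refine ⟨hxi.mul hM hyi, fun g hg => ?_, fun n hn g => ?_⟩
    · rw [coeff_mul_apply_left, Finsupp.sum_fintype _ _ (by simp)] at hg
      obtain ⟨a, -, ha⟩ := Finset.exists_ne_zero_of_sum_ne_zero hg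
      rw [← hxs a (left_ne_zero_of_mul ha), ← hys _ (right_ne_zero_of_mul ha)]
      simp
    · rw [coeff_mul_apply_left, coeff_mul_apply_left, Finsupp.sum_fintype _ _ (by simp),
        Finsupp.sum_fintype _ _ (by simp)]
      refine (Fintype.sum_equiv (MulAut.conj n).toEquiv _ _ fun a => ?_).symm
      simp only [MulEquiv.toEquiv_eq_coe, EquivLike.coe_coe, MulAut.conj_apply, hxv n hn a]
      rw [show (n * a * n⁻¹)⁻¹ * (n * g * n⁻¹) = n * (a⁻¹ * g) * n⁻¹ by group, hyv n hn]
  have hPprod : ∀ w : List (G ⧸ N), P w.prod (w.map comp).prod := by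
    intro w
    induction w with
    | nil => exact hPone
    | cons t w ih => exact hPmul _ _ _ _ (hPcomp t) ih
  have heE : e * E = e := blockElem_mul_orbitElem hM hB hχ₀ hθ
  have hcompE : ∀ t, comp t * E = comp t := by
    intro t
    apply coeff_injective
    ext g
    rw [coeff_mul_apply_left, Finsupp.sum_fintype _ _ (by simp)]
    conv_rhs => simp only [comp, cosetPart, coeff_ofFun, ← he]; rw [← heE]
    rw [coeff_mul_apply_left, Finsupp.sum_fintype _ _ (by simp)]
    simp only [comp, cosetPart, coeff_ofFun, ← he]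
    have hco : ∀ a, E.coeff (a⁻¹ * g) ≠ 0 → (a : G ⧸ N) = (g : G ⧸ N) := fun a ha =>
      QuotientGroup.eq.2 (resMap_blockElem_supp N ha hEsupp)
    split_ifs with hg
    · refine Finset.sum_congr rfl fun a _ => ?_
      split_ifs with ha
      · rfl
      · rw [not_not.1 fun h => ha ((hco a h).trans hg), mul_zero, mul_zero]
    · refine Finset.sum_eq_zero fun a _ => ?_
      split_ifs with ha
      · rw [not_not.1 fun h => hg ((hco a h).symm.trans ha), mul_zero]
      · rw [zero_mul]
  -- segments of degree one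
  let T : Set (MonoidAlgebra ℂ G) := {z | P 1 z ∧ z * E = z ∧ ∃ a t, z = a * comp t}
  have hseg : ∀ w : List (G ⧸ N), w ≠ [] → w.prod = 1 → (w.map comp).prod ∈ T := by
    intro w hw hw1
    refine ⟨hw1 ▸ hPprod w, ?_, (w.dropLast.map comp).prod, w.getLast hw, ?_⟩
    · obtain ⟨t, w, rfl⟩ := List.exists_cons_of_ne_nil hw
      rw [List.map_cons, List.prod_cons, mul_assoc, ← isCentralElt_comm hEc, ← mul_assoc, hcompE]
    · conv_lhs => rw [← List.dropLast_append_getLast hw]
      rw [List.map_append, List.prod_append, List.map_singleton, List.prod_singleton]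
  have hTN : ∀ z ∈ T, ∀ g, g ∉ N → z.coeff g = 0 := fun z hz g hg =>
    not_not.1 fun h => hg ((QuotientGroup.eq_one_iff g).1 (hz.1.2.1 g h))
  -- segments commute
  have hTcomm : ∀ z ∈ T, ∀ z' ∈ T, z * z' = z' * z := by
    intro z hz z' hz'
    apply coeff_injective
    ext g
    rw [coeff_mul_apply_left, coeff_mul_apply_left, Finsupp.sum_fintype _ _ (by simp),
      Finsupp.sum_fintype _ _ (by simp)]
    refine Fintype.sum_equiv ((Equiv.inv G).trans (Equiv.mulRight g)) _ _ fun a => ?_
    simp only [Equiv.trans_apply, Equiv.inv_apply, Equiv.coe_mulRight]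
    by_cases ha : a⁻¹ * g ∈ N
    · have := hz.1.2.2 (a⁻¹ * g) ha ((a⁻¹ * g)⁻¹ * g)
      rw [show a⁻¹ * g * ((a⁻¹ * g)⁻¹ * g) * (a⁻¹ * g)⁻¹ = a by group] at this
      rw [this, mul_comm]
    · rw [hTN z' hz' _ ha, mul_zero, zero_mul]
  have hTnil : ∀ z ∈ T, IsNilpotent (red hM z) := by
    intro z hz
    have hzN := hTN z hz
    set w := resMap N z
    have hwc : IsCentralElt w := fun n m => by
      simp only [w, coeff_resMap, Subgroup.coe_mul, Subgroup.coe_inv]
      exact hz.1.2.2 m m.2 n
    have hwi : IsIntElt M w := isIntElt_resMap hz.1.1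
    have hw : ∀ φ : IrrCharacter N, MemLocalIdeal M (omega (φ : N → ℂ) w) := by
      intro φ
      have hwE : w = w * blockElem (twistOrbit N M θ) := by
        rw [← hEres, ← resMap_mul hzN, hz.2.1]
      by_cases hφ : φ ∈ twistOrbit N M θ
      · by_contra hu
        obtain ⟨a, t, hat⟩ := hz.2.2
        exact hcon z φ hz.1.1 hzN hwc hu hφ a t hat
      · rw [hwE, omega_mul φ.2 hwc, omega_blockElem, if_neg hφ, mul_zero]
        exact memLocalIdeal_zero hM
    obtain ⟨n, hn⟩ := exists_pow_coeff_mem hM hwc hw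
    refine ⟨n + 1, ?_⟩
    rw [← red_pow hM hz.1.1, red_eq_zero_iff hM (hz.1.1.pow hM _)]
    have hpow : ∀ m : ℕ, (∀ g, g ∉ N → (z ^ (m + 1)).coeff g = 0) ∧
        resMap N (z ^ (m + 1)) = w ^ (m + 1) := by
      intro m
      induction m with
      | zero => exact ⟨by simpa using hzN, by simp [w]⟩
      | succ m ih =>
        obtain ⟨h1, h2⟩ := ih
        refine ⟨fun g hg => ?_, by rw [pow_succ, resMap_mul h1, h2, ← pow_succ]⟩
        rw [pow_succ, coeff_mul_apply_left, Finsupp.sum_fintype _ _ (by simp)]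
        refine Finset.sum_eq_zero fun a _ => ?_
        by_cases ha : a ∈ N
        · rw [hzN _ (fun h => hg (by simpa using N.mul_mem ha h)), mul_zero]
        · rw [h1 a ha, zero_mul]
    intro g
    by_cases hg : g ∈ N
    · have h1 : (z ^ (n + 1)).coeff g = (w ^ (n + 1)).coeff ⟨g, hg⟩ := by
        rw [← (hpow n).2, coeff_resMap]
      rw [h1, pow_succ, coeff_mul_apply_left, Finsupp.sum_fintype _ _ (by simp)]
      exact memLocalIdeal_sum hM _ _ fun a _ => by
        rw [mul_comm]; exact memLocalIdeal_mul hM (hwi _) (hn a)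
    · rw [(hpow n).1 g hg]; exact memLocalIdeal_zero hM
  -- long products vanish
  let S : Set (MonoidAlgebra (Residue hM) G) := red hM '' T
  obtain ⟨r, hr⟩ := exists_prod_red_eq_zero hM (S := S)
    (by
      rintro _ ⟨z, hz, rfl⟩ _ ⟨z', hz', rfl⟩
      rw [commute_iff_eq, ← red_mul hM hz.1.1 hz'.1.1, hTcomm z hz z' hz', red_mul hM hz'.1.1 hz.1.1])
    (by rintro _ ⟨z, hz, rfl⟩; exact hTnil z hz)
  have hsum : e = ∑ t : G ⧸ N, comp t := by
    apply coeff_injective
    ext g
    rw [coeff_sum, Finsupp.finsetSum_apply]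
    simp [comp, cosetPart, e]
  have hz0 := sum_pow_eq_zero (fun t => red hM (comp t)) (S := S)
    (fun w hw hw1 => by
      refine ⟨(w.map comp).prod, hseg w hw hw1, ?_⟩
      rw [(red_list_prod hM (w.map comp) (by simpa using fun t _ => (hPcomp t).1)).2, List.map_map]
      rfl) hr
  rw [← red_sum hM _ (fun t _ => (hPcomp t).1), ← hsum, ← red_pow hM hei,
    (show IsIdempotentElem e from blockElem_idem B).pow_succ_eq, red_eq_zero_iff hM hei] at hz0
  obtain ⟨g, hg⟩ := exists_isDefectClass (p := p) hM hB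
  exact hg.2.1 (by simpa [e, coeff_blockElem] using hz0 g)

/-- A covering block lies over every member of the covered block. -/
theorem exists_over_of_covers [Fact p.Prime] (hM : IsPModular p M) {B : Set (IrrCharacter G)}
    (hB : IsPBlock M B) {χ₀ : IrrCharacter G} (hχ₀ : χ₀ ∈ B) {θ₀ θ : IrrCharacter N}
    (hθ₀ : classInner (fun n : N => (χ₀ : G → ℂ) n) (θ₀ : N → ℂ) ≠ 0)
    (hθ : SameBlock M (θ₀ : N → ℂ) (θ : N → ℂ)) :
    ∃ χ ∈ B, classInner (fun n : N => (χ : G → ℂ) n) (θ : N → ℂ) ≠ 0 := by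
  classical
  by_contra hcon
  push Not at hcon
  obtain ⟨z, φ, hzi, hzN, hwc, hu, ⟨d, hd⟩, a, t, hat⟩ := exists_unit_segment hM hB hχ₀ hθ₀
  set O : Set (IrrCharacter N) := {ψ | ∃ c : G, ψ = H80.conjTwist N θ c}
  let F : MonoidAlgebra ℂ G := ofFun fun g => if hg : g ∈ N then blockCoeff O ⟨g, hg⟩ else 0
  have hiff : ∀ (c : G) (ψ : IrrCharacter N), H80.conjTwist N ψ c ∈ O ↔ ψ ∈ O := by
    intro c ψ
    constructor
    · rintro ⟨c', hc'⟩
      refine ⟨c' * c⁻¹, ?_⟩
      rw [← conjTwist_conjTwist, ← hc', conjTwist_conjTwist, mul_inv_cancel, conjTwist_one]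
    · rintro ⟨c', rfl⟩
      exact ⟨c' * c, conjTwist_conjTwist θ c' c⟩
  have hFc : IsCentralElt F := isCentralElt_ofFun fun g c => by
    by_cases hg : g ∈ N
    · rw [dif_pos hg, dif_pos (hN.conj_mem g hg c)]
      exact (blockCoeff_conjNormal N c (hiff c) ⟨g, hg⟩).symm
    · rw [dif_neg hg, dif_neg]
      intro hc
      exact hg (by simpa [mul_assoc] using hN.conj_mem _ hc c⁻¹)
  have hFN : ∀ g, g ∉ N → F.coeff g = 0 := fun g hg => by simp [F, hg]
  have hFres : resMap N F = blockElem O := by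
    apply coeff_injective; ext n
    simp [F, coeff_resMap, coeff_blockElem]
  have heF : blockElem B * F = 0 := by
    refine eq_of_omega_eq ((isCentralElt_blockElem B).mul hFc) (fun _ _ => by simp) fun χ => ?_
    rw [omega_mul χ.2 (isCentralElt_blockElem B), omega_blockElem]
    have h0 : omega (χ : G → ℂ) (0 : MonoidAlgebra ℂ G) = 0 := by simp [omega, chiLin]
    rw [h0]
    split_ifs with hχ
    · obtain ⟨ψ, hψ⟩ := exists_constituent χ N
      rw [one_mul, omega_eq_omega_resMap χ ψ hψ hFc hFN, hFres, omega_blockElem, if_neg]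
      rintro ⟨c, rfl⟩
      exact hψ (by
        rw [H80.classInner_res_conjTwist N (IsIrr.isClassFunction χ.2)]
        exact hcon χ hχ)
    · rw [zero_mul]
  have htF : cosetPart B t * F = 0 := by
    apply coeff_injective
    ext g
    rw [coeff_mul_apply_left, Finsupp.sum_fintype _ _ (by simp)]
    simp only [cosetPart, coeff_ofFun, coeff_zero, Finsupp.coe_zero, Pi.zero_apply]
    have hco : ∀ x, F.coeff (x⁻¹ * g) ≠ 0 → (x : G ⧸ N) = (g : G ⧸ N) := fun x hx =>
      QuotientGroup.eq.2 (resMap_blockElem_supp N hx hFN)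
    by_cases hg : (g : G ⧸ N) = t
    · have := congrArg (fun y : MonoidAlgebra ℂ G => y.coeff g) heF
      simp only [coeff_zero, Finsupp.coe_zero, Pi.zero_apply] at this
      rw [coeff_mul_apply_left, Finsupp.sum_fintype _ _ (by simp)] at this
      rw [← this]
      refine Finset.sum_congr rfl fun x _ => ?_
      split_ifs with hx
      · rfl
      · rw [not_not.1 fun h => hx ((hco x h).trans hg), mul_zero, mul_zero]
    · refine Finset.sum_eq_zero fun x _ => ?_
      split_ifs with hx
      · rw [not_not.1 fun h => hg ((hco x h).symm.trans hx), mul_zero]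
      · rw [zero_mul]
  have hzF : z * F = 0 := by rw [hat, mul_assoc, htF, mul_zero]
  set θd := H80.conjTwist N θ d
  have hw0 : omega (θd : N → ℂ) (resMap N z) = 0 := by
    have h1 : resMap N z * blockElem O = resMap N (z * F) := by rw [← hFres, resMap_mul hzN]
    have h2 := omega_mul (χ := (θd : N → ℂ)) θd.2 hwc (w := blockElem O)
    rw [omega_blockElem, if_pos (show θd ∈ O from ⟨d, rfl⟩), mul_one, h1, hzF] at h2
    rw [← h2]
    simp [omega, chiLin, coeff_resMap]
  apply hu
  have hb : SameBlock M (φ : N → ℂ) (θd : N → ℂ) :=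
    sameBlock_trans hM (sameBlock_symm hd) (sameBlock_twist d hθ)
  have := omega_congr hM (IsIrr.isClassFunction φ.2) (IsIrr.isClassFunction θd.2) hb hwc
    (isIntElt_resMap hzi)
  rwa [hw0, sub_zero] at this

end Cfsg.Agent.BlockBasic
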