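import Cfsg.Agent.BlockBasic.Covering
import Cfsg.Agent.BlockBasic.Residue
import Cfsg.Agent.H35.Consequences

/-!
# Defect groups of covering blocks
-/

open scoped ComplexConjugate
open MonoidAlgebra

namespace Cfsg.Agent.BlockBasic

open CharBasic

universe u

variable {G : Type u} [Group G] [Fintype G] {p : ℕ} {M : Ideal AlgInt}

/-- A product of invariant integral elements is congruent to its part on the fixed points. -/
theorem coeff_mul_mem_of_vanish [Fact p.Prime] (hM : IsPModular p M) {x y : MonoidAlgebra ℂ G}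
    (hx : IsIntElt M x) (hy : IsIntElt M y) {Q : Subgroup G} (hQ : IsPGroup p Q)
    (hxi : ∀ q ∈ Q, ∀ g, x.coeff (q * g * q⁻¹) = x.coeff g)
    (hyi : ∀ q ∈ Q, ∀ g, y.coeff (q * g * q⁻¹) = y.coeff g) {h : G}
    (hh : ∀ q ∈ Q, q * h = h * q)
    (hvan : ∀ a, (∀ q ∈ Q, q * a = a * q) → MemLocalIdeal M (x.coeff a)) :
    MemLocalIdeal M ((x * y).coeff h) := by
  classical
  let _ : MulAction Q G := MulAction.compHom G ((MulAut.conj : G →* MulAut G).comp Q.subtype)
  have hsmul : ∀ (q : Q) (a : G), q • a = (q : G) * a * (q : G)⁻¹ := fun _ _ => rfl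
  rw [coeff_mul_apply_left, Finsupp.sum_fintype _ _ (by simp)]
  have hs := H35.sum_sub_fixed_mem (X := G) hM hQ (fun a => x.coeff a * y.coeff (a⁻¹ * h))
    (fun a => memLocalRing_mul hM (hx _) (hy _)) (fun q a => by
      simp only [hsmul]
      rw [hxi _ q.2, show ((q : G) * a * (q : G)⁻¹)⁻¹ * h = (q : G) * (a⁻¹ * h) * (q : G)⁻¹ by
        rw [mul_inv_rev, mul_inv_rev, inv_inv, mul_assoc, mul_assoc, mul_assoc, mul_assoc]
        congr 2
        rw [inv_mul_eq_iff_eq_mul, ← mul_assoc, hh _ q.2, mul_inv_cancel_right],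
        hyi _ q.2])
  have h2 := memLocalIdeal_sum hM
    (Finset.univ.filter fun a : G => a ∈ MulAction.fixedPoints Q G)
    (fun a => x.coeff a * y.coeff (a⁻¹ * h)) fun a ha => by
      rw [mul_comm]
      refine memLocalIdeal_mul hM (hy _) (hvan a fun q hq => ?_)
      have := (Finset.mem_filter.1 ha).2 ⟨q, hq⟩
      rw [hsmul] at this
      exact mul_inv_eq_iff_eq_mul.1 this
  simpa using memLocalIdeal_add hM hs h2

/-- A power of a central element with all central characters in `M` has coefficients in `M`. -/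
theorem exists_pow_coeff_mem [Fact p.Prime] (hM : IsPModular p M) {z : MonoidAlgebra ℂ G}
    (hz : IsCentralElt z) (h : ∀ χ : IrrCharacter G, MemLocalIdeal M (omega (χ : G → ℂ) z)) :
    ∃ n : ℕ, ∀ g, MemLocalIdeal M ((z ^ n).coeff g) := by
  classical
  choose K r hr hK using fun χ => exists_pow_eq_natCast_mul hM (h χ)
  obtain ⟨a, m, hm, hG⟩ := Nat.exists_eq_pow_mul_and_not_dvd (Nat.card_pos (α := G)).ne' p
    (Fact.out : p.Prime).ne_one
  refine ⟨(∑ χ, K χ) * (a + 1), fun g => ?_⟩
  rw [coeff_eq_sum_omega (hz.pow _), Finset.mul_sum]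
  refine memLocalIdeal_sum hM _ _ fun χ _ => ?_
  rw [omega_pow χ.2 hz]
  obtain ⟨j, hj⟩ : ∃ j, ∑ φ, K φ = K χ + j :=
    ⟨∑ φ ∈ Finset.univ.erase χ, K φ, (Finset.add_sum_erase _ _ (Finset.mem_univ χ)).symm⟩
  rw [hj, add_mul, pow_add, pow_mul, hK, mul_pow, hG]
  have hp0 : (p : ℂ) ^ a ≠ 0 := pow_ne_zero _ (Nat.cast_ne_zero.2 (Fact.out : p.Prime).ne_zero)
  have e : ((p ^ a * m : ℕ) : ℂ)⁻¹ * ((χ : G → ℂ) 1 *
      ((p : ℂ) ^ (a + 1) * r χ ^ (a + 1) * omega (χ : G → ℂ) z ^ (j * (a + 1))) *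
        conj ((χ : G → ℂ) g)) =
      ((m : ℂ)⁻¹ * (χ : G → ℂ) 1 * r χ ^ (a + 1) * omega (χ : G → ℂ) z ^ (j * (a + 1)) *
        conj ((χ : G → ℂ) g)) * (p : ℂ) := by
    rw [Nat.cast_mul, Nat.cast_pow, mul_inv, pow_succ (p : ℂ) a]
    field_simp
  rw [e]
  refine memLocalIdeal_mul hM ?_ ((memLocalIdeal_natCast_iff hM p).2 dvd_rfl)
  refine memLocalRing_mul hM (memLocalRing_mul hM (memLocalRing_mul hM (memLocalRing_mul hM
    (memLocalRing_natCast_inv hM hm) (memLocalRing_of_isIntegral hM (isIntegral_apply χ 1)))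
    ((locRing hM).pow_mem (hr χ) _))
    ((locRing hM).pow_mem (MemLocalIdeal.memLocalRing (h χ)) _))
    (memLocalRing_of_isIntegral hM (isIntegral_conj_apply χ g))

/-- A block idempotent is an integral multiple of every central integral element on which the
central character of the block is a unit. -/
theorem blockElem_eq_mul (hM : IsPModular p M) {B : Set (IrrCharacter G)}
    (hB : IsPBlock M B) {K : MonoidAlgebra ℂ G} (hK : IsCentralElt K) (hKi : IsIntElt M K)
    {χ₀ : IrrCharacter G} (hχ₀ : χ₀ ∈ B)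
    (hg : ¬ MemLocalIdeal M (omega (χ₀ : G → ℂ) K)) :
    ∃ W : MonoidAlgebra ℂ G, IsCentralElt W ∧ IsIntElt M W ∧ blockElem B = K * W := by
  classical
  set c : IrrCharacter G → ℂ := fun ψ => omega (ψ : G → ℂ) K
  have hc : ∀ ψ, MemLocalRing M (c ψ) := fun ψ => memLocalRing_omega hM ψ.2 hK hKi
  set s : Finset (IrrCharacter G) := Finset.univ.filter (· ∈ B)
  obtain ⟨W, hW, hWi, hWe⟩ := H35.exists_prod_shift hM hK hKi c hc s
  set r : ℂ := ∏ i ∈ s, (- c i)
  have hr : MemLocalRing M r :=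
    Subring.prod_mem (locRing hM) fun i _ => (locRing hM).neg_mem (hc i)
  have hru : ¬ MemLocalIdeal M r := by
    haveI := isPrime hM
    have key : ∀ t : Finset (IrrCharacter G), t ⊆ s → ¬ MemLocalIdeal M (∏ i ∈ t, (- c i)) := by
      intro t
      induction t using Finset.induction with
      | empty => intro _; simpa using not_memLocalIdeal_one hM
      | insert a t ha ih =>
        intro hsub
        rw [Finset.prod_insert ha, memLocalIdeal_mul_iff hM ((locRing hM).neg_mem (hc a))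
          (Subring.prod_mem (locRing hM) fun i _ => (locRing hM).neg_mem (hc i))]
        rintro (h | h)
        · apply hg
          have h1 := omega_congr hM (IsIrr.isClassFunction χ₀.2) (IsIrr.isClassFunction a.2)
            (isPBlock_sameBlock hM hB hχ₀ (Finset.mem_filter.1 (hsub (Finset.mem_insert_self a t))).2)
            hK hKi
          simpa [c] using memLocalIdeal_add hM h1 (memLocalIdeal_neg h)
        · exact ih (fun i hi => hsub (Finset.mem_insert_of_mem hi)) h
    exact key s subset_rfl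
  have hr0 : r ≠ 0 := fun e => hru (e ▸ memLocalIdeal_zero hM)
  refine ⟨(-r⁻¹) • (W * blockElem B), (hW.mul (isCentralElt_blockElem B)).smul _,
    (hWi.mul hM (isIntElt_blockElem hM hB)).smul hM
      ((locRing hM).neg_mem (memLocalRing_inv hM hr hru)), ?_⟩
  refine eq_of_omega_eq (isCentralElt_blockElem B)
    (hK.mul ((hW.mul (isCentralElt_blockElem B)).smul _)) fun χ => ?_
  rw [omega_mul χ.2 hK, omega_smul, omega_mul χ.2 hW, omega_blockElem]
  split_ifs with hχ
  · have h0 := hWe χ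
    rw [Finset.prod_eq_zero (i := χ) (by simp [s, hχ]) (by simp [c])] at h0
    field_simp
    linear_combination -h0
  · simp

variable (N : Subgroup G) [hN : N.Normal]

omit [Fintype G] in
lemma blockCoeff_conjNormal [Finite G] {A A' : Set (IrrCharacter N)} (d : G)
    (h : ∀ φ : IrrCharacter N, H80.conjTwist N φ d ∈ A' ↔ φ ∈ A) (n : N) :
    blockCoeff A' n = blockCoeff A (MulAut.conjNormal d n) := by
  classical
  unfold blockCoeff
  congr 1
  rw [finsum_mem_eq_sum_ite, finsum_mem_eq_sum_ite]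
  refine (Fintype.sum_equiv (⟨fun ψ => H80.conjTwist N ψ d, fun ψ => H80.conjTwist N ψ d⁻¹,
    fun ψ => by simp [conjTwist_conjTwist, conjTwist_one],
    fun ψ => by simp [conjTwist_conjTwist, conjTwist_one]⟩ :
      IrrCharacter N ≃ IrrCharacter N) _ _ fun ψ => ?_).symm
  simp only [Equiv.coe_fn_mk, h]
  split_ifs
  · show _ = (ψ : N → ℂ) (MulAut.conjNormal d 1) * conj ((ψ : N → ℂ) (MulAut.conjNormal d n))
    rw [map_one]
  · rfl

omit [Fintype G] in
lemma mem_blockOf_twist_iff [Finite G] (θ φ : IrrCharacter N) (d : G) :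
    H80.conjTwist N φ d ∈ blockOf M (H80.conjTwist N θ d : N → ℂ) ↔
      φ ∈ blockOf M (θ : N → ℂ) := by
  refine ⟨fun h => ?_, sameBlock_twist d⟩
  have := sameBlock_twist (N := N) d⁻¹ h
  rw [conjTwist_conjTwist, conjTwist_conjTwist, mul_inv_cancel, conjTwist_one,
    conjTwist_one] at this
  exact this

omit [Fintype G] in
/-- Conjugate blocks have the same defect. -/
lemma blockDefect_twist [Finite G] (θ : IrrCharacter N) (d : G) :
    blockDefect p (blockOf M (H80.conjTwist N θ d : N → ℂ)) =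
      blockDefect p (blockOf M (θ : N → ℂ)) := by
  unfold blockDefect
  congr 2
  have hdeg : ∀ (φ : IrrCharacter N) (e : G), charDegree (H80.conjTwist N φ e : N → ℂ) =
      charDegree (φ : N → ℂ) := fun φ e => by
    unfold charDegree
    rw [show (H80.conjTwist N φ e : N → ℂ) 1 = (φ : N → ℂ) (MulAut.conjNormal e 1) from rfl, map_one]
  ext x
  constructor
  · rintro ⟨φ, hφ, rfl⟩
    refine ⟨H80.conjTwist N φ d⁻¹, ?_, ?_⟩
    · rw [← mem_blockOf_twist_iff N θ _ d]
      simpa [conjTwist_conjTwist, conjTwist_one] using hφ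
    · simp only [hdeg]
  · rintro ⟨φ, hφ, rfl⟩
    exact ⟨H80.conjTwist N φ d, (mem_blockOf_twist_iff N θ φ d).2 hφ, by simp only [hdeg]⟩

/-- The union of the conjugates of the block of `θ`. -/
def twistOrbit (M : Ideal AlgInt) (θ : IrrCharacter N) : Set (IrrCharacter N) :=
  {ψ | ∃ d : G, SameBlock M (H80.conjTwist N θ d : N → ℂ) (ψ : N → ℂ)}

variable [Fintype N]

/-- The idempotent of the conjugates of a block, as an element of the group algebra of `G`. -/
noncomputable def orbitElem (M : Ideal AlgInt) (θ : IrrCharacter N) : MonoidAlgebra ℂ G :=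
  open scoped Classical in
  ofFun fun g => if hg : g ∈ N then blockCoeff (twistOrbit N M θ) ⟨g, hg⟩ else 0

omit hN [Fintype N] in
lemma resMap_blockElem_supp {z : MonoidAlgebra ℂ G} {g : G} (h : z.coeff g ≠ 0)
    (hzN : ∀ g, g ∉ N → z.coeff g = 0) : g ∈ N := by_contra fun hg => h (hzN g hg)

lemma orbitElem_spec (hM : IsPModular p M) (θ : IrrCharacter N) :
    IsCentralElt (orbitElem N M θ) ∧ (∀ g, g ∉ N → (orbitElem N M θ).coeff g = 0) ∧
      resMap N (orbitElem N M θ) = blockElem (twistOrbit N M θ) ∧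
      IsIntElt M (orbitElem N M θ) := by
  classical
  set O := twistOrbit N M θ
  have hmem : ∀ (ψ : IrrCharacter N) (e : G), ψ ∈ O → H80.conjTwist N ψ e ∈ O := by
    rintro ψ e ⟨d, hd⟩
    refine ⟨d * e, ?_⟩
    rw [← conjTwist_conjTwist]
    exact sameBlock_twist e hd
  have hiff : ∀ (e : G) (ψ : IrrCharacter N), H80.conjTwist N ψ e ∈ O ↔ ψ ∈ O := fun e ψ =>
    ⟨fun h' => by simpa [conjTwist_conjTwist, conjTwist_one] using hmem _ e⁻¹ h', hmem ψ e⟩
  refine ⟨isCentralElt_ofFun fun g c => ?_, fun g hg => by simp [orbitElem, hg], ?_, fun g => ?_⟩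
  · by_cases hg : g ∈ N
    · rw [dif_pos hg, dif_pos (hN.conj_mem g hg c)]
      exact (blockCoeff_conjNormal N c (hiff c) ⟨g, hg⟩).symm
    · rw [dif_neg hg, dif_neg]
      intro hc
      exact hg (by simpa [mul_assoc] using hN.conj_mem _ hc c⁻¹)
  · apply coeff_injective; ext n
    simp [orbitElem, coeff_resMap, coeff_blockElem, O]
  · simp only [orbitElem, coeff_ofFun]
    split_ifs with hg
    · rw [← coeff_blockElem]
      exact isIntElt_blockElem_of_union hM
        (fun ψ hψ ψ' hψ' => hψ.elim fun d hd => ⟨d, sameBlock_trans hM hd hψ'⟩) _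
    · exact (locRing hM).zero_mem

variable {N}

/-- Constituents of members of a covering block lie in the conjugate blocks. -/
lemma mem_twistOrbit (hM : IsPModular p M) {B : Set (IrrCharacter G)} (hB : IsPBlock M B)
    {χ₀ χ : IrrCharacter G} (hχ₀ : χ₀ ∈ B) (hχ : χ ∈ B) {θ φ : IrrCharacter N}
    (hθ : classInner (fun n : N => (χ₀ : G → ℂ) n) (θ : N → ℂ) ≠ 0)
    (hφ : classInner (fun n : N => (χ : G → ℂ) n) (φ : N → ℂ) ≠ 0) :
    φ ∈ twistOrbit N M θ :=
  exists_twist_sameBlock hM
    (omega_resMap_congr_of_sameBlock hM (isPBlock_sameBlock hM hB hχ hχ₀) hφ hθ)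

/-- The block idempotent absorbs the idempotent of the conjugate covered blocks. -/
lemma blockElem_mul_orbitElem (hM : IsPModular p M) {B : Set (IrrCharacter G)} (hB : IsPBlock M B)
    {χ₀ : IrrCharacter G} (hχ₀ : χ₀ ∈ B) {θ : IrrCharacter N}
    (hθ : classInner (fun n : N => (χ₀ : G → ℂ) n) (θ : N → ℂ) ≠ 0) :
    blockElem B * orbitElem N M θ = blockElem B := by
  classical
  obtain ⟨hc, hsupp, hres, -⟩ := orbitElem_spec N hM θ
  refine eq_of_omega_eq ((isCentralElt_blockElem B).mul hc) (isCentralElt_blockElem B) fun χ => ?_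
  rw [omega_mul χ.2 (isCentralElt_blockElem B), omega_blockElem]
  split_ifs with hχ
  · obtain ⟨φ, hφ⟩ := exists_constituent χ N
    rw [one_mul, omega_eq_omega_resMap χ φ hφ hc hsupp, hres, omega_blockElem,
      if_pos (mem_twistOrbit hM hB hχ₀ hχ hθ hφ)]
  · rw [zero_mul]

/-- **Knörr**: a covering block does not vanish on the centralizer of a defect group of the covered
block. -/
theorem exists_blockCoeff_ne_of_covers [Fact p.Prime] (hM : IsPModular p M)
    {B : Set (IrrCharacter G)} (hB : IsPBlock M B) {χ₀ : IrrCharacter G} (hχ₀ : χ₀ ∈ B)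
    {θ : IrrCharacter N} (hθ : classInner (fun n : N => (χ₀ : G → ℂ) n) (θ : N → ℂ) ≠ 0)
    {Q : Subgroup G} (hQN : Q ≤ N) (hQp : IsPGroup p Q) {g₀ : N}
    (hg₀ : ¬ MemLocalIdeal M (blockCoeff (blockOf M (θ : N → ℂ)) g₀))
    (hQg : ∀ q ∈ Q, q * (g₀ : G) = (g₀ : G) * q) :
    ∃ h : G, ¬ MemLocalIdeal M (blockCoeff B h) ∧
      Q ≤ Subgroup.centralizer ({h} : Set G) := by
  classical
  by_contra hcon
  push Not at hcon
  obtain ⟨hEc, hEsupp, hEres, -⟩ := orbitElem_spec N hM θ
  set E := orbitElem N M θ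
  set e := blockElem B with he
  have hei : IsIntElt M e := isIntElt_blockElem hM hB
  -- elements centralizing a conjugate of `Q`
  let Cset : Set G := {c | ∃ d : G, ∀ q ∈ Q, (d * q * d⁻¹) * c = c * (d * q * d⁻¹)}
  have he0 : ∀ c ∈ Cset, MemLocalIdeal M (e.coeff c) := by
    rintro c ⟨d, hd⟩
    rw [he, coeff_blockElem]
    by_contra hne
    refine hcon (d⁻¹ * c * d) ?_ fun q hq => ?_
    · have := isClassFunction_blockCoeff B c d⁻¹
      rw [inv_inv] at this
      rwa [this]
    · rw [Subgroup.mem_centralizer_singleton_iff]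
      calc q * (d⁻¹ * c * d) = d⁻¹ * ((d * q * d⁻¹) * c) * d := by group
        _ = d⁻¹ * (c * (d * q * d⁻¹)) * d := by rw [hd q hq]
        _ = d⁻¹ * c * d * q := by group
  -- components of `e` along the cosets
  let comp : G ⧸ N → MonoidAlgebra ℂ G := fun t =>
    ofFun fun g => if (g : G ⧸ N) = t then e.coeff g else 0
  let P : G ⧸ N → MonoidAlgebra ℂ G → Prop := fun t z =>
    IsIntElt M z ∧ (∀ g, z.coeff g ≠ 0 → (g : G ⧸ N) = t) ∧
      ∀ n ∈ N, ∀ g, z.coeff (n * g * n⁻¹) = z.coeff g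
  have hPcomp : ∀ t, P t (comp t) := by
    refine fun t => ⟨fun g => ?_, fun g hg => ?_, fun n hn g => ?_⟩
    · simp only [comp, coeff_ofFun]
      split_ifs
      exacts [hei g, (locRing hM).zero_mem]
    · simp only [comp, coeff_ofFun] at hg
      exact of_not_not fun h => hg (if_neg h)
    · have : ((n * g * n⁻¹ : G) : G ⧸ N) = (g : G ⧸ N) := by
        simp [(QuotientGroup.eq_one_iff n).2 hn]
      simp only [comp, coeff_ofFun, this, isCentralElt_blockElem B g n, he]
  have hPone : P 1 1 := by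
    refine ⟨isIntElt_one hM, fun g hg => ?_, fun n _ g => IsCentralElt.one g n⟩
    rw [one_def, coeff_single, Finsupp.single_apply] at hg
    split_ifs at hg with h1
    · rw [← h1]; rfl
    · exact absurd rfl hg
  have hPmul : ∀ t u x y, P t x → P u y → P (t * u) (x * y) := by
    rintro t u x y ⟨hxi, hxs, hxv⟩ ⟨hyi, hys, hyv⟩
    refine ⟨hxi.mul hM hyi, fun g hg => ?_, fun n hn g => ?_⟩
    · rw [coeff_mul_apply_left, Finsupp.sum_fintype _ _ (by simp)] at hg
      obtain ⟨a, -, ha⟩ := Finset.exists_ne_zero_of_sum_ne_zero hg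
      rw [← hxs a (left_ne_zero_of_mul ha), ← hys _ (right_ne_zero_of_mul ha)]
      simp
    · rw [coeff_mul_apply_left, coeff_mul_apply_left, Finsupp.sum_fintype _ _ (by simp),
        Finsupp.sum_fintype _ _ (by simp)]
      refine (Fintype.sum_equiv (MulAut.conj n).toEquiv _ _ fun a => ?_).symm
      simp only [MulEquiv.toEquiv_eq_coe, EquivLike.coe_coe, MulAut.conj_apply, hxv n hn a]
      rw [show (n * a * n⁻¹)⁻¹ * (n * g * n⁻¹) = n * (a⁻¹ * g) * n⁻¹ by group, hyv n hn]
  have hPprod : ∀ w : List (G ⧸ N), P w.prod (w.map comp).prod := by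
    intro w
    induction w with
    | nil => exact hPone
    | cons t w ih => exact hPmul _ _ _ _ (hPcomp t) ih
  have heE : e * E = e := blockElem_mul_orbitElem hM hB hχ₀ hθ
  have hcompE : ∀ t, comp t * E = comp t := by
    intro t
    apply coeff_injective
    ext g
    rw [coeff_mul_apply_left, Finsupp.sum_fintype _ _ (by simp)]
    conv_rhs => simp only [comp, coeff_ofFun]; rw [← heE]
    rw [coeff_mul_apply_left, Finsupp.sum_fintype _ _ (by simp)]
    simp only [comp, coeff_ofFun]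
    have hco : ∀ a, E.coeff (a⁻¹ * g) ≠ 0 → (a : G ⧸ N) = (g : G ⧸ N) := fun a ha =>
      QuotientGroup.eq.2 (resMap_blockElem_supp N ha hEsupp)
    split_ifs with hg
    · refine Finset.sum_congr rfl fun a _ => ?_
      split_ifs with ha
      · rfl
      · rw [not_not.1 fun h => ha ((hco a h).trans hg), mul_zero, mul_zero]
    · refine Finset.sum_eq_zero fun a _ => ?_
      split_ifs with ha
      · rw [not_not.1 fun h => hg ((hco a h).symm.trans ha), mul_zero]
      · rw [zero_mul]
  -- segments of degree one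
  let T : Set (MonoidAlgebra ℂ G) :=
    {z | P 1 z ∧ z * E = z ∧ ∀ c ∈ Cset, MemLocalIdeal M (z.coeff c)}
  have hseg : ∀ w : List (G ⧸ N), w ≠ [] → w.prod = 1 → (w.map comp).prod ∈ T := by
    intro w hw hw1
    refine ⟨hw1 ▸ hPprod w, ?_, fun c hc => ?_⟩
    · obtain ⟨t, w, rfl⟩ := List.exists_cons_of_ne_nil hw
      rw [List.map_cons, List.prod_cons, mul_assoc, ← isCentralElt_comm hEc, ← mul_assoc, hcompE]
    · obtain ⟨t, w, rfl⟩ := List.exists_cons_of_ne_nil hw
      obtain ⟨d, hd⟩ := hc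
      rw [List.map_cons, List.prod_cons]
      have hmemN : ∀ q ∈ Q.map (MulAut.conj d).toMonoidHom, q ∈ N := by
        rintro _ ⟨q, hq, rfl⟩
        exact hN.conj_mem q (hQN hq) d
      refine coeff_mul_mem_of_vanish hM (hPcomp t).1 (hPprod w).1
        (hQp.map (MulAut.conj d).toMonoidHom)
        (fun q hq => (hPcomp t).2.2 q (hmemN q hq)) (fun q hq => (hPprod w).2.2 q (hmemN q hq))
        ?_ fun a ha => ?_
      · rintro _ ⟨q, hq, rfl⟩
        exact hd q hq
      · simp only [comp, coeff_ofFun]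
        split_ifs
        · exact he0 a ⟨d, fun q hq => ha _ (Subgroup.mem_map_of_mem _ hq)⟩
        · exact memLocalIdeal_zero hM
  have hTN : ∀ z ∈ T, ∀ g, g ∉ N → z.coeff g = 0 := fun z hz g hg =>
    not_not.1 fun h => hg ((QuotientGroup.eq_one_iff g).1 (hz.1.2.1 g h))
  -- segments commute
  have hTcomm : ∀ z ∈ T, ∀ z' ∈ T, z * z' = z' * z := by
    intro z hz z' hz'
    apply coeff_injective
    ext g
    rw [coeff_mul_apply_left, coeff_mul_apply_left, Finsupp.sum_fintype _ _ (by simp),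
      Finsupp.sum_fintype _ _ (by simp)]
    refine Fintype.sum_equiv ((Equiv.inv G).trans (Equiv.mulRight g)) _ _ fun a => ?_
    simp only [Equiv.trans_apply, Equiv.inv_apply, Equiv.coe_mulRight]
    by_cases ha : a⁻¹ * g ∈ N
    · have := hz.1.2.2 (a⁻¹ * g) ha ((a⁻¹ * g)⁻¹ * g)
      rw [show a⁻¹ * g * ((a⁻¹ * g)⁻¹ * g) * (a⁻¹ * g)⁻¹ = a by group] at this
      rw [this, mul_comm]
    · rw [hTN z' hz' _ ha, mul_zero, zero_mul]
  -- segments are nilpotent modulo `M`
  have hTnil : ∀ z ∈ T, IsNilpotent (red hM z) := by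
    intro z hz
    have hzN := hTN z hz
    set w := resMap N z
    have hwc : IsCentralElt w := fun n m => by
      simp only [w, coeff_resMap, Subgroup.coe_mul, Subgroup.coe_inv]
      exact hz.1.2.2 m m.2 n
    have hwi : IsIntElt M w := isIntElt_resMap hz.1.1
    have hw : ∀ φ : IrrCharacter N, MemLocalIdeal M (omega (φ : N → ℂ) w) := by
      intro φ
      have hwE : w = w * blockElem (twistOrbit N M θ) := by
        rw [← hEres, ← resMap_mul hzN, hz.2.1]
      by_cases hφ : φ ∈ twistOrbit N M θ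
      · obtain ⟨d, hd⟩ := hφ
        by_contra hu
        obtain ⟨W, hW, hWi, heq⟩ := blockElem_eq_mul hM
          (isPBlock_blockOf M (H80.conjTwist N θ d)) hwc hwi (χ₀ := φ) hd hu
        apply hg₀
        have hconj := blockCoeff_conjNormal N d (fun ψ => mem_blockOf_twist_iff (M := M) N θ ψ d)
          (MulAut.conjNormal d⁻¹ g₀)
        rw [show MulAut.conjNormal d (MulAut.conjNormal d⁻¹ g₀) = g₀ by
          rw [← MulAut.mul_apply, ← map_mul, mul_inv_cancel, map_one]; rfl] at hconj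
        rw [← hconj, ← coeff_blockElem, heq]
        refine coeff_mul_mem_of_vanish (Q := (Q.map (MulAut.conj d⁻¹).toMonoidHom).subgroupOf N)
          hM hwi hWi ((hQp.map (MulAut.conj d⁻¹).toMonoidHom).comap_of_injective N.subtype
            (Subgroup.subtype_injective N))
          (fun q _ g => hwc g q) (fun q _ g => hW g q) ?_ fun a ha => ?_
        · intro q hq
          obtain ⟨q', hq', hqe⟩ := Subgroup.mem_subgroupOf.1 hq
          apply Subtype.ext
          simp only [Subgroup.coe_mul, ← hqe, MulAut.conjNormal_apply, MulEquiv.coe_toMonoidHom,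
            MulAut.conj_apply, inv_inv]
          calc d⁻¹ * q' * d * (d⁻¹ * (g₀ : G) * d) = d⁻¹ * (q' * g₀) * d := by group
            _ = d⁻¹ * ((g₀ : G) * q') * d := by rw [hQg q' hq']
            _ = _ := by group
        · refine hz.2.2 a ⟨d⁻¹, fun q hq => ?_⟩
          exact congrArg Subtype.val (ha ⟨d⁻¹ * q * d⁻¹⁻¹, hN.conj_mem q (hQN hq) _⟩
            (Subgroup.mem_subgroupOf.2 ⟨q, hq, rfl⟩))
      · rw [hwE, omega_mul φ.2 hwc, omega_blockElem, if_neg hφ, mul_zero]
        exact memLocalIdeal_zero hM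
    obtain ⟨n, hn⟩ := exists_pow_coeff_mem hM hwc hw
    refine ⟨n + 1, ?_⟩
    rw [← red_pow hM hz.1.1, red_eq_zero_iff hM (hz.1.1.pow hM _)]
    have hpow : ∀ m : ℕ, (∀ g, g ∉ N → (z ^ (m + 1)).coeff g = 0) ∧
        resMap N (z ^ (m + 1)) = w ^ (m + 1) := by
      intro m
      induction m with
      | zero => exact ⟨by simpa using hzN, by simp [w]⟩
      | succ m ih =>
        obtain ⟨h1, h2⟩ := ih
        refine ⟨fun g hg => ?_, by rw [pow_succ, resMap_mul h1, h2, ← pow_succ]⟩
        rw [pow_succ, coeff_mul_apply_left, Finsupp.sum_fintype _ _ (by simp)]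
        refine Finset.sum_eq_zero fun a _ => ?_
        by_cases ha : a ∈ N
        · rw [hzN _ (fun h => hg (by simpa using N.mul_mem ha h)), mul_zero]
        · rw [h1 a ha, zero_mul]
    intro g
    by_cases hg : g ∈ N
    · have h1 : (z ^ (n + 1)).coeff g = (w ^ (n + 1)).coeff ⟨g, hg⟩ := by
        rw [← (hpow n).2, coeff_resMap]
      rw [h1, pow_succ, coeff_mul_apply_left, Finsupp.sum_fintype _ _ (by simp)]
      exact memLocalIdeal_sum hM _ _ fun a _ => by
        rw [mul_comm]; exact memLocalIdeal_mul hM (hwi _) (hn a)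
    · rw [(hpow n).1 g hg]; exact memLocalIdeal_zero hM
  -- long products vanish
  let S : Set (MonoidAlgebra (Residue hM) G) := red hM '' T
  obtain ⟨r, hr⟩ := exists_prod_red_eq_zero hM (S := S)
    (by
      rintro _ ⟨z, hz, rfl⟩ _ ⟨z', hz', rfl⟩
      rw [commute_iff_eq, ← red_mul hM hz.1.1 hz'.1.1, hTcomm z hz z' hz', red_mul hM hz'.1.1 hz.1.1])
    (by rintro _ ⟨z, hz, rfl⟩; exact hTnil z hz)
  have hsum : e = ∑ t : G ⧸ N, comp t := by
    apply coeff_injective
    ext g
    rw [coeff_sum, Finsupp.finsetSum_apply]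
    simp [comp]
  have hz0 := sum_pow_eq_zero (fun t => red hM (comp t)) (S := S)
    (fun w hw hw1 => by
      refine ⟨(w.map comp).prod, hseg w hw hw1, ?_⟩
      rw [(red_list_prod hM (w.map comp) (by simpa using fun t _ => (hPcomp t).1)).2, List.map_map]
      rfl) hr
  rw [← red_sum hM _ (fun t _ => (hPcomp t).1), ← hsum, ← red_pow hM hei,
    (show IsIdempotentElem e from blockElem_idem B).pow_succ_eq, red_eq_zero_iff hM hei] at hz0
  obtain ⟨g, hg⟩ := exists_isDefectClass (p := p) hM hB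
  exact hg.2.1 (by simpa [e, coeff_blockElem] using hz0 g)

/-- A covering block has a defect group meeting `N` in a given defect group of the covered block. -/
theorem exists_defectGroup_inf_eq [Fact p.Prime] (hM : IsPModular p M)
    {b : Set (IrrCharacter N)} (hb : IsPBlock M b) {Q : Subgroup G} (hQN : Q ≤ N)
    (hQ : IsDefectGroup p M b (Q.subgroupOf N)) {B : Set (IrrCharacter G)} (hB : IsPBlock M B)
    (hcov : ∃ χ ∈ B, ∃ θ ∈ b, classInner (fun n : N => (χ : G → ℂ) n) (θ : N → ℂ) ≠ 0) :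
    ∃ P : Subgroup G, IsDefectGroup p M B P ∧ P ⊓ N = Q := by
  classical
  obtain ⟨χ₀, hχ₀, θ, hθb, hθ⟩ := hcov
  obtain rfl := isPBlock_eq_blockOf hM hb hθb
  have hQc : Nat.card Q = p ^ blockDefect p (blockOf M (θ : N → ℂ)) := by
    rw [← H35.card_defectGroup hM hb hQ]
    exact (Nat.card_congr (Subgroup.subgroupOfEquivOfLe hQN).toEquiv).symm
  obtain ⟨g₀, hg₀, P₀, hP₀⟩ := hQ
  have hQg : ∀ q ∈ Q, q * (g₀ : G) = (g₀ : G) * q := by
    intro q hq
    have h1 : (⟨q, hQN hq⟩ : N) ∈ Q.subgroupOf N := Subgroup.mem_subgroupOf.2 hq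
    rw [hP₀] at h1
    exact congrArg Subtype.val
      (Subgroup.mem_centralizer_singleton_iff.1 (Subgroup.map_subtype_le _ h1))
  have hQp : IsPGroup p Q := IsPGroup.of_card hQc
  obtain ⟨h, hh, hQh⟩ := exists_blockCoeff_ne_of_covers hM hB hχ₀ hθ hQN hQp hg₀.2.1 hQg
  obtain ⟨P, hP, hQP⟩ := H35.exists_defectGroup_ge hM hB hh Q hQp hQh
  refine ⟨P, hP, ?_⟩
  symm
  apply Subgroup.eq_of_le_of_card_ge (le_inf hQP hQN)
  -- some conjugate of `b` does not vanish on the centralizer of the intersection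
  obtain ⟨y, hy, S, rfl⟩ := hP
  set R := H35.sylImage S ⊓ N with hR
  have hRp : IsPGroup p R := (H35.sylImage_isPGroup S).to_le inf_le_left
  obtain ⟨hEc, -, hEres, hEi⟩ := orbitElem_spec N hM θ
  obtain ⟨a, ha, hau⟩ : ∃ a : G, (∀ q ∈ R, q * a = a * q) ∧
      ¬ MemLocalIdeal M ((orbitElem N M θ).coeff a) := by
    by_contra hc
    push Not at hc
    apply hy.2.1
    rw [← coeff_blockElem, ← blockElem_mul_orbitElem hM hB hχ₀ hθ,
      isCentralElt_comm (isCentralElt_blockElem B)]
    exact coeff_mul_mem_of_vanish hM hEi (isIntElt_blockElem hM hB) hRp (fun q _ g => hEc g q)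
      (fun q _ g => isCentralElt_blockElem B g q)
      (fun q hq => Subgroup.mem_centralizer_singleton_iff.1 (H35.sylImage_le S hq.1)) hc
  have haN : a ∈ N := by_contra fun hn => hau (by
    simp only [orbitElem, coeff_ofFun, dif_neg hn]; exact memLocalIdeal_zero hM)
  simp only [orbitElem, coeff_ofFun, dif_pos haN] at hau
  -- a single block in the orbit
  obtain ⟨φ, hφ, hφu⟩ : ∃ φ ∈ twistOrbit N M θ,
      ¬ MemLocalIdeal M (blockCoeff (blockOf M (φ : N → ℂ)) ⟨a, haN⟩) := by
    by_contra hc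
    push Not at hc
    apply hau
    set O := twistOrbit N M θ with hO
    let blocks : Finset (Set (IrrCharacter N)) :=
      (Finset.univ.filter (· ∈ O)).image (fun φ : IrrCharacter N => blockOf M (φ : N → ℂ))
    have hsplit : blockCoeff O ⟨a, haN⟩ = ∑ β ∈ blocks, blockCoeff β ⟨a, haN⟩ := by
      simp only [blockCoeff, finsum_mem_eq_sum_ite, ← Finset.mul_sum]
      congr 1
      rw [Finset.sum_comm]
      refine Finset.sum_congr rfl fun φ _ => ?_
      split_ifs with hφ
      · rw [Finset.sum_eq_single (blockOf M (φ : N → ℂ))]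
        · rw [if_pos (self_mem_blockOf hM φ)]
        · intro β hβ hne
          rw [if_neg]
          intro hmem
          obtain ⟨ψ, -, rfl⟩ := Finset.mem_image.1 hβ
          exact hne (blockOf_eq_of_sameBlock hM hmem)
        · intro hn
          exact absurd (Finset.mem_image.2 ⟨φ, by simp [hφ], rfl⟩) hn
      · symm
        refine Finset.sum_eq_zero fun β hβ => ?_
        rw [if_neg]
        intro hmem
        obtain ⟨ψ, hψ, rfl⟩ := Finset.mem_image.1 hβ
        obtain ⟨d, hd⟩ := (Finset.mem_filter.1 hψ).2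
        exact hφ ⟨d, sameBlock_trans hM hd hmem⟩
    rw [hsplit]
    refine memLocalIdeal_sum hM _ _ fun β hβ => ?_
    obtain ⟨ψ, hψ, rfl⟩ := Finset.mem_image.1 hβ
    exact hc ψ (Finset.mem_filter.1 hψ).2
  obtain ⟨d, hd⟩ := hφ
  rw [← blockOf_eq_of_sameBlock hM hd] at hφu
  obtain ⟨D, hD, hRD⟩ := H35.exists_defectGroup_ge hM
    (isPBlock_blockOf M (H80.conjTwist N θ d)) hφu (R.subgroupOf N)
    (hRp.comap_of_injective N.subtype (Subgroup.subtype_injective N)) (by
      intro q hq
      rw [Subgroup.mem_centralizer_singleton_iff]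
      exact Subtype.ext (ha q (Subgroup.mem_subgroupOf.1 hq)))
  calc Nat.card R = Nat.card (R.subgroupOf N) :=
        (Nat.card_congr (Subgroup.subgroupOfEquivOfLe inf_le_right).toEquiv).symm
    _ ≤ Nat.card D := Subgroup.card_le_of_le hRD
    _ = Nat.card Q := by
        rw [H35.card_defectGroup hM (isPBlock_blockOf M _) hD, blockDefect_twist, hQc]

end Cfsg.Agent.BlockBasic
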