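import Cfsg.Agent.BlockBasic.Kernel

/-!
# Existence and uniqueness of covering blocks
-/

open scoped ComplexConjugate
open MonoidAlgebra

namespace Cfsg.Agent.BlockBasic

open CharBasic

universe u

variable {G : Type u} [Group G] {p : ℕ} {M : Ideal AlgInt}

/-- Every irreducible character of a subgroup lies under some irreducible character. -/
theorem exists_over [Finite G] (N : Subgroup G) [Fintype N] (θ : IrrCharacter N) :
    ∃ χ : IrrCharacter G, classInner (fun n : N => (χ : G → ℂ) n) (θ : N → ℂ) ≠ 0 := by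
  classical
  cases nonempty_fintype G
  by_contra h
  push Not at h
  have hsum : ∑ χ : IrrCharacter G, (χ : G → ℂ) 1 *
      classInner (fun n : N => (χ : G → ℂ) n) (θ : N → ℂ) = 0 :=
    Finset.sum_eq_zero fun χ _ => by rw [h χ, mul_zero]
  simp only [classInner_def, Finset.mul_sum] at hsum
  rw [Finset.sum_comm, Finset.sum_eq_single 1] at hsum
  · have h1 : ∑ χ : IrrCharacter G, (χ : G → ℂ) 1 *
        ((Nat.card N : ℂ)⁻¹ * ((χ : G → ℂ) ((1 : N) : G) * conj ((θ : N → ℂ) 1))) =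
        (Nat.card N : ℂ)⁻¹ * conj ((θ : N → ℂ) 1) * (Nat.card G : ℂ) := by
      rw [show (Nat.card G : ℂ) = ∑ χ : IrrCharacter G, (χ : G → ℂ) 1 * (χ : G → ℂ) 1 by
        rw [sum_degree_mul_apply, if_pos rfl], Finset.mul_sum]
      refine Finset.sum_congr rfl fun χ _ => ?_
      rw [Subgroup.coe_one]
      ring
    rw [h1] at hsum
    simp only [mul_eq_zero, inv_eq_zero, Nat.cast_eq_zero, Nat.card_pos.ne', false_or, or_false,
      map_eq_zero] at hsum
    exact irr_one_ne_zero θ.2 hsum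
  · intro n _ hn
    rw [Finset.sum_congr rfl (g := fun χ : IrrCharacter G =>
      ((Nat.card N : ℂ)⁻¹ * conj ((θ : N → ℂ) n)) * ((χ : G → ℂ) 1 * (χ : G → ℂ) n))
      (fun χ _ => by ring), ← Finset.mul_sum, sum_degree_mul_apply, if_neg, mul_zero]
    intro h'
    exact hn (Subtype.ext h')
  · simp

/-- Some block of the group covers a given block of a subgroup. -/
theorem exists_covering_block [Finite G] (hM : IsPModular p M) (N : Subgroup G) [Fintype N]
    {b : Set (IrrCharacter N)} (hb : IsPBlock M b) :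
    ∃ B : Set (IrrCharacter G), IsPBlock M B ∧
      ∃ χ ∈ B, ∃ θ ∈ b, classInner (fun n : N => (χ : G → ℂ) n) (θ : N → ℂ) ≠ 0 := by
  obtain ⟨θ, hθ⟩ := isPBlock_nonempty hM hb
  obtain ⟨χ, hχ⟩ := exists_over N θ
  exact ⟨blockOf M (χ : G → ℂ), isPBlock_blockOf M χ, χ, self_mem_blockOf hM χ, θ, hθ, hχ⟩

/-- With `p`-power index there is only one covering block. -/
theorem covering_block_unique [Fintype G] [Fact p.Prime] (hM : IsPModular p M) {N : Subgroup G}
    [N.Normal] [Fintype N] (hidx : ∃ k : ℕ, N.index = p ^ k)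
    {b : Set (IrrCharacter N)} (hb : IsPBlock M b)
    {B B' : Set (IrrCharacter G)} (hB : IsPBlock M B) (hB' : IsPBlock M B')
    (h : ∃ χ ∈ B, ∃ θ ∈ b, classInner (fun n : N => (χ : G → ℂ) n) (θ : N → ℂ) ≠ 0)
    (h' : ∃ χ ∈ B', ∃ θ ∈ b, classInner (fun n : N => (χ : G → ℂ) n) (θ : N → ℂ) ≠ 0) :
    B = B' := by
  obtain ⟨θ, hθ⟩ := isPBlock_nonempty hM hb
  obtain ⟨χ, hχ⟩ := isPBlock_nonempty hM hB
  obtain ⟨χ', hχ'⟩ := isPBlock_nonempty hM hB'
  rw [isPBlock_eq_blockOf hM hB hχ, isPBlock_eq_blockOf hM hB' hχ']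
  refine blockOf_eq_of_sameBlock hM (sameBlock_of_congr_regular hM fun g hg => ?_)
  have h1 := (covers_iff hM hB hb).1 h χ hχ θ hθ ⟨g, mem_of_regular hidx hg⟩
  have h2 := (covers_iff hM hB' hb).1 h' χ' hχ' θ hθ ⟨g, mem_of_regular hidx hg⟩
  simpa using memLocalIdeal_add hM h1 (memLocalIdeal_neg h2)

end Cfsg.Agent.BlockBasic
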