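import Cfsg.Agent.BlockBasic.LocalBlocks
import Cfsg.Prelude.Def_BrauerPairs

/-!
# The defect group of an induced block and the inertia group of the root
-/

open scoped ComplexConjugate
open MonoidAlgebra

namespace Cfsg.Agent.BlockBasic

open CharBasic

universe u

variable {G : Type u} [Group G] [Fintype G] {p : ℕ} {M : Ideal AlgInt} [Fact p.Prime]

omit [Fintype G] in
/-- Invariance modulo `M` suffices for counting fixed points. -/
theorem sum_sub_fixed_mem_congr (hM : IsPModular p M) {Q X : Type*} [Group Q] [Fintype X]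
    [MulAction Q X] (hQ : IsPGroup p Q) (F : X → ℂ) (hF : ∀ x, MemLocalRing M (F x))
    (hinv : ∀ (q : Q) (x : X), MemLocalIdeal M (F (q • x) - F x))
    [DecidablePred fun x : X => x ∈ MulAction.fixedPoints Q X] :
    MemLocalIdeal M (∑ x : X, F x - ∑ x with x ∈ MulAction.fixedPoints Q X, F x) := by
  classical
  let F' : X → ℂ := fun x =>
    F ((Quotient.mk'' x : Quotient (MulAction.orbitRel Q X))).out
  have hF' : ∀ x, MemLocalIdeal M (F x - F' x) := by
    intro x
    have h1 : (Quotient.mk'' x : Quotient (MulAction.orbitRel Q X)).out ∈ MulAction.orbit Q x :=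
      MulAction.orbitRel_apply.1 (Quotient.exact' (Quotient.out_eq _))
    obtain ⟨q, hq⟩ := h1
    have := memLocalIdeal_neg (hinv q x)
    rw [neg_sub] at this
    simpa only [F', ← hq] using this
  have key := H35.sum_sub_fixed_mem hM hQ F' (fun x => hF _) fun q x => by
    have : (Quotient.mk'' (q • x) : Quotient (MulAction.orbitRel Q X)) = Quotient.mk'' x :=
      Quotient.sound' (MulAction.orbitRel_apply.2 (MulAction.mem_orbit _ q))
    simp only [F', this]
  have h1 : MemLocalIdeal M (∑ x : X, F x - ∑ x : X, F' x) := by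
    rw [← Finset.sum_sub_distrib]; exact memLocalIdeal_sum hM _ _ fun x _ => hF' x
  have h2 : MemLocalIdeal M ((∑ x : X with x ∈ MulAction.fixedPoints Q X, F x) -
      ∑ x : X with x ∈ MulAction.fixedPoints Q X, F' x) := by
    rw [← Finset.sum_sub_distrib]; exact memLocalIdeal_sum hM _ _ fun x _ => hF' x
  convert memLocalIdeal_sub hM (memLocalIdeal_add hM key h1) h2 using 1
  ring

omit [Fintype G] in
/-- A `p`-subgroup normalizing `P` and centralizing a local class lies in `P`. -/
theorem le_of_isLocalClass [Finite G] {P R : Subgroup G} (hP : IsPGroup p P) {x : G}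
    (hx : IsLocalClass p P x) (hR : IsPGroup p R)
    (hRC : R ≤ Subgroup.centralizer ({x} : Set G))
    (hRN : R ≤ Subgroup.normalizer (P : Set G)) : R ≤ P := by
  obtain ⟨S, hS⟩ := hx.2
  have hPR : IsPGroup p ↥(P ⊔ R) := hP.to_sup_of_normal_left' hR hRN
  have hle : P ⊔ R ≤ Subgroup.centralizer ({x} : Set G) :=
    sup_le (hS ▸ H35.sylImage_le S) hRC
  obtain ⟨e, he⟩ := IsPGroup.iff_card.1 hPR
  have hd := Subgroup.card_dvd_of_le hle
  rw [he, (Fact.out : p.Prime).pow_dvd_iff_le_factorization Nat.card_pos.ne'] at hd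
  have hPc : Nat.card P = p ^ (Nat.card (Subgroup.centralizer ({x} : Set G))).factorization p := by
    rw [← hS]; exact H35.card_sylImage S
  have := Subgroup.eq_of_le_of_card_ge (le_sup_left : P ≤ P ⊔ R) (by
    rw [he, hPc]; exact Nat.pow_le_pow_right (Fact.out : p.Prime).pos hd)
  exact le_sup_right.trans this.symm.le

omit [Fintype G] in
lemma conjTwist_eq_self {L : Subgroup G} [Finite G] (ξ : IrrCharacter L)
    (n : Subgroup.normalizer (L : Set G)) (hn : (n : G) ∈ L) : normTwist ξ n = ξ := by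
  apply Subtype.ext
  funext x
  rw [normTwist_apply ξ n x (L.mul_mem (L.mul_mem hn x.2) (L.inv_mem hn))]
  exact IsIrr.isClassFunction ξ.2 x ⟨(n : G), hn⟩

variable {P H T : Subgroup G} [Fintype H] {b : Set (IrrCharacter H)}

/-- The stabilizer of a block of `H` in the normalizer of `P`. -/
structure IsInertia (P H T : Subgroup G) (b : Set (IrrCharacter H))
    (hNH : Subgroup.normalizer (P : Set G) ≤ Subgroup.normalizer (H : Set G)) : Prop where
  le : T ≤ Subgroup.normalizer (P : Set G)
  le_sub : H ≤ T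
  twist : ∀ n (hn : n ∈ T), ∀ θ ∈ b, normTwist θ ⟨n, hNH (le hn)⟩ ∈ b
  mem : ∀ n (hn : n ∈ Subgroup.normalizer (P : Set G)), ∀ θ ∈ b,
    normTwist θ ⟨n, hNH hn⟩ ∈ b → n ∈ T

variable (hM : IsPModular p M) (hP : IsPGroup p P) (hPH : P ≤ H)
  (hCH : Subgroup.centralizer (P : Set G) ≤ H) (hHN : H ≤ Subgroup.normalizer (P : Set G))
  (hNH : Subgroup.normalizer (P : Set G) ≤ Subgroup.normalizer (H : Set G))
  (hb : IsPBlock M b) {B : Set (IrrCharacter G)}

include hM hP hPH hCH hHN hNH hb in
/-- If the induced block has defect group `P`, the inertia index is prime to `p`. -/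
theorem not_dvd_relIndex_of_defect (hT : IsInertia P H T b hNH)
    (hind : IsInducedBlock M H b B) (hBP : IsDefectGroup p M B P) : ¬ p ∣ H.relIndex T := by
  classical
  haveI : Finite (ConjClasses H) := Finite.of_surjective _ ConjClasses.mk_surjective
  haveI : Fintype (ConjClasses H) := Fintype.ofFinite _
  obtain ⟨g, hloc, hg⟩ := exists_localClass hBP
  obtain ⟨χ, hχ⟩ := isPBlock_nonempty hM hind.2.1
  obtain ⟨ξ, hξ⟩ := isPBlock_nonempty hM hb
  intro hdvd
  -- a `p`-element of the inertia group outside `H`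
  obtain ⟨t, htT, htH, hto⟩ : ∃ t ∈ T, t ∉ H ∧ ∃ k, orderOf t = p ^ k := by
    set S : Sylow p T := default
    by_contra hc
    push Not at hc
    have hSH : (S : Subgroup T) ≤ H.subgroupOf T := fun s hs => by
      rw [Subgroup.mem_subgroupOf]
      by_contra hne
      obtain ⟨k, hk⟩ := IsPGroup.iff_orderOf.1 S.isPGroup' ⟨s, hs⟩
      exact hc s s.2 hne k (by rw [← hk, Subgroup.orderOf_mk, Subgroup.orderOf_coe])
    exact S.not_dvd_index (hdvd.trans (Subgroup.index_dvd_of_le hSH))
  set Q := Subgroup.zpowers t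
  have hQp : IsPGroup p Q := by
    obtain ⟨k, hk⟩ := hto
    exact IsPGroup.of_card (n := k) (by rw [Nat.card_zpowers, hk])
  have hQT : Q ≤ T := Subgroup.zpowers_le.2 htT
  have hQn : Q ≤ Subgroup.normalizer (H : Set G) := hQT.trans (hT.le.trans hNH)
  let φ : Q →* MulAut H := (Subgroup.normalizerMonoidHom H).comp (Subgroup.inclusion hQn)
  let _ : MulAction Q (ConjClasses H) :=
    { smul := fun q C => ConjClasses.map (φ q).toMonoidHom C
      one_smul := fun C => by
        induction C using Quotient.inductionOn with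
        | h x =>
          refine congrArg ConjClasses.mk ?_
          show φ 1 x = x
          rw [map_one]; rfl
      mul_smul := fun a c C => by
        induction C using Quotient.inductionOn with
        | h x =>
          refine congrArg ConjClasses.mk ?_
          show φ (a * c) x = φ a (φ c x)
          rw [map_mul]; rfl }
  have hsmul : ∀ (q : Q) (C : ConjClasses H), q • C = ConjClasses.mk (φ q C.out) := fun q C => by
    conv_lhs => rw [← Quotient.out_eq C]
    rfl
  set y := brauerMap P H (classSum g) with hy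
  have hyc : IsCentralElt y := isCentralElt_brauerMap hHN (isCentralElt_classSum g)
  have hyi : IsIntElt M y := isIntElt_brauerMap hM (isIntElt_classSum hM g)
  have hu : ¬ MemLocalIdeal M (omega (ξ : H → ℂ) y) := fun hm => hg.2.2 χ hχ (by
    have h1 := omega_brauerMap_of_induced hM hP hPH hCH hHN hind hξ hχ
      (isCentralElt_classSum g) (isIntElt_classSum hM g)
    rw [omega_classSum (IsIrr.isClassFunction χ.2), ← hy] at h1
    simpa using memLocalIdeal_sub hM hm h1)
  let F : ConjClasses H → ℂ := fun C => y.coeff C.out * centralChar (ξ : H → ℂ) C.out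
  have hyconj : ∀ a c : H, IsConj a c → y.coeff a = y.coeff c := by
    intro a c h
    obtain ⟨d, rfl⟩ := isConj_iff.1 h
    exact (hyc a d).symm
  have hcconj : ∀ a c : H, IsConj a c →
      centralChar (ξ : H → ℂ) a = centralChar (ξ : H → ℂ) c := fun a c h =>
    (H35.centralChar_eq_of_isConj ξ h).symm
  have hout : ∀ a : H, IsConj (ConjClasses.mk a).out a := fun a =>
    ConjClasses.mk_eq_mk_iff_isConj.1 (Quotient.out_eq _)
  have hinv : ∀ (q : Q) (C : ConjClasses H), MemLocalIdeal M (F (q • C) - F C) := by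
    intro q C
    simp only [F, hsmul]
    rw [hyconj _ _ (hout _), hcconj _ _ (hout _)]
    have hqN : (q : G) ∈ Subgroup.normalizer (P : Set G) := hT.le (hQT q.2)
    have hφ : ((φ q C.out : H) : G) = (q : G) * (C.out : H) * (q : G)⁻¹ := rfl
    have h1 : y.coeff (φ q C.out) = y.coeff C.out := by
      simp only [hy, coeff_brauerMap, classSum, coeff_ofFun, hφ,
        conj_mem_centralizer_of_normalizer hqN]
      have : IsConj g ((q : G) * (C.out : H) * (q : G)⁻¹) ↔ IsConj g (C.out : H) :=
        ⟨fun hh => hh.trans (isConj_iff.2 ⟨(q : G), rfl⟩).symm,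
          fun hh => hh.trans (isConj_iff.2 ⟨(q : G), rfl⟩)⟩
      simp only [this]
    have h2 : centralChar (ξ : H → ℂ) (φ q C.out) =
        centralChar (normTwist ξ ⟨q, hQn q.2⟩ : H → ℂ) C.out :=
      (centralChar_aut ξ (φ q) C.out).symm
    rw [h1, h2, ← mul_sub]
    exact memLocalIdeal_mul hM (hyi _)
      (isPBlock_sameBlock hM hb (hT.twist q (hQT q.2) ξ hξ) hξ C.out)
  have hsum := sum_sub_fixed_mem_congr hM hQp F
    (fun C => memLocalRing_mul hM (hyi _) (memLocalRing_centralChar hM ξ.2 _)) hinv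
  apply hu
  rw [omega_eq_sum_classes (IsIrr.isClassFunction ξ.2) hyc]
  suffices hfix : ∀ C ∈ MulAction.fixedPoints Q (ConjClasses H), y.coeff C.out = 0 by
    simpa [F] using memLocalIdeal_add hM hsum (memLocalIdeal_sum hM
      (Finset.univ.filter fun C => C ∈ MulAction.fixedPoints Q (ConjClasses H)) F fun C hC => by
      show MemLocalIdeal M (y.coeff C.out * centralChar (ξ : H → ℂ) C.out)
      rw [hfix C (Finset.mem_filter.1 hC).2, zero_mul]
      exact memLocalIdeal_zero hM)
  intro C hC
  by_contra hne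
  simp only [hy, coeff_brauerMap, classSum, coeff_ofFun, ne_eq, ite_eq_right_iff, not_forall] at hne
  obtain ⟨hxC, hgx, -⟩ := hne
  set x := C.out
  have hxloc : IsLocalClass p P (x : G) := ⟨hxC, H35.exists_sylow_of_isConj hloc.2 hgx hxC⟩
  -- a correction of `t` by an element of `H` centralizes `x`
  have hfx := hC ⟨t, Subgroup.mem_zpowers t⟩
  rw [hsmul] at hfx
  obtain ⟨l, hl⟩ := isConj_iff.1
    (ConjClasses.mk_eq_mk_iff_isConj.1 (hfx.trans (Quotient.out_eq C).symm))
  have hlG : (l : G) * (t * (x : G) * t⁻¹) * (l : G)⁻¹ = (x : G) := congrArg Subtype.val hl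
  set s := (l : G) * t
  have hsC : s ∈ Subgroup.centralizer ({(x : G)} : Set G) := by
    rw [Subgroup.mem_centralizer_singleton_iff]
    calc s * (x : G) = ((l : G) * (t * (x : G) * t⁻¹) * (l : G)⁻¹) * s := by
          simp only [s]; group
      _ = (x : G) * s := by rw [hlG]
  have hsN : s ∈ Subgroup.normalizer (P : Set G) := mul_mem (hHN l.2) (hT.le htT)
  set K := Subgroup.centralizer ({(x : G)} : Set G) ⊓ Subgroup.normalizer (P : Set G)
  have hsK : s ∈ K := ⟨hsC, hsN⟩
  have hpK : pPart (p := p) s ∈ K := by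
    have h1 := isPPart_coe_iff_mem (p := p) (H := K) ⟨s, hsK⟩
    exact h1
  have hp1 : pPart (p := p) s ∈ H := hPH (le_of_isLocalClass hP hxloc
    (R := Subgroup.zpowers (pPart (p := p) s)) (by
      obtain ⟨e, he⟩ := exists_orderOf_pPart (p := p) s
      exact IsPGroup.of_card (n := e) (by rw [Nat.card_zpowers, he]))
    (Subgroup.zpowers_le.2 hpK.1) (Subgroup.zpowers_le.2 hpK.2) (Subgroup.mem_zpowers _))
  -- compare in the quotient by `H`
  set N := Subgroup.normalizer (P : Set G)
  haveI : (H.subgroupOf N).Normal := (Subgroup.normal_subgroupOf_iff_le_normalizer hHN).mpr hNH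
  set π := QuotientGroup.mk' (H.subgroupOf N)
  have hπ : ∀ a : N, π a = 1 ↔ (a : G) ∈ H := fun a =>
    (QuotientGroup.eq_one_iff a).trans Subgroup.mem_subgroupOf
  have hrN : pReg (p := p) s ∈ N := by
    have := N.mul_mem (N.inv_mem hpK.2) hsN
    rwa [show (pPart (p := p) s)⁻¹ * s = pReg (p := p) s by
      rw [inv_mul_eq_iff_eq_mul, pPart_mul_pReg]] at this
  have hte : π ⟨t, hT.le htT⟩ = π ⟨pReg (p := p) s, hrN⟩ := by
    rw [← inv_mul_eq_one, ← map_inv, ← map_mul, hπ]
    show t⁻¹ * pReg (p := p) s ∈ H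
    have e : t⁻¹ * pReg (p := p) s =
        t⁻¹ * ((pPart (p := p) s)⁻¹ * (l : G)) * t := by
      have := pPart_mul_pReg (p := p) s
      calc t⁻¹ * pReg (p := p) s = t⁻¹ * ((pPart (p := p) s)⁻¹ * s) := by
            rw [eq_inv_mul_iff_mul_eq.2 this]
        _ = _ := by simp only [s]; group
    rw [e]
    simpa using ((Subgroup.mem_normalizer_iff.1
      ((Subgroup.normalizer (H : Set G)).inv_mem (hNH (hT.le htT)))) _).1
      (H.mul_mem (H.inv_mem hp1) l.2)
  obtain ⟨k, hk⟩ := hto
  have h1 : orderOf (π ⟨t, hT.le htT⟩) ∣ p ^ k := by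
    rw [← hk, ← Subgroup.orderOf_mk t (hT.le htT)]; exact orderOf_map_dvd _ _
  have h2 : ¬ p ∣ orderOf (π ⟨t, hT.le htT⟩) := fun h => not_dvd_orderOf_pReg (p := p) s (by
    rw [← Subgroup.orderOf_mk _ hrN]
    exact h.trans (hte ▸ orderOf_map_dvd _ _))
  obtain ⟨j, -, hj⟩ := (Nat.dvd_prime_pow Fact.out).1 h1
  have hj0 : j = 0 := by
    by_contra hne'
    exact h2 (hj ▸ dvd_pow_self p hne')
  rw [hj0, pow_zero, orderOf_eq_one_iff, hπ] at hj
  exact htH hj
where
  isPPart_coe_iff_mem {G : Type u} [Group G] [Finite G] {p : ℕ} [Fact p.Prime] {H : Subgroup G}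
      (h : H) : pPart (p := p) (h : G) ∈ H := by
    rw [H35.isPPart_coe_iff]; exact Subtype.mem _

include hM hP hPH hCH hHN hNH hb in
/-- If the inertia index is prime to `p`, the induced block has defect group `P`. -/
theorem defect_of_not_dvd_relIndex (hT : IsInertia P H T b hNH)
    (hind : IsInducedBlock M H b B) (hbP : IsDefectGroup p M b (P.subgroupOf H))
    (hndvd : ¬ p ∣ H.relIndex T) : IsDefectGroup p M B P := by
  classical
  set N := Subgroup.normalizer (P : Set G)
  set Tn := T.subgroupOf N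
  haveI : Fintype (N ⧸ Tn) := Fintype.ofFinite _
  obtain ⟨χ, hχ⟩ := isPBlock_nonempty hM hind.2.1
  obtain ⟨ξ, hξ⟩ := isPBlock_nonempty hM hb
  let β : G → ℂ := subgroupBlockCoeff H b
  have hβi : ∀ x, MemLocalRing M (β x) := fun x => by
    simp only [β, subgroupBlockCoeff]
    split_ifs
    exacts [memLocalRing_blockCoeff hM hb _, (locRing hM).zero_mem]
  have hβT : ∀ t ∈ T, ∀ x, β (t * x * t⁻¹) = β x := by
    intro t ht x
    have htn := hNH (hT.le ht)
    simp only [β, subgroupBlockCoeff]
    by_cases hx : x ∈ H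
    · rw [dif_pos hx, dif_pos ((conj_mem_subgroup_of_normalizer htn x).2 hx)]
      set e := Subgroup.normalizerMonoidHom H ⟨t, htn⟩
      have hiff : ∀ ψ : IrrCharacter H, H80.twist ψ e ∈ b ↔ ψ ∈ b := by
        intro ψ
        refine ⟨fun h => ?_, hT.twist t ht ψ⟩
        have h2 := hT.twist t⁻¹ (T.inv_mem ht) _ h
        rwa [show (⟨t⁻¹, hNH (hT.le (T.inv_mem ht))⟩ : Subgroup.normalizer (H : Set G)) =
          ⟨t, htn⟩⁻¹ from rfl, show H80.twist ψ e = normTwist ψ ⟨t, htn⟩ from rfl,
          normTwist_normTwist, mul_inv_cancel, normTwist_one] at h2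
      show blockCoeff b (e ⟨x, hx⟩) = blockCoeff b ⟨x, hx⟩
      unfold blockCoeff
      congr 1
      rw [finsum_mem_eq_sum_ite, finsum_mem_eq_sum_ite]
      refine Fintype.sum_equiv (⟨fun ψ => normTwist ψ ⟨t, htn⟩, fun ψ => normTwist ψ ⟨t, htn⟩⁻¹,
        fun ψ => by simp [normTwist_normTwist, normTwist_one],
        fun ψ => by simp [normTwist_normTwist, normTwist_one]⟩ :
          IrrCharacter H ≃ IrrCharacter H) _ _ fun ψ => ?_
      simp only [Equiv.coe_fn_mk, show normTwist ψ ⟨t, htn⟩ = H80.twist ψ e from rfl, hiff]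
      split_ifs
      · show _ = (ψ : H → ℂ) (e 1) * conj ((ψ : H → ℂ) (e ⟨x, hx⟩))
        rw [map_one]
      · rfl
    · rw [dif_neg hx, dif_neg fun h => hx ((conj_mem_subgroup_of_normalizer htn x).1 h)]
  let f : G → N ⧸ Tn → ℂ := fun x q => β (((q.out : N) : G)⁻¹ * x * ((q.out : N) : G))
  have hf : ∀ (x : G) (n : N), f x (QuotientGroup.mk n) = β ((n : G)⁻¹ * x * (n : G)) := by
    intro x n
    obtain ⟨⟨t, ht⟩, hte⟩ := QuotientGroup.mk_out_eq_mul Tn n
    have h1 := hβT ((t : G))⁻¹ (T.inv_mem (Subgroup.mem_subgroupOf.1 ht)) ((n : G)⁻¹ * x * (n : G))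
    show β _ = _
    rw [← h1]
    congr 1
    rw [hte]
    push_cast
    group
  have hfinv : ∀ (n : G) (hn : n ∈ N) (x : G) (q : N ⧸ Tn),
      f (n * x * n⁻¹) q = f x ((⟨n, hn⟩ : N)⁻¹ • q) := by
    intro n hn x q
    conv_rhs => rw [← QuotientGroup.out_eq' q]
    rw [MulAction.Quotient.smul_mk, hf]
    show β _ = _
    congr 1
    push_cast [smul_eq_mul]
    group
  let w : MonoidAlgebra ℂ G := ofFun fun x => ∑ q, f x q
  have hwi : IsIntElt M w := fun x => by
    simp only [w, coeff_ofFun]; exact (locRing hM).sum_mem fun q _ => hβi _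
  have hwN : ∀ n ∈ N, ∀ x, w.coeff (n * x * n⁻¹) = w.coeff x := by
    intro n hn x
    simp only [w, coeff_ofFun, hfinv n hn]
    exact Fintype.sum_equiv (MulAction.toPerm (⟨n, hn⟩ : N)⁻¹) _ _ fun q => rfl
  -- away from the local classes `w` vanishes on the centralizer
  have hw0 : ∀ x ∈ Subgroup.centralizer (P : Set G), ¬ IsLocalClass p P x →
      MemLocalIdeal M (w.coeff x) := by
    intro x hx hnot
    set K₀ := Subgroup.centralizer ({x} : Set G) ⊓ N
    have hPK : P ≤ K₀ := fun q hq => ⟨Subgroup.mem_centralizer_singleton_iff.2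
      (Subgroup.mem_centralizer_iff.1 hx q hq), Subgroup.le_normalizer hq⟩
    obtain ⟨R, hR⟩ := (hP.comap_of_injective K₀.subtype
      (Subgroup.subtype_injective K₀)).exists_le_sylow
    set S := (R : Subgroup K₀).map K₀.subtype
    have hSle : S ≤ K₀ := Subgroup.map_subtype_le _
    have hSp : IsPGroup p S := R.isPGroup'.map _
    have hPS : P ≤ S := fun q hq => ⟨⟨q, hPK hq⟩, hR (Subgroup.mem_subgroupOf.2 hq), rfl⟩
    let _ : MulAction S (N ⧸ Tn) :=
      MulAction.compHom _ (Subgroup.inclusion (hSle.trans inf_le_right))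
    have hsum := H35.sum_sub_fixed_mem hM hSp (f x) (fun q => hβi _) fun s q => by
      have hsx : (s : G) * x * (s : G)⁻¹ = x := by
        rw [Subgroup.mem_centralizer_singleton_iff.1 (hSle s.2).1, mul_inv_cancel_right]
      conv_rhs => rw [← QuotientGroup.out_eq' q, hf]
      show f x ((Subgroup.inclusion (hSle.trans inf_le_right) s) • q) = _
      conv_lhs => rw [← QuotientGroup.out_eq' q, MulAction.Quotient.smul_mk, hf]
      congr 1
      simp only [smul_eq_mul, Subgroup.coe_mul, Subgroup.coe_inclusion]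
      conv_lhs => rw [← hsx]
      group
    have h2 : MemLocalIdeal M (∑ q : N ⧸ Tn with q ∈ MulAction.fixedPoints S (N ⧸ Tn), f x q) := by
      refine memLocalIdeal_sum hM _ _ fun q hq => ?_
      have hfixq := (Finset.mem_filter.1 hq).2
      set n : N := q.out
      by_contra hne
      -- the conjugate of `S` lies in the inertia group, hence in `H`
      set S' := S.map (MulAut.conj (n : G)⁻¹).toMonoidHom
      have hS'T : S' ≤ T := by
        rintro _ ⟨s, hs, rfl⟩
        have h1 : (Subgroup.inclusion (hSle.trans inf_le_right) ⟨s, hs⟩) • q = q := hfixq ⟨s, hs⟩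
        rw [← QuotientGroup.out_eq' q, MulAction.Quotient.smul_mk, QuotientGroup.eq] at h1
        have h2 := T.inv_mem (Subgroup.mem_subgroupOf.1 h1)
        simpa [smul_eq_mul, mul_assoc, n] using h2
      have hS'H : S' ≤ H := by
        intro s hs
        haveI : (H.subgroupOf T).Normal :=
          (Subgroup.normal_subgroupOf_iff_le_normalizer hT.le_sub).mpr (hT.le.trans hNH)
        obtain ⟨k, hk⟩ := IsPGroup.iff_orderOf.1 (hSp.map (MulAut.conj (n : G)⁻¹).toMonoidHom) ⟨s, hs⟩
        rw [Subgroup.orderOf_mk] at hk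
        have h1 : orderOf (QuotientGroup.mk' (H.subgroupOf T) ⟨s, hS'T hs⟩) ∣ p ^ k := by
          rw [← hk, ← Subgroup.orderOf_mk s (hS'T hs)]; exact orderOf_map_dvd _ _
        have h2 : orderOf (QuotientGroup.mk' (H.subgroupOf T) ⟨s, hS'T hs⟩) ∣ H.relIndex T := by
          rw [Subgroup.relIndex, Subgroup.index_eq_card]; exact orderOf_dvd_natCard _
        have h3 := Nat.eq_one_of_dvd_coprimes
          (((Fact.out : p.Prime).coprime_iff_not_dvd.2 hndvd).pow_left k) h1 h2
        rw [orderOf_eq_one_iff] at h3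
        exact Subgroup.mem_subgroupOf.1 ((QuotientGroup.eq_one_iff _).1 h3)
      set x' := (n : G)⁻¹ * x * (n : G)
      have hx'C : x' ∈ Subgroup.centralizer (P : Set G) := by
        have := (conj_mem_centralizer_of_normalizer (inv_mem n.2) x).2 hx
        simpa using this
      have hβ : ¬ MemLocalIdeal M (blockCoeff b ⟨x', hCH hx'C⟩) := by
        have h1 : f x q = blockCoeff b ⟨x', hCH hx'C⟩ := by
          show subgroupBlockCoeff H b x' = _
          rw [subgroupBlockCoeff, dif_pos (hCH hx'C)]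
        rwa [← h1]
      obtain ⟨D, hD, hSD⟩ := H35.exists_defectGroup_ge hM hb hβ (S'.subgroupOf H)
        ((hSp.map _).comap_of_injective H.subtype (Subgroup.subtype_injective H)) (by
          intro a ha
          obtain ⟨s, hs, hse⟩ := Subgroup.mem_subgroupOf.1 ha
          rw [Subgroup.mem_centralizer_singleton_iff]
          apply Subtype.ext
          rw [Subgroup.coe_mul, Subgroup.coe_mul, ← hse]
          have hsx := Subgroup.mem_centralizer_singleton_iff.1 (hSle hs).1
          simp only [MulEquiv.coe_toMonoidHom, MulAut.conj_apply, inv_inv, x']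
          calc (n : G)⁻¹ * s * n * ((n : G)⁻¹ * x * n) = (n : G)⁻¹ * (s * x) * n := by group
            _ = (n : G)⁻¹ * (x * s) * n := by rw [hsx]
            _ = _ := by group)
      have hc := Subgroup.card_le_of_le hSD
      rw [H35.card_defectGroup hM hb hD, ← H35.card_defectGroup hM hb hbP,
        Nat.card_congr (Subgroup.subgroupOfEquivOfLe hS'H).toEquiv,
        Nat.card_congr (Subgroup.subgroupOfEquivOfLe hPH).toEquiv,
        Subgroup.card_map_of_injective (MulAut.conj (n : G)⁻¹).injective] at hc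
      exact hnot ⟨hx, H35.exists_sylow_of_normalizer ⟨R, (Subgroup.eq_of_le_of_card_ge hPS hc).symm⟩⟩
    simp only [w, coeff_ofFun]
    simpa using memLocalIdeal_add hM hsum h2
  obtain ⟨F, hFc, hFi, hFs, hwF⟩ := exists_lift_classFunction (L := H) hM hP hPH hHN hwi hwN hw0
  -- the central character of the root at `w` is `1`
  have hone : omega (ξ : H → ℂ) (resMap H w) = 1 := by
    have hq : ∀ q : N ⧸ Tn, ∑ x : H, f x q * (ξ : H → ℂ) x =
        if q = QuotientGroup.mk (1 : N) then (ξ : H → ℂ) 1 else 0 := by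
      intro q
      set n : N := q.out
      set e := Subgroup.normalizerMonoidHom H (⟨n, hNH n.2⟩ : Subgroup.normalizer (H : Set G))
      rw [Fintype.sum_equiv e.toEquiv.symm (fun x => f x q * (ξ : H → ℂ) x)
        (fun x => (blockElem b).coeff x * (normTwist ξ ⟨n, hNH n.2⟩ : H → ℂ) x) fun x => ?_]
      · show chiLin _ _ = _
        rw [← mul_one (blockElem b), chiLin_blockElem_mul, chiLin_one]
        have h1 : (normTwist ξ ⟨n, hNH n.2⟩ : H → ℂ) 1 = (ξ : H → ℂ) 1 :=
          congrArg (ξ : H → ℂ) (map_one e)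
        rw [h1]
        refine if_congr ⟨fun h => ?_, fun h => ?_⟩ rfl rfl
        · rw [← QuotientGroup.out_eq' q, QuotientGroup.eq]
          simpa [Tn, Subgroup.mem_subgroupOf] using hT.mem n n.2 ξ hξ h
        · refine hT.twist n ?_ ξ hξ
          have := QuotientGroup.eq.1 ((QuotientGroup.out_eq' q).trans h)
          simpa [Tn, Subgroup.mem_subgroupOf] using this
      · have hx : ((e.symm x : H) : G) = (n : G)⁻¹ * (x : G) * (n : G) := by
          have h2 : (n : G) * ((e.symm x : H) : G) * (n : G)⁻¹ = (x : G) :=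
            congrArg Subtype.val (e.apply_symm_apply x)
          calc ((e.symm x : H) : G) = (n : G)⁻¹ * ((n : G) * ((e.symm x : H) : G) * (n : G)⁻¹) * n := by
                group
            _ = _ := by rw [h2]
        rw [show (normTwist ξ ⟨n, hNH n.2⟩ : H → ℂ) (e.toEquiv.symm x) = (ξ : H → ℂ) (e (e.symm x))
          from rfl, MulEquiv.apply_symm_apply, coeff_blockElem]
        congr 1
        show subgroupBlockCoeff H b ((n : G)⁻¹ * (x : G) * (n : G)) = blockCoeff b (e.symm x)
        rw [subgroupBlockCoeff, dif_pos (hx ▸ (e.symm x).2)]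
        exact congrArg (blockCoeff b) (Subtype.ext hx.symm)
    rw [omega, chiLin]
    simp only [coeff_resMap, w, coeff_ofFun, Finset.sum_mul]
    rw [Finset.sum_comm, Finset.sum_congr rfl fun q _ => hq q, Finset.sum_ite_eq',
      if_pos (Finset.mem_univ _), div_self (irr_one_ne_zero ξ.2)]
  have hχF : ¬ MemLocalIdeal M (omega (χ : G → ℂ) (ofFun F)) := fun hm => by
    have h1 := omega_brauerMap_of_induced hM hP hPH hCH hHN hind hξ hχ (isCentralElt_ofFun hFc) hFi
    have h2 := hwF ξ
    rw [hone] at h2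
    exact not_memLocalIdeal_one hM (by
      simpa using memLocalIdeal_add hM (memLocalIdeal_add hM h2 h1) hm)
  obtain ⟨x, hxF, hxu⟩ : ∃ x, F x ≠ 0 ∧ ¬ MemLocalIdeal M (centralChar (χ : G → ℂ) x) := by
    by_contra hc
    push Not at hc
    apply hχF
    refine memLocalIdeal_omega hM χ.2 (isCentralElt_ofFun hFc) fun g => ?_
    rw [coeff_ofFun]
    by_cases hg : F g = 0
    · rw [hg, zero_mul]; exact memLocalIdeal_zero hM
    · have := memLocalIdeal_mul hM (hFi g) (hc g hg)
      rwa [coeff_ofFun] at this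
  obtain ⟨x', ⟨-, R, hR⟩, hxx'⟩ := hFs x hxF
  rw [← H35.centralChar_eq_of_isConj χ hxx'] at hxu
  have hb' := hind
  rw [isPBlock_eq_blockOf hM hb hξ] at hb'
  obtain ⟨y, hyC, hy⟩ := exists_coeff_of_root hM hP hPH hCH hHN hind.2.1 hb'
  obtain ⟨D, hD, hPD⟩ := H35.exists_defectGroup_ge hM hind.2.1 hy P hP fun q hq =>
    Subgroup.mem_centralizer_singleton_iff.2 (Subgroup.mem_centralizer_iff.1 hyC q hq)
  obtain ⟨d, hd, U, hU⟩ := id hD
  obtain ⟨a, ha⟩ := H35.exists_sylImage_le hM hind.2.1 hχ hxu hd.2.1 U R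
  have hcard := Subgroup.card_le_of_le ha
  rw [Subgroup.card_map_of_injective (MulAut.conj a).injective, hR] at hcard
  exact (Subgroup.eq_of_le_of_card_ge hPD (le_of_eq_of_le (by rw [hU]; rfl) hcard)).symm ▸ hD

end Cfsg.Agent.BlockBasic
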