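import Cfsg.Agent.BlockBasic.StableBlock
import Cfsg.Agent.BlockBasic.StabilizerDefect
import Cfsg.Agent.CharInduce.Transport

/-!
# Blocks with a defect group inside a normal subgroup of `p`-power index
-/

open scoped ComplexConjugate
open MonoidAlgebra

namespace Cfsg.Agent.BlockBasic

open CharBasic

universe u v

/-- Central characters transported along an isomorphism. -/
lemma centralChar_comp_equiv {A : Type u} {A' : Type v} [Group A] [Group A'] (e : A ≃* A')
    (χ : A' → ℂ) (a : A) : centralChar (fun y => χ (e y)) a = centralChar χ (e a) := by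
  unfold centralChar
  have : (Subgroup.centralizer ({e a} : Set A')) =
      (Subgroup.centralizer ({a} : Set A)).map e.toMonoidHom := by
    ext y
    rw [Subgroup.mem_map_equiv, Subgroup.mem_centralizer_singleton_iff,
      Subgroup.mem_centralizer_singleton_iff]
    constructor
    · intro hy
      apply e.injective
      simp only [map_mul, MulEquiv.apply_symm_apply]
      exact hy
    · intro hy
      have := congrArg e hy
      simpa only [map_mul, MulEquiv.apply_symm_apply] using this
  rw [this]
  simp only [map_one]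
  congr 3
  exact (Subgroup.index_map_equiv (H := Subgroup.centralizer ({a} : Set A)) e).symm

variable {G : Type u} [Group G] [Fintype G] {p : ℕ} {M : Ideal AlgInt} [Fact p.Prime]
variable {N : Subgroup G} [hN : N.Normal] [Fintype N]

/-- With a defect group inside a normal subgroup of `p`-power index, the `p`-elements fixing a
covered block lie in the subgroup. -/
theorem mem_of_fixed_block (hM : IsPModular p M) (hidx : ∃ k : ℕ, N.index = p ^ k)
    {B : Set (IrrCharacter G)} (hB : IsPBlock M B) {D : Subgroup G}
    (hD : IsDefectGroup p M B D) (hDN : D ≤ N) {χ : IrrCharacter G} (hχ : χ ∈ B)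
    {θ : IrrCharacter N} (hθ : classInner (fun n : N => (χ : G → ℂ) n) (θ : N → ℂ) ≠ 0)
    {x : G} (hxp : ∃ k, orderOf x = p ^ k)
    (hx : SameBlock M (H80.conjTwist N θ x : N → ℂ) (θ : N → ℂ)) : x ∈ N := by
  classical
  haveI : Finite (ConjClasses N) := Finite.of_surjective _ ConjClasses.mk_surjective
  haveI : Fintype (ConjClasses N) := Fintype.ofFinite _
  by_contra hxN
  obtain ⟨g, hg, S, hS⟩ := hD
  have hgN : g ∈ N := mem_of_regular hidx fun h => hg.2.1 (by
    rw [blockCoeff_eq_zero_of_singular hM hB h]; exact memLocalIdeal_zero hM)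
  -- the centralizer of `g` lies in `N`
  have hcen : Subgroup.centralizer ({g} : Set G) ≤ N := by
    intro y hy
    have hregN : pReg (p := p) y ∈ N := mem_of_regular hidx (not_dvd_orderOf_pReg y)
    obtain ⟨k, hk⟩ := exists_orderOf_pPart (p := p) y
    have hppC : pPart (p := p) y ∈ Subgroup.centralizer ({g} : Set G) := by
      rw [Subgroup.mem_centralizer_singleton_iff] at hy ⊢
      have h1 : g * y * g⁻¹ = y := by rw [← hy, mul_inv_cancel_right]
      have h2 := (pPart_conj (p := p) y g).symm.trans (congrArg (pPart (p := p)) h1)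
      exact (mul_inv_eq_iff_eq_mul.1 h2).symm
    set R : Subgroup (Subgroup.centralizer ({g} : Set G)) := Subgroup.zpowers ⟨_, hppC⟩
    have hR : IsPGroup p R := IsPGroup.of_card (n := k) (by
      rw [Nat.card_zpowers, Subgroup.orderOf_mk, hk])
    obtain ⟨S', hS'⟩ := hR.exists_le_sylow
    obtain ⟨c, hc⟩ := MulAction.exists_smul_eq (Subgroup.centralizer ({g} : Set G)) S S'
    have hmem : (⟨_, hppC⟩ : Subgroup.centralizer ({g} : Set G)) ∈ (c • S : Sylow p _) :=
      hc ▸ hS' (Subgroup.mem_zpowers _)
    rw [← SetLike.mem_coe, Sylow.coe_smul, Set.mem_smul_set_iff_inv_smul_mem] at hmem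
    have h2 : (c : G)⁻¹ * pPart (p := p) y * (c : G) ∈ N := by
      refine hDN (hS ▸ ?_)
      exact ⟨_, hmem, by simp [mul_assoc]⟩
    have h3 := hN.conj_mem _ h2 (c : G)
    rw [show (c : G) * ((c : G)⁻¹ * pPart (p := p) y * c) * (c : G)⁻¹ = pPart (p := p) y by group]
      at h3
    rw [← pPart_mul_pReg (p := p) y]
    exact N.mul_mem h3 hregN
  have hu : ¬ MemLocalIdeal M (inducedCentralChar N (θ : N → ℂ) g) := by
    rw [← (classInner_ne_zero_iff_centralChar χ θ).1 hθ ⟨g, hgN⟩]
    exact hg.2.2 χ hχ
  apply hu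
  set Q := Subgroup.zpowers x
  have hQp : IsPGroup p Q := by
    obtain ⟨k, hk⟩ := hxp
    exact IsPGroup.of_card (n := k) (by rw [Nat.card_zpowers, hk])
  have hfix : ∀ q ∈ Q, SameBlock M (H80.conjTwist N θ q : N → ℂ) (θ : N → ℂ) := by
    intro q hq
    obtain ⟨m, rfl⟩ : ∃ m : ℕ, x ^ m = q := by
      have := (IsOfFinOrder.mem_powers_iff_mem_zpowers (isOfFinOrder_of_finite x)).2 hq
      exact this
    induction m with
    | zero => rw [pow_zero, conjTwist_one]; exact sameBlock_refl hM _
    | succ m ih =>
      rw [pow_succ, ← conjTwist_conjTwist]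
      exact sameBlock_trans hM (sameBlock_twist x (ih (pow_mem (Subgroup.mem_zpowers x) m))) hx
  let φ : Q →* MulAut N := (MulAut.conjNormal (H := N)).comp Q.subtype
  let _ : MulAction Q (ConjClasses N) :=
    { smul := fun q C => ConjClasses.map (φ q).toMonoidHom C
      one_smul := fun C => by
        induction C using Quotient.inductionOn with
        | h a =>
          refine congrArg ConjClasses.mk ?_
          show φ 1 a = a
          rw [map_one]; rfl
      mul_smul := fun a c C => by
        induction C using Quotient.inductionOn with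
        | h y =>
          refine congrArg ConjClasses.mk ?_
          show φ (a * c) y = φ a (φ c y)
          rw [map_mul]; rfl }
  have hsmul : ∀ (q : Q) (C : ConjClasses N), q • C = ConjClasses.mk (φ q C.out) := fun q C => by
    conv_lhs => rw [← Quotient.out_eq C]
    rfl
  let F : ConjClasses N → ℂ := fun C =>
    if IsConj g (C.out : N) then centralChar (θ : N → ℂ) C.out else 0
  have hout : ∀ a : N, IsConj (ConjClasses.mk a).out a := fun a =>
    ConjClasses.mk_eq_mk_iff_isConj.1 (Quotient.out_eq _)
  have hFi : ∀ C, MemLocalRing M (F C) := fun C => by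
    simp only [F]
    split_ifs
    · exact memLocalRing_centralChar hM θ.2 _
    · exact (locRing hM).zero_mem
  have hinv : ∀ (q : Q) (C : ConjClasses N), MemLocalIdeal M (F (q • C) - F C) := by
    intro q C
    simp only [F, hsmul]
    have hc1 := hout (φ q C.out)
    have hc2 : IsConj g ((ConjClasses.mk (φ q C.out)).out : G) ↔ IsConj g (C.out : G) := by
      obtain ⟨c, hc⟩ := isConj_iff.1 hc1
      have h1 : IsConj (((ConjClasses.mk (φ q C.out)).out : N) : G) (φ q C.out : G) :=
        isConj_iff.2 ⟨(c : G), congrArg Subtype.val hc⟩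
      have h2 : IsConj (C.out : G) (φ q C.out : G) := isConj_iff.2 ⟨(q : G), rfl⟩
      exact ⟨fun h => (h.trans h1).trans h2.symm, fun h => (h.trans h2).trans h1.symm⟩
    simp only [hc2]
    split_ifs
    · rw [H35.centralChar_eq_of_isConj θ hc1.symm, show φ q C.out =
        MulAut.conjNormal (q : G) C.out from rfl, ← centralChar_twist]
      exact hfix q q.2 C.out
    · simpa using memLocalIdeal_zero hM
  have hsum := sum_sub_fixed_mem_congr hM hQp F hFi hinv
  have hval : inducedCentralChar N (θ : N → ℂ) g = ∑ C : ConjClasses N, F C := by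
    rw [← omega_resMap_classSum, omega_eq_sum_classes (IsIrr.isClassFunction θ.2)
      (isCentralElt_resMap (isCentralElt_classSum _))]
    refine Finset.sum_congr rfl fun C _ => ?_
    simp only [F, coeff_resMap, classSum, coeff_ofFun]
    split_ifs <;> simp
  rw [hval]
  suffices hz : ∀ C ∈ MulAction.fixedPoints Q (ConjClasses N), F C = 0 by
    simpa using memLocalIdeal_add hM hsum (memLocalIdeal_sum hM
      (Finset.univ.filter fun C => C ∈ MulAction.fixedPoints Q (ConjClasses N)) F fun C hC => by
        rw [hz C (Finset.mem_filter.1 hC).2]; exact memLocalIdeal_zero hM)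
  intro C hC
  simp only [F]
  rw [if_neg]
  intro hgC
  obtain ⟨d, hd⟩ := isConj_iff.1 hgC
  have hfx := hC ⟨x, Subgroup.mem_zpowers x⟩
  rw [hsmul] at hfx
  obtain ⟨l, hl⟩ := isConj_iff.1
    (ConjClasses.mk_eq_mk_iff_isConj.1 (hfx.trans (Quotient.out_eq C).symm))
  have hlG : (l : G) * (x * ((C.out : N) : G) * x⁻¹) * (l : G)⁻¹ = ((C.out : N) : G) :=
    congrArg Subtype.val hl
  have hy : d⁻¹ * ((l : G) * x) * d ∈ Subgroup.centralizer ({g} : Set G) := by
    rw [Subgroup.mem_centralizer_singleton_iff]
    calc d⁻¹ * ((l : G) * x) * d * g = d⁻¹ * ((l : G) * x * (d * g * d⁻¹)) * d := by group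
      _ = d⁻¹ * ((l : G) * x * ((C.out : N) : G)) * d := by rw [hd]
      _ = d⁻¹ * ((l : G) * (x * ((C.out : N) : G) * x⁻¹) * (l : G)⁻¹ * ((l : G) * x)) * d := by group
      _ = d⁻¹ * (((C.out : N) : G) * ((l : G) * x)) * d := by rw [hlG]
      _ = d⁻¹ * (d * g * d⁻¹ * ((l : G) * x)) * d := by rw [hd]
      _ = g * (d⁻¹ * ((l : G) * x) * d) := by group
  have h4 := hN.conj_mem _ (hcen hy) d
  rw [show d * (d⁻¹ * ((l : G) * x) * d) * d⁻¹ = (l : G) * x by group] at h4
  exact hxN ((Subgroup.mul_mem_cancel_left _ l.2).1 h4)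

end Cfsg.Agent.BlockBasic
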