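import Cfsg.Agent.BlockBasic.Center

/-!
# Blocks and their idempotents
-/

open scoped ComplexConjugate
open MonoidAlgebra

namespace Cfsg.Agent.BlockBasic

open CharBasic

universe u

variable {G : Type u} [Group G] {p : ℕ} {M : Ideal AlgInt}

/-- All coefficients of `z` are local integers at `M`. -/
def IsIntElt (M : Ideal AlgInt) (z : MonoidAlgebra ℂ G) : Prop :=
  ∀ g, MemLocalRing M (z.coeff g)

lemma isIntElt_single (hM : IsPModular p M) (g : G) {c : ℂ} (hc : MemLocalRing M c) :
    IsIntElt M (single g c) := by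
  classical
  intro h
  rw [coeff_single, Finsupp.single_apply]
  split
  · exact hc
  · exact (locRing hM).zero_mem

lemma isIntElt_one (hM : IsPModular p M) : IsIntElt M (1 : MonoidAlgebra ℂ G) := by
  rw [one_def]
  exact isIntElt_single hM 1 (locRing hM).one_mem

lemma IsIntElt.add (hM : IsPModular p M) {z w : MonoidAlgebra ℂ G} (hz : IsIntElt M z)
    (hw : IsIntElt M w) : IsIntElt M (z + w) := fun g => by
  rw [coeff_add, Finsupp.add_apply]
  exact memLocalRing_add hM (hz g) (hw g)

lemma IsIntElt.sub (hM : IsPModular p M) {z w : MonoidAlgebra ℂ G} (hz : IsIntElt M z)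
    (hw : IsIntElt M w) : IsIntElt M (z - w) := fun g => by
  rw [coeff_sub, Finsupp.sub_apply]
  exact (locRing hM).sub_mem (hz g) (hw g)

lemma IsIntElt.smul (hM : IsPModular p M) {z : MonoidAlgebra ℂ G} {c : ℂ} (hc : MemLocalRing M c)
    (hz : IsIntElt M z) : IsIntElt M (c • z) := fun g => by
  rw [coeff_smul_apply]
  exact memLocalRing_mul hM hc (hz g)

lemma IsIntElt.mul (hM : IsPModular p M) {z w : MonoidAlgebra ℂ G} (hz : IsIntElt M z)
    (hw : IsIntElt M w) : IsIntElt M (z * w) := fun g => by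
  classical
  rw [coeff_mul]
  refine (locRing hM).sum_mem fun a _ => (locRing hM).sum_mem fun b _ => ?_
  dsimp only
  split
  · exact (locRing hM).mul_mem (hz _) (hw _)
  · exact (locRing hM).zero_mem

lemma IsIntElt.pow (hM : IsPModular p M) {z : MonoidAlgebra ℂ G} (hz : IsIntElt M z) (n : ℕ) :
    IsIntElt M (z ^ n) := by
  induction n with
  | zero => simpa using isIntElt_one hM
  | succ n ih => rw [pow_succ]; exact ih.mul hM hz

lemma isIntElt_classSum [Finite G] (hM : IsPModular p M) (g : G) :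
    IsIntElt M (classSum g) := fun h => by
  rw [classSum, coeff_ofFun]
  split
  · exact (locRing hM).one_mem
  · exact (locRing hM).zero_mem

lemma memLocalIdeal_sum (hM : IsPModular p M) {ι : Type*} (s : Finset ι) (f : ι → ℂ)
    (h : ∀ i ∈ s, MemLocalIdeal M (f i)) : MemLocalIdeal M (∑ i ∈ s, f i) := by
  classical
  induction s using Finset.induction with
  | empty => simpa using memLocalIdeal_zero hM
  | insert i s hi ih =>
    rw [Finset.sum_insert hi]
    exact memLocalIdeal_add hM (h i (Finset.mem_insert_self i s))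
      (ih fun j hj => h j (Finset.mem_insert_of_mem hj))

lemma sameBlock_refl (hM : IsPModular p M) (χ : G → ℂ) : SameBlock M χ χ := fun g => by
  simpa using memLocalIdeal_zero hM

lemma sameBlock_symm {χ ψ : G → ℂ} (h : SameBlock M χ ψ) : SameBlock M ψ χ := fun g => by
  simpa using memLocalIdeal_neg (h g)

lemma sameBlock_trans (hM : IsPModular p M) {χ ψ φ : G → ℂ} (h : SameBlock M χ ψ)
    (h' : SameBlock M ψ φ) : SameBlock M χ φ := fun g => by
  simpa using memLocalIdeal_add hM (h g) (h' g)

lemma mem_blockOf {χ : G → ℂ} {ψ : IrrCharacter G} :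
    ψ ∈ blockOf M χ ↔ SameBlock M χ (ψ : G → ℂ) := Iff.rfl

lemma self_mem_blockOf (hM : IsPModular p M) (χ : IrrCharacter G) :
    χ ∈ blockOf M (χ : G → ℂ) := sameBlock_refl hM _

lemma blockOf_eq_of_sameBlock (hM : IsPModular p M) {χ ψ : G → ℂ} (h : SameBlock M χ ψ) :
    blockOf M χ = blockOf M ψ :=
  Set.ext fun _ => ⟨fun h' => sameBlock_trans hM (sameBlock_symm h) h',
    fun h' => sameBlock_trans hM h h'⟩

lemma isPBlock_blockOf (M : Ideal AlgInt) (χ : IrrCharacter G) :
    IsPBlock M (blockOf M (χ : G → ℂ)) := ⟨χ, rfl⟩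

lemma isPBlock_nonempty (hM : IsPModular p M) {B : Set (IrrCharacter G)} (hB : IsPBlock M B) :
    B.Nonempty := by
  obtain ⟨χ, rfl⟩ := hB
  exact ⟨χ, self_mem_blockOf hM χ⟩

lemma isPBlock_eq_blockOf (hM : IsPModular p M) {B : Set (IrrCharacter G)} (hB : IsPBlock M B)
    {χ : IrrCharacter G} (hχ : χ ∈ B) : B = blockOf M (χ : G → ℂ) := by
  obtain ⟨ψ, rfl⟩ := hB
  exact blockOf_eq_of_sameBlock hM hχ

lemma isPBlock_sameBlock (hM : IsPModular p M) {B : Set (IrrCharacter G)} (hB : IsPBlock M B)
    {χ ψ : IrrCharacter G} (hχ : χ ∈ B) (hψ : ψ ∈ B) : SameBlock M (χ : G → ℂ) (ψ : G → ℂ) := by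
  rw [isPBlock_eq_blockOf hM hB hχ] at hψ
  exact hψ

lemma isPBlock_eq_of_mem (hM : IsPModular p M) {B B' : Set (IrrCharacter G)} (hB : IsPBlock M B)
    (hB' : IsPBlock M B') {χ : IrrCharacter G} (hχ : χ ∈ B) (hχ' : χ ∈ B') : B = B' :=
  (isPBlock_eq_blockOf hM hB hχ).trans (isPBlock_eq_blockOf hM hB' hχ').symm

/-- The trivial character is irreducible. -/
lemma isIrrCharacter_trivial [Finite G] : IsIrrCharacter G (fun _ : G => (1 : ℂ)) := by
  haveI : (Representation.trivial ℂ G ℂ).IsIrreducible := by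
    haveI : IsSimpleOrder (Submodule ℂ ℂ) := inferInstanceAs (IsSimpleOrder (Ideal ℂ))
    haveI : Nontrivial (Subrepresentation (Representation.trivial ℂ G ℂ)) :=
      ⟨⊥, ⊤, fun h => bot_ne_top (α := Submodule ℂ ℂ) (congrArg Subrepresentation.toSubmodule h)⟩
    exact ⟨fun S => (IsSimpleOrder.eq_bot_or_eq_top S.toSubmodule).imp
      (fun h => Subrepresentation.toSubmodule_injective h)
      (fun h => Subrepresentation.toSubmodule_injective h)⟩
  have : (Representation.trivial ℂ G ℂ).character = fun _ : G => (1 : ℂ) := by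
    funext g
    simp [Representation.character]
  exact this ▸ isIrrCharacter_character _

/-- The trivial character. -/
def trivialIrr [Finite G] : IrrCharacter G := ⟨fun _ => 1, isIrrCharacter_trivial⟩

lemma isPBlock_principalBlock [Finite G] (M : Ideal AlgInt) : IsPBlock M (principalBlock M G) :=
  ⟨trivialIrr, rfl⟩

variable [Fintype G]

lemma memLocalRing_omega (hM : IsPModular p M) {χ : G → ℂ} (hχ : IsIrrCharacter G χ)
    {z : MonoidAlgebra ℂ G} (hz : IsCentralElt z) (hzi : IsIntElt M z) :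
    MemLocalRing M (omega χ z) := by
  haveI : Finite (ConjClasses G) := Finite.of_surjective _ ConjClasses.mk_surjective
  haveI : Fintype (ConjClasses G) := Fintype.ofFinite _
  rw [omega_eq_sum_classes (IsIrr.isClassFunction hχ) hz]
  exact (locRing hM).sum_mem fun C _ =>
    (locRing hM).mul_mem (hzi _) (memLocalRing_centralChar hM hχ _)

lemma omega_congr (hM : IsPModular p M) {χ ψ : G → ℂ} (hχ : IsClassFunction G χ)
    (hψ : IsClassFunction G ψ) (h : SameBlock M χ ψ)
    {z : MonoidAlgebra ℂ G} (hz : IsCentralElt z) (hzi : IsIntElt M z) :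
    MemLocalIdeal M (omega χ z - omega ψ z) := by
  haveI : Finite (ConjClasses G) := Finite.of_surjective _ ConjClasses.mk_surjective
  haveI : Fintype (ConjClasses G) := Fintype.ofFinite _
  rw [omega_eq_sum_classes hχ hz, omega_eq_sum_classes hψ hz, ← Finset.sum_sub_distrib]
  refine memLocalIdeal_sum hM _ _ fun C _ => ?_
  rw [← mul_sub]
  exact memLocalIdeal_mul hM (hzi _) (h _)

lemma sameBlock_iff_omega (hM : IsPModular p M) (χ ψ : IrrCharacter G) :
    SameBlock M (χ : G → ℂ) (ψ : G → ℂ) ↔ ∀ z : MonoidAlgebra ℂ G, IsCentralElt z → IsIntElt M z →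
      MemLocalIdeal M (omega (χ : G → ℂ) z - omega (ψ : G → ℂ) z) := by
  refine ⟨fun h z hz hzi => omega_congr hM (IsIrr.isClassFunction χ.2) (IsIrr.isClassFunction ψ.2) h hz hzi,
    fun h g => ?_⟩
  have := h _ (isCentralElt_classSum g) (isIntElt_classSum hM g)
  rwa [omega_classSum (IsIrr.isClassFunction χ.2), omega_classSum (IsIrr.isClassFunction ψ.2)] at this

omit [Fintype G] in
lemma finsum_mem_eq_sum_ite [Finite G] (B : Set (IrrCharacter G)) [DecidablePred (· ∈ B)]
    (f : IrrCharacter G → ℂ) : ∑ᶠ χ ∈ B, f χ = ∑ χ, if χ ∈ B then f χ else 0 := by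
  rw [finsum_mem_def, finsum_eq_sum_of_fintype]
  exact Finset.sum_congr rfl fun χ _ => by rw [Set.indicator_apply]

/-- The idempotent of a set of irreducible characters. -/
noncomputable def blockElem (B : Set (IrrCharacter G)) : MonoidAlgebra ℂ G := ofFun (blockCoeff B)

lemma coeff_blockElem (B : Set (IrrCharacter G)) (g : G) :
    (blockElem B).coeff g = blockCoeff B g := coeff_ofFun _ _

omit [Fintype G] in
lemma isClassFunction_blockCoeff [Finite G] (B : Set (IrrCharacter G)) :
    IsClassFunction G (blockCoeff B) := by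
  intro g h
  unfold blockCoeff
  congr 1
  exact finsum_mem_congr rfl fun χ _ => by rw [IsIrr.isClassFunction χ.2 g h]

lemma isCentralElt_blockElem (B : Set (IrrCharacter G)) : IsCentralElt (blockElem B) :=
  isCentralElt_ofFun (isClassFunction_blockCoeff B)

open scoped Classical in
lemma omega_blockElem (B : Set (IrrCharacter G)) (χ : IrrCharacter G) :
    omega (χ : G → ℂ) (blockElem B) = if χ ∈ B then 1 else 0 := by
  have h : ∀ ψ : IrrCharacter G, ∑ g, conj ((ψ : G → ℂ) g) * (χ : G → ℂ) g =
      if χ = ψ then (Nat.card G : ℂ) else 0 := by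
    intro ψ
    have h1 := classInner_irrCharacter χ ψ
    rw [classInner_def] at h1
    have hG : (Nat.card G : ℂ) ≠ 0 := Nat.cast_ne_zero.2 Nat.card_pos.ne'
    rw [inv_mul_eq_iff_eq_mul₀ hG] at h1
    simp only [mul_comm (conj _), h1, mul_ite, mul_one, mul_zero]
  have hG : (Nat.card G : ℂ) ≠ 0 := Nat.cast_ne_zero.2 Nat.card_pos.ne'
  have h1 : chiLin (χ : G → ℂ) (blockElem B) = if χ ∈ B then (χ : G → ℂ) 1 else 0 := by
    simp only [chiLin, coeff_blockElem, blockCoeff, finsum_mem_eq_sum_ite, mul_assoc,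
      ← Finset.mul_sum, Finset.sum_mul]
    rw [Finset.sum_comm]
    simp only [ite_mul, zero_mul, mul_assoc]
    rw [Finset.sum_eq_single χ]
    · split_ifs with hB
      · rw [← Finset.mul_sum, h χ, if_pos rfl]
        field_simp
      · simp
    · intro ψ _ hne
      split_ifs
      · rw [← Finset.mul_sum, h ψ, if_neg hne.symm, mul_zero]
      · simp
    · simp
  rw [omega, h1]
  split_ifs
  · exact div_self (irr_one_ne_zero χ.2)
  · exact zero_div _

lemma eq_of_omega_eq {z w : MonoidAlgebra ℂ G} (hz : IsCentralElt z) (hw : IsCentralElt w)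
    (h : ∀ χ : IrrCharacter G, omega (χ : G → ℂ) z = omega (χ : G → ℂ) w) : z = w := by
  apply coeff_injective
  ext g
  rw [coeff_eq_sum_omega hz, coeff_eq_sum_omega hw]
  simp only [h]

open scoped Classical in
lemma blockElem_mul (B B' : Set (IrrCharacter G)) :
    blockElem B * blockElem B' = blockElem (B ∩ B') := by
  refine eq_of_omega_eq ((isCentralElt_blockElem B).mul (isCentralElt_blockElem B'))
    (isCentralElt_blockElem _) fun χ => ?_
  rw [omega_mul χ.2 (isCentralElt_blockElem B), omega_blockElem, omega_blockElem, omega_blockElem]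
  by_cases h : χ ∈ B <;> simp [h]

lemma blockElem_idem (B : Set (IrrCharacter G)) : blockElem B * blockElem B = blockElem B := by
  rw [blockElem_mul, Set.inter_self]

lemma blockElem_univ : blockElem (Set.univ : Set (IrrCharacter G)) = 1 := by
  refine eq_of_omega_eq (isCentralElt_blockElem _) IsCentralElt.one fun χ => ?_
  rw [omega_blockElem, omega_one χ.2]
  simp

lemma chiLin_blockElem_mul (B : Set (IrrCharacter G)) [DecidablePred (· ∈ B)] (χ : IrrCharacter G)
    (w : MonoidAlgebra ℂ G) :
    chiLin (χ : G → ℂ) (blockElem B * w) = if χ ∈ B then chiLin (χ : G → ℂ) w else 0 := by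
  classical
  rw [chiLin_central_mul χ.2 (isCentralElt_blockElem B), omega_blockElem]
  split_ifs <;> simp

/-- Separation of a block from finitely many characters outside it. -/
lemma exists_separator (hM : IsPModular p M) (χ : IrrCharacter G) (S : Finset (IrrCharacter G))
    (hS : ∀ ψ ∈ S, ¬ SameBlock M (χ : G → ℂ) (ψ : G → ℂ)) :
    ∃ z : MonoidAlgebra ℂ G, IsCentralElt z ∧ IsIntElt M z ∧ omega (χ : G → ℂ) z = 1 ∧
      ∀ ψ ∈ S, omega (ψ : G → ℂ) z = 0 := by
  classical
  induction S using Finset.induction with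
  | empty => exact ⟨1, IsCentralElt.one, isIntElt_one hM, omega_one χ.2, by simp⟩
  | insert φ S _ ih =>
    obtain ⟨z, hz, hzi, hz1, hz0⟩ := ih fun ψ hψ => hS ψ (Finset.mem_insert_of_mem hψ)
    obtain ⟨g, hg⟩ := not_forall.1 (hS φ (Finset.mem_insert_self φ S))
    set a := centralChar (χ : G → ℂ) g
    set b := centralChar (φ : G → ℂ) g
    have hab : a - b ≠ 0 := fun h => hg (by rw [h]; exact memLocalIdeal_zero hM)
    have hc := memLocalRing_inv hM ((locRing hM).sub_mem (memLocalRing_centralChar hM χ.2 g)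
      (memLocalRing_centralChar hM φ.2 g)) hg
    let z₁ := (a - b)⁻¹ • (classSum g - b • 1)
    have hz₁ : IsCentralElt z₁ :=
      ((isCentralElt_classSum g).sub (IsCentralElt.one.smul b)).smul _
    have hom : ∀ ψ : IrrCharacter G,
        omega (ψ : G → ℂ) z₁ = (a - b)⁻¹ * (centralChar (ψ : G → ℂ) g - b) := fun ψ => by
      rw [omega_smul, omega_sub, omega_smul, omega_one ψ.2, mul_one,
        omega_classSum (IsIrr.isClassFunction ψ.2)]
    refine ⟨z₁ * z, hz₁.mul hz, ?_, ?_, ?_⟩
    · exact (IsIntElt.smul hM hc ((isIntElt_classSum hM g).sub hM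
        ((isIntElt_one hM).smul hM (memLocalRing_centralChar hM φ.2 g)))).mul hM hzi
    · rw [omega_mul χ.2 hz₁, hom, hz1, mul_one]
      exact inv_mul_cancel₀ hab
    · intro ψ hψ
      rw [omega_mul ψ.2 hz₁, hom]
      rcases Finset.mem_insert.1 hψ with rfl | hψ
      · simp [b]
      · rw [hz0 ψ hψ, mul_zero]

/-- The block idempotent has local integral coefficients. -/
theorem isIntElt_blockElem (hM : IsPModular p M) {B : Set (IrrCharacter G)} (hB : IsPBlock M B) :
    IsIntElt M (blockElem B) := by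
  classical
  obtain ⟨χ, rfl⟩ := hB
  set B := blockOf M (χ : G → ℂ) with hBdef
  obtain ⟨u, hu, hui, hu1, hu0⟩ := exists_separator hM χ (Finset.univ.filter (· ∉ B))
    fun ψ hψ => (Finset.mem_filter.1 hψ).2
  have key : ∀ S : Finset (IrrCharacter G), (∀ ψ ∈ S, ψ ∈ B) →
      ∃ w : MonoidAlgebra ℂ G, IsCentralElt w ∧ IsIntElt M w ∧
        (∀ ψ : IrrCharacter G, ψ ∉ B → omega (ψ : G → ℂ) w = 1) ∧
        ∀ ψ ∈ S, omega (ψ : G → ℂ) w = 0 := by
    intro S
    induction S using Finset.induction with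
    | empty => exact fun _ => ⟨1, IsCentralElt.one, isIntElt_one hM, fun ψ _ => omega_one ψ.2, by simp⟩
    | insert φ S _ ih =>
      intro hS
      obtain ⟨w, hw, hwi, hw1, hw0⟩ := ih fun ψ hψ => hS ψ (Finset.mem_insert_of_mem hψ)
      set a := omega (φ : G → ℂ) u with ha
      have hau : ¬ MemLocalIdeal M a := by
        intro h
        refine not_memLocalIdeal_one hM ?_
        have := omega_congr hM (IsIrr.isClassFunction χ.2) (IsIrr.isClassFunction φ.2)
          (hS φ (Finset.mem_insert_self φ S)) hu hui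
        rw [hu1] at this
        simpa [← ha] using memLocalIdeal_add hM this h
      have ha0 : a ≠ 0 := fun h => hau (h ▸ memLocalIdeal_zero hM)
      let w₁ := 1 - a⁻¹ • u
      have hw₁ : IsCentralElt w₁ := IsCentralElt.one.sub (hu.smul _)
      have hom : ∀ ψ : IrrCharacter G, omega (ψ : G → ℂ) w₁ = 1 - a⁻¹ * omega (ψ : G → ℂ) u :=
        fun ψ => by rw [omega_sub, omega_smul, omega_one ψ.2]
      refine ⟨w₁ * w, hw₁.mul hw, ?_, fun ψ hψ => ?_, fun ψ hψ => ?_⟩
      · exact ((isIntElt_one hM).sub hM (hui.smul hM (memLocalRing_inv hM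
          (memLocalRing_omega hM φ.2 hu hui) hau))).mul hM hwi
      · rw [omega_mul ψ.2 hw₁, hom, hw1 ψ hψ, hu0 ψ (Finset.mem_filter.2 ⟨Finset.mem_univ _, hψ⟩)]
        ring
      · rw [omega_mul ψ.2 hw₁, hom]
        rcases Finset.mem_insert.1 hψ with rfl | hψ
        · rw [← ha, inv_mul_cancel₀ ha0, sub_self, zero_mul]
        · rw [hw0 ψ hψ, mul_zero]
  obtain ⟨w, hw, hwi, hw1, hw0⟩ := key (Finset.univ.filter (· ∈ B)) fun ψ hψ => (Finset.mem_filter.1 hψ).2
  have : blockElem B = 1 - w := eq_of_omega_eq (isCentralElt_blockElem B) (IsCentralElt.one.sub hw)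
    fun ψ => by
      rw [omega_blockElem, omega_sub, omega_one ψ.2]
      split_ifs with h
      · rw [hw0 ψ (Finset.mem_filter.2 ⟨Finset.mem_univ _, h⟩), sub_zero]
      · rw [hw1 ψ h, sub_self]
  rw [this]
  exact (isIntElt_one hM).sub hM hwi

omit [Fintype G] in
/-- Block idempotent coefficients are local integers. -/
theorem memLocalRing_blockCoeff [Finite G] (hM : IsPModular p M) {B : Set (IrrCharacter G)}
    (hB : IsPBlock M B) (g : G) : MemLocalRing M (blockCoeff B g) := by
  cases nonempty_fintype G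
  rw [← coeff_blockElem]
  exact isIntElt_blockElem hM hB g

/-- A set with locally integral idempotent is a union of blocks. -/
theorem blockOf_subset (hM : IsPModular p M) {A : Set (IrrCharacter G)}
    (hA : ∀ g, MemLocalRing M (blockCoeff A g)) {χ : IrrCharacter G} (hχ : χ ∈ A) :
    blockOf M (χ : G → ℂ) ⊆ A := by
  intro ψ hψ
  by_contra h
  have := omega_congr hM (IsIrr.isClassFunction χ.2) (IsIrr.isClassFunction ψ.2) hψ
    (isCentralElt_blockElem A) (fun g => by rw [coeff_blockElem]; exact hA g)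
  classical
  rw [omega_blockElem, omega_blockElem, if_pos hχ, if_neg h, sub_zero] at this
  exact not_memLocalIdeal_one hM this

end Cfsg.Agent.BlockBasic
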