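import Cfsg.Agent.S4670
import Cfsg.Agent.BlockBasic.Cover
import Cfsg.Agent.H82.PairConj
import Cfsg.Prelude.Def_BlockLocal

/-!
# Block induction inside a subgroup, and uniqueness of correspondents
-/

open scoped ComplexConjugate
open MonoidAlgebra

namespace Cfsg.Agent.BlockBasic

open CharBasic

universe u

variable {G : Type u} [Group G] [Fintype G] {p : ℕ} {M : Ideal AlgInt}
variable {K L : Subgroup G} [Fintype K] [Fintype L] [Fintype (K.subgroupOf L)]

omit [Fintype (K.subgroupOf L)] [Fintype L] [Fintype K] in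
/-- Transported characters lie in the same block exactly when the characters do. -/
lemma sameBlock_pullChar_iff (hKL : K ≤ L) (ξ ξ' : IrrCharacter K) :
    SameBlock M (pullChar hKL ξ : K.subgroupOf L → ℂ) (pullChar hKL ξ' : K.subgroupOf L → ℂ) ↔
      SameBlock M (ξ : K → ℂ) (ξ' : K → ℂ) := by
  set e := Subgroup.subgroupOfEquivOfLe hKL
  have h1 : ∀ (φ : IrrCharacter K) (x : K.subgroupOf L),
      centralChar (pullChar hKL φ : K.subgroupOf L → ℂ) x = centralChar (φ : K → ℂ) (e x) :=
    fun φ x => H83.centralChar_comp_equiv e (φ : K → ℂ) x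
  constructor
  · intro h k
    have := h (e.symm k)
    rwa [h1, h1, e.apply_symm_apply] at this
  · intro h x
    rw [h1, h1]
    exact h _

/-- Induction inside a subgroup is induction in the subgroup as a group. -/
lemma inducedCentralCharIn_eq (hKL : K ≤ L) (ξ : IrrCharacter K) (h : L) :
    inducedCentralCharIn L K (ξ : K → ℂ) (h : G) =
      inducedCentralChar (K.subgroupOf L) (pullChar hKL ξ : K.subgroupOf L → ℂ) h := by
  unfold inducedCentralCharIn inducedCentralChar
  set e := Subgroup.subgroupOfEquivOfLe hKL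
  refine (finsum_mem_eq_of_bijOn e ⟨fun x hx => ?_, e.injective.injOn, fun k hk => ?_⟩
    fun x _ => ?_).symm
  · obtain ⟨c, hc⟩ := isConj_iff.1 hx
    refine ⟨c⁻¹, ?_⟩
    have hc' : ((x : L) : G) = (c : G) * h * (c : G)⁻¹ := by rw [← hc]; simp
    show ((c⁻¹ : L) : G) * ((x : L) : G) * ((c⁻¹ : L) : G)⁻¹ = h
    rw [hc']
    push_cast
    group
  · obtain ⟨x, hx⟩ := hk
    refine ⟨e.symm k, isConj_iff.2 ⟨x⁻¹, Subtype.ext ?_⟩, e.apply_symm_apply k⟩
    show ((x⁻¹ : L) : G) * h * ((x⁻¹ : L) : G)⁻¹ = (k : G)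
    rw [← hx]
    push_cast
    group
  · show (ξ : K → ℂ) (e x) / (ξ : K → ℂ) (e 1) = _
    rw [map_one]

/-- Block induction inside a subgroup, read inside that subgroup. -/
theorem isInducedBlockIn_iff (hM : IsPModular p M) (hKL : K ≤ L) (ξ : IrrCharacter K)
    (d : Set (IrrCharacter L)) :
    IsInducedBlockIn M L K (blockOf M (ξ : K → ℂ)) d ↔
      IsInducedBlock M (K.subgroupOf L) (blockOf M (pullChar hKL ξ : K.subgroupOf L → ℂ)) d := by
  constructor
  · rintro ⟨-, hd, h⟩
    refine ⟨isPBlock_blockOf M _, hd, fun η hη χ hχ g => ?_⟩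
    obtain ⟨ξ', rfl⟩ := pullChar_surjective hKL η
    rw [← inducedCentralCharIn_eq hKL]
    exact h ξ' ((sameBlock_pullChar_iff hKL ξ ξ').1 hη) χ hχ g
  · rintro ⟨-, hd, h⟩
    refine ⟨isPBlock_blockOf M _, hd, fun ξ' hξ' χ hχ g => ?_⟩
    rw [inducedCentralCharIn_eq hKL]
    exact h _ ((sameBlock_pullChar_iff hKL ξ ξ').2 hξ') χ hχ g

omit [Fintype L] [Fintype (K.subgroupOf L)] in
/-- The congruence of an induced block on central elements. -/
theorem omega_congr_of_induced (hM : IsPModular p M) {b : Set (IrrCharacter K)}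
    {B : Set (IrrCharacter G)} (hind : IsInducedBlock M K b B) {ξ : IrrCharacter K} (hξ : ξ ∈ b)
    {χ : IrrCharacter G} (hχ : χ ∈ B) {z : MonoidAlgebra ℂ G} (hz : IsCentralElt z)
    (hzi : IsIntElt M z) :
    MemLocalIdeal M (omega (ξ : K → ℂ) (resMap K z) - omega (χ : G → ℂ) z) := by
  haveI : Finite (ConjClasses G) := Finite.of_surjective _ ConjClasses.mk_surjective
  haveI : Fintype (ConjClasses G) := Fintype.ofFinite _
  have h1 : omega (ξ : K → ℂ) (resMap K z) =
      ∑ C : ConjClasses G, z.coeff C.out * inducedCentralChar K (ξ : K → ℂ) C.out := by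
    conv_lhs => rw [eq_sum_classSum hz]
    simp only [← omega_resMap_classSum, omega, chiLin, coeff_resMap, coeff_sum,
      Finsupp.finsetSum_apply, coeff_smul_apply, smul_eq_mul, Finset.sum_mul, Finset.sum_div]
    rw [Finset.sum_comm]
    refine Finset.sum_congr rfl fun C _ => ?_
    rw [Finset.mul_sum]
    exact Finset.sum_congr rfl fun n _ => by ring
  rw [h1, omega_eq_sum_classes (IsIrr.isClassFunction χ.2) hz, ← Finset.sum_sub_distrib]
  refine memLocalIdeal_sum hM _ _ fun C _ => ?_
  rw [← mul_sub]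
  exact memLocalIdeal_mul hM (hzi _) (hind.2.2 ξ hξ χ hχ _)

omit [Fintype L] in
/-- A function on `K` seen inside `L`. -/
lemma omega_pullChar (hKL : K ≤ L) (ξ : IrrCharacter K)
    (z : MonoidAlgebra ℂ G) :
    omega (pullChar hKL ξ : K.subgroupOf L → ℂ) (resMap (K.subgroupOf L) (resMap L z)) =
      omega (ξ : K → ℂ) (resMap K z) := by
  set e := Subgroup.subgroupOfEquivOfLe hKL
  have h1 : ∀ x : K.subgroupOf L, (pullChar hKL ξ : K.subgroupOf L → ℂ) x = (ξ : K → ℂ) (e x) :=
    fun _ => rfl
  simp only [omega, chiLin, h1, map_one, coeff_resMap]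
  congr 1
  exact Fintype.sum_equiv e.toEquiv _ _ fun x => rfl

/-- Induced central characters are transitive. -/
theorem inducedCentralChar_trans (hM : IsPModular p M) (hKL : K ≤ L) {ξ : IrrCharacter K}
    {d : Set (IrrCharacter L)}
    (hind : IsInducedBlock M (K.subgroupOf L) (blockOf M (pullChar hKL ξ : K.subgroupOf L → ℂ)) d)
    {θ : IrrCharacter L} (hθ : θ ∈ d) (g : G) :
    MemLocalIdeal M (inducedCentralChar K (ξ : K → ℂ) g - inducedCentralChar L (θ : L → ℂ) g) := by
  have h := omega_congr_of_induced hM hind (self_mem_blockOf hM _) hθ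
    (isCentralElt_resMap (H := L) (isCentralElt_classSum g))
    (isIntElt_resMap (isIntElt_classSum hM g))
  rwa [omega_pullChar hKL, omega_resMap_classSum, omega_resMap_classSum] at h

/-- A constituent gives the induced central character on classes meeting `L` inside `K`. -/
theorem inducedCentralChar_eq_of_constituent (hKL : K ≤ L) (ψ : IrrCharacter L)
    (ξ : IrrCharacter K)
    (h : classInner (fun k : K => (ψ : L → ℂ) (Subgroup.inclusion hKL k)) (ξ : K → ℂ) ≠ 0)
    {g : G} (hg : ∀ x : L, IsConj g (x : G) → (x : G) ∈ K) :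
    inducedCentralChar L (ψ : L → ℂ) g = inducedCentralChar K (ξ : K → ℂ) g := by
  classical
  rw [← omega_resMap_classSum, ← omega_resMap_classSum, ← omega_pullChar hKL]
  refine omega_eq_omega_resMap ψ (pullChar hKL ξ) ?_ (isCentralElt_resMap (isCentralElt_classSum g))
    fun x hx => ?_
  · convert h using 1
    simp only [classInner_def, Nat.card_congr (Subgroup.subgroupOfEquivOfLe hKL).toEquiv]
    congr 1
    exact Fintype.sum_equiv (Subgroup.subgroupOfEquivOfLe hKL).toEquiv _ _ fun n => rfl
  · simp only [coeff_resMap, classSum, coeff_ofFun]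
    exact if_neg fun hc => hx (Subgroup.mem_subgroupOf.2 (hg x hc))

variable [Fact p.Prime]

omit [Fintype K] [Fintype L] [Fintype (K.subgroupOf L)] in
/-- A block of `H ⊇ N(D)` with defect group `D` inducing `B` makes `D` a defect group of `B`
and is the Brauer correspondent. -/
theorem defect_data_of_induced (hM : IsPModular p M) {D H : Subgroup G} [Fintype H]
    (hD : IsPGroup p D) (hH : Subgroup.normalizer (D : Set G) ≤ H) {c : Set (IrrCharacter H)}
    (hcD : IsDefectGroup p M c (D.subgroupOf H)) {B : Set (IrrCharacter G)}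
    (hind : IsInducedBlock M H c B) :
    IsDefectGroup p M B D ∧ ∀ x ∈ Subgroup.centralizer (D : Set G),
      MemLocalIdeal M (blockCoeff B x - subgroupBlockCoeff H c x) := by
  classical
  haveI := Fintype.ofFinite ↥(D ⊔ Subgroup.centralizer (D : Set G))
  haveI := Fintype.ofFinite ↥((D ⊔ Subgroup.centralizer (D : Set G)).subgroupOf H)
  have S : LocalPair p D (D ⊔ Subgroup.centralizer (D : Set G)) H :=
    ⟨hD, le_sup_left, le_sup_right, sup_centralizer_le_normalizer D,
      normalizer_le_normalizer_sup D, hH⟩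
  have S' := S.sub
  obtain ⟨h, hloc, hh⟩ := exists_localClass hcD
  obtain ⟨η, hη⟩ := exists_root hM S'.isPGroup S'.le S'.centralizer_le S'.le_normalizer hind.1
    hloc.1 hh.2.1
  obtain ⟨ξ, rfl⟩ := pullChar_surjective S.le_sub η
  obtain ⟨B₁, hB₁⟩ := inducedBlockDefined hM hD S.le S.centralizer_le S.le_normalizer
    (isPBlock_blockOf M ξ)
  obtain rfl := isInducedBlock_unique hM (inducedBlock_of_pair hM S hB₁ hη) hind
  have hBD := isDefectGroup_up hM S hB₁ hη hcD
  exact ⟨hBD, fun x hx => coeff_congr_of_pair hM S hB₁ hη hBD hx⟩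

omit [Fintype K] [Fintype L] [Fintype (K.subgroupOf L)] in
/-- Blocks of `H ⊇ N(D)` with defect group `D` are determined by their induced blocks. -/
theorem eq_of_induced (hM : IsPModular p M) {D H : Subgroup G} [Fintype H]
    (hD : IsPGroup p D) (hH : Subgroup.normalizer (D : Set G) ≤ H) {c c' : Set (IrrCharacter H)}
    (hcD : IsDefectGroup p M c (D.subgroupOf H)) (hcD' : IsDefectGroup p M c' (D.subgroupOf H))
    {B : Set (IrrCharacter G)} (hind : IsInducedBlock M H c B)
    (hind' : IsInducedBlock M H c' B) : c = c' := by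
  obtain ⟨hBD, h⟩ := defect_data_of_induced hM hD hH hcD hind
  obtain ⟨-, h'⟩ := defect_data_of_induced hM hD hH hcD' hind'
  exact ((S4670.result p M hM D H hD hH).1 B hind.2.1 hBD).unique ⟨hind.1, hcD, h⟩
    ⟨hind'.1, hcD', h'⟩

omit [Fintype K] [Fintype L] [Fintype (K.subgroupOf L)] in
/-- A normal `p`-subgroup of the order of a defect group is the defect group. -/
theorem isDefectGroup_of_normal_card (hM : IsPModular p M) {B : Set (IrrCharacter G)}
    (hB : IsPBlock M B) (Q : Subgroup G) [Q.Normal] (hQ : IsPGroup p Q)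
    (hcard : p ^ blockDefect p B ≤ Nat.card Q) : IsDefectGroup p M B Q := by
  obtain ⟨g, hg⟩ := exists_isDefectClass (p := p) hM hB
  have hD : IsDefectGroup p M B (H35.sylImage (default : Sylow p (Subgroup.centralizer ({g} : Set G)))) :=
    ⟨g, hg, default, rfl⟩
  have h := Subgroup.eq_of_le_of_card_ge (H35.le_defectGroup_of_normal hM hB hD Q hQ)
    (by rwa [H35.card_defectGroup hM hB hD])
  exact h ▸ hD

end Cfsg.Agent.BlockBasic
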