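import Cfsg.Agent.BlockBasic.CoverDefect

/-!
# Covering blocks of maximal defect over an invariant block
-/

open scoped ComplexConjugate
open MonoidAlgebra

namespace Cfsg.Agent.BlockBasic

open CharBasic

universe u

variable {G : Type u} [Group G] {p : ℕ} {M : Ideal AlgInt}

/-- A union of blocks with a unit coefficient contains a block with a unit coefficient. -/
theorem exists_blockCoeff_ne_of_union [Finite G] (hM : IsPModular p M) {A : Set (IrrCharacter G)}
    (hA : ∀ χ ∈ A, blockOf M (χ : G → ℂ) ⊆ A) {x : G}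
    (hx : ¬ MemLocalIdeal M (blockCoeff A x)) :
    ∃ χ ∈ A, ¬ MemLocalIdeal M (blockCoeff (blockOf M (χ : G → ℂ)) x) := by
  classical
  by_contra hc
  push Not at hc
  apply hx
  let blocks : Finset (Set (IrrCharacter G)) :=
    (Finset.univ.filter (· ∈ A)).image (fun φ : IrrCharacter G => blockOf M (φ : G → ℂ))
  have hsplit : blockCoeff A x = ∑ β ∈ blocks, blockCoeff β x := by
    simp only [blockCoeff, finsum_mem_eq_sum_ite, ← Finset.mul_sum]
    congr 1
    rw [Finset.sum_comm]
    refine Finset.sum_congr rfl fun φ _ => ?_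
    split_ifs with hφ
    · rw [Finset.sum_eq_single (blockOf M (φ : G → ℂ))]
      · rw [if_pos (self_mem_blockOf hM φ)]
      · intro β hβ hne
        rw [if_neg]
        intro hmem
        obtain ⟨ψ, -, rfl⟩ := Finset.mem_image.1 hβ
        exact hne (blockOf_eq_of_sameBlock hM hmem)
      · intro hn
        exact absurd (Finset.mem_image.2 ⟨φ, by simp [hφ], rfl⟩) hn
    · symm
      refine Finset.sum_eq_zero fun β hβ => ?_
      rw [if_neg]
      intro hmem
      obtain ⟨ψ, hψ, rfl⟩ := Finset.mem_image.1 hβ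
      exact hφ (hA ψ (Finset.mem_filter.1 hψ).2 hmem)
  rw [hsplit]
  refine memLocalIdeal_sum hM _ _ fun β hβ => ?_
  obtain ⟨ψ, hψ, rfl⟩ := Finset.mem_image.1 hβ
  exact hc ψ (Finset.mem_filter.1 hψ).2

variable [Fintype G] {N : Subgroup G} [hN : N.Normal] [Fintype N]

/-- The characters over the orbit of `θ` form a union of blocks. -/
lemma omega_orbitElem_eq (hM : IsPModular p M) (θ : IrrCharacter N) (χ : IrrCharacter G) :
    open scoped Classical in
    omega (χ : G → ℂ) (orbitElem N M θ) = if ∃ φ ∈ twistOrbit N M θ,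
      classInner (fun n : N => (χ : G → ℂ) n) (φ : N → ℂ) ≠ 0 then 1 else 0 := by
  classical
  obtain ⟨hEc, hEs, hEr, -⟩ := orbitElem_spec N hM θ
  split_ifs with h
  · obtain ⟨φ, hφ, hne⟩ := h
    rw [omega_eq_omega_resMap χ φ hne hEc hEs, hEr, omega_blockElem, if_pos hφ]
  · obtain ⟨φ, hne⟩ := exists_constituent χ N
    rw [omega_eq_omega_resMap χ φ hne hEc hEs, hEr, omega_blockElem, if_neg fun hφ => h ⟨φ, hφ, hne⟩]

/-- Where the induced central character of an invariant block is a unit, the class of `N` carries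
the whole `p`-part of the class size. -/
theorem defectClass_of_unit [Fact p.Prime] (hM : IsPModular p M) {θ : IrrCharacter N}
    (hinv : ∀ d : G, SameBlock M (H80.conjTwist N θ d : N → ℂ) (θ : N → ℂ)) (g : N)
    (hu : ¬ MemLocalIdeal M (inducedCentralChar N (θ : N → ℂ) (g : G))) :
    ¬ MemLocalIdeal M (centralChar (θ : N → ℂ) g) ∧
      ((Subgroup.centralizer ({(g : G)} : Set G)).index).factorization p =
        ((Subgroup.centralizer ({g} : Set N)).index).factorization p := by
  classical
  haveI : Finite (ConjClasses N) := Finite.of_surjective _ ConjClasses.mk_surjective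
  haveI : Fintype (ConjClasses N) := Fintype.ofFinite _
  let T : Finset (ConjClasses N) := Finset.univ.filter fun C => IsConj (g : G) (C.out : N)
  have hS : inducedCentralChar N (θ : N → ℂ) (g : G) =
      ∑ C ∈ T, centralChar (θ : N → ℂ) C.out := by
    rw [← omega_resMap_classSum, omega_eq_sum_classes (IsIrr.isClassFunction θ.2)
      (isCentralElt_resMap (isCentralElt_classSum _)), Finset.sum_filter]
    refine Finset.sum_congr rfl fun C _ => ?_
    rw [coeff_resMap, classSum, coeff_ofFun]
    split_ifs <;> simp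
  have hC : ∀ C ∈ T, MemLocalIdeal M (centralChar (θ : N → ℂ) C.out - centralChar (θ : N → ℂ) g) ∧
      (Subgroup.centralizer ({C.out} : Set N)).index = (Subgroup.centralizer ({g} : Set N)).index := by
    intro C hC
    obtain ⟨d, hd⟩ := isConj_iff.1 (Finset.mem_filter.1 hC).2
    have he : C.out = MulAut.conjNormal d g := Subtype.ext (by simpa using hd.symm)
    refine ⟨by rw [he, ← centralChar_twist]; exact hinv d g, ?_⟩
    rw [he]
    set e := MulAut.conjNormal (H := N) d
    have : (Subgroup.centralizer ({e g} : Set N)) =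
        (Subgroup.centralizer ({g} : Set N)).map e.toMonoidHom := by
      ext y
      rw [Subgroup.mem_map_equiv, Subgroup.mem_centralizer_singleton_iff,
        Subgroup.mem_centralizer_singleton_iff]
      constructor
      · intro hy
        apply e.injective
        simp only [map_mul, MulEquiv.apply_symm_apply]
        exact hy
      · intro hy
        have := congrArg e hy
        simpa only [map_mul, MulEquiv.apply_symm_apply] using this
    rw [this]
    exact Subgroup.index_map_equiv (H := Subgroup.centralizer ({g} : Set N)) e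
  have hsum : MemLocalIdeal M (inducedCentralChar N (θ : N → ℂ) (g : G) -
      (T.card : ℂ) * centralChar (θ : N → ℂ) g) := by
    rw [hS, show (T.card : ℂ) * centralChar (θ : N → ℂ) g =
      ∑ C ∈ T, centralChar (θ : N → ℂ) g by simp, ← Finset.sum_sub_distrib]
    exact memLocalIdeal_sum hM _ _ fun C h => (hC C h).1
  have hprod : ¬ MemLocalIdeal M ((T.card : ℂ) * centralChar (θ : N → ℂ) g) := fun h =>
    hu (by simpa using memLocalIdeal_add hM hsum h)
  rw [memLocalIdeal_mul_iff hM (memLocalRing_natCast hM _) (memLocalRing_centralChar hM θ.2 g),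
    not_or, memLocalIdeal_natCast_iff hM] at hprod
  refine ⟨hprod.2, ?_⟩
  have hcount : (Subgroup.centralizer ({(g : G)} : Set G)).index =
      T.card * (Subgroup.centralizer ({g} : Set N)).index := by
    rw [← card_class]
    have h1 : (Finset.univ.filter fun h => IsConj (g : G) h).card =
        (Finset.univ.filter fun n : N => IsConj (g : G) n).card := by
      symm
      refine Finset.card_bij (fun n _ => (n : G)) (fun n hn => by simpa using hn)
        (fun a _ b _ h => Subtype.ext h) fun h hh => ?_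
      obtain ⟨c, rfl⟩ := isConj_iff.1 (Finset.mem_filter.1 hh).2
      exact ⟨⟨c * g * c⁻¹, hN.conj_mem g g.2 c⟩, by simpa using (Finset.mem_filter.1 hh).2, rfl⟩
    have hout : ∀ n : N, IsConj (ConjClasses.mk n).out n := fun n =>
      ConjClasses.mk_eq_mk_iff_isConj.1 (Quotient.out_eq _)
    have hG : ∀ a b : N, IsConj a b → IsConj (a : G) (b : G) := fun a b h => N.subtype.map_isConj h
    rw [h1, Finset.card_eq_sum_card_fiberwise (f := ConjClasses.mk) (t := T) (fun n hn => by
      simp only [T, Finset.coe_filter, Finset.mem_univ, true_and, Set.mem_ofPred_eq] at hn ⊢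
      exact hn.trans (hG _ _ (hout n).symm)), Finset.sum_congr rfl
      (g := fun _ => (Subgroup.centralizer ({g} : Set N)).index) (fun C hC' => ?_),
      Finset.sum_const, smul_eq_mul]
    rw [← (hC C hC').2, ← card_class C.out]
    congr 1
    ext n
    simp only [Finset.mem_filter, Finset.mem_univ, true_and]
    constructor
    · rintro ⟨-, rfl⟩
      exact hout n
    · intro h
      refine ⟨((Finset.mem_filter.1 hC').2).trans (hG _ _ h), ?_⟩
      rw [← Quotient.out_eq C]
      exact (ConjClasses.mk_eq_mk_iff_isConj.2 h).symm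
  rw [hcount, Nat.factorization_mul (fun h => hprod.1 (by rw [h]; exact dvd_zero p))
    Subgroup.index_ne_zero_of_finite, Finsupp.add_apply,
    Nat.factorization_eq_zero_of_not_dvd hprod.1, zero_add]

/-- A covering block of maximal defect over an invariant block. -/
theorem covering_max_defect [Fact p.Prime] (hM : IsPModular p M)
    {b : Set (IrrCharacter N)} (hb : IsPBlock M b)
    (hinv : ∀ g : G, ∀ θ ∈ b, H80.conjTwist N θ g ∈ b)
    {B : Set (IrrCharacter G)} (hB : IsPBlock M B)
    (hcov : ∃ χ ∈ B, ∃ θ ∈ b, classInner (fun n : N => (χ : G → ℂ) n) (θ : N → ℂ) ≠ 0)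
    (hmax : ∀ B' : Set (IrrCharacter G), IsPBlock M B' →
      (∃ χ ∈ B', ∃ θ ∈ b, classInner (fun n : N => (χ : G → ℂ) n) (θ : N → ℂ) ≠ 0) →
      blockDefect p B' ≤ blockDefect p B)
    {P : Subgroup G} (hP : IsDefectGroup p M B P) :
    ¬ p ∣ (P ⊔ N).index ∧ IsDefectGroup p M b ((P ⊓ N).subgroupOf N) ∧
      blockDefect p B = blockDefect p b + N.index.factorization p := by
  classical
  obtain ⟨χ₀, hχ₀, θ, hθb, hθ⟩ := hcov
  obtain rfl := isPBlock_eq_blockOf hM hb hθb
  have hinv' : ∀ d : G, SameBlock M (H80.conjTwist N θ d : N → ℂ) (θ : N → ℂ) := fun d =>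
    sameBlock_symm (hinv d θ hθb)
  have hO : twistOrbit N M θ = blockOf M (θ : N → ℂ) := by
    ext ψ
    constructor
    · rintro ⟨d, hd⟩
      exact sameBlock_trans hM (sameBlock_symm (hinv' d)) hd
    · intro h
      exact ⟨1, by rw [conjTwist_one]; exact h⟩
  obtain ⟨hEc, hEs, hEr, hEi⟩ := orbitElem_spec N hM θ
  set E := orbitElem N M θ
  haveI : Finite (ConjClasses G) := Finite.of_surjective _ ConjClasses.mk_surjective
  haveI : Fintype (ConjClasses G) := Fintype.ofFinite _
  -- a class of `N` with unit idempotent coefficient and unit central character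
  obtain ⟨C, hEC, hωC⟩ : ∃ C : ConjClasses G, ¬ MemLocalIdeal M (E.coeff C.out) ∧
      ¬ MemLocalIdeal M (centralChar (χ₀ : G → ℂ) C.out) := by
    by_contra hc
    push Not at hc
    have h1 : omega (χ₀ : G → ℂ) E = 1 := by
      rw [omega_orbitElem_eq hM, if_pos ⟨θ, ⟨1, by rw [conjTwist_one]; exact sameBlock_refl hM _⟩, hθ⟩]
    rw [omega_eq_sum_classes (IsIrr.isClassFunction χ₀.2) hEc] at h1
    refine not_memLocalIdeal_one hM (h1 ▸ memLocalIdeal_sum hM _ _ fun C _ => ?_)
    by_cases h : MemLocalIdeal M (E.coeff C.out)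
    · rw [mul_comm]; exact memLocalIdeal_mul hM (memLocalRing_centralChar hM χ₀.2 _) h
    · exact memLocalIdeal_mul hM (hEi _) (hc C h)
  set g₀ := C.out
  have hgN : g₀ ∈ N := by_contra fun h => hEC (by rw [hEs g₀ h]; exact memLocalIdeal_zero hM)
  obtain ⟨hωθ, hidx⟩ := defectClass_of_unit hM hinv' ⟨g₀, hgN⟩
    ((classInner_ne_zero_iff_centralChar χ₀ θ).1 hθ ⟨g₀, hgN⟩ ▸ hωC)
  have hdef : IsDefectClass M (blockOf M (θ : N → ℂ)) ⟨g₀, hgN⟩ := by
    refine ⟨memLocalRing_blockCoeff hM hb _, ?_, fun φ hφ h => hωθ ?_⟩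
    · rw [← hO, ← coeff_blockElem, ← hEr, coeff_resMap]
      exact hEC
    · simpa using memLocalIdeal_add hM (isPBlock_sameBlock hM hb hθb hφ ⟨g₀, hgN⟩) h
  -- a covering block with large defect
  let A : Set (IrrCharacter G) := {χ | ∃ φ ∈ twistOrbit N M θ,
    classInner (fun n : N => (χ : G → ℂ) n) (φ : N → ℂ) ≠ 0}
  have hAE : blockElem A = E := eq_of_omega_eq (isCentralElt_blockElem A) hEc fun χ => by
    rw [omega_blockElem, omega_orbitElem_eq hM]
    by_cases h : χ ∈ A
    · rw [if_pos h, if_pos (show ∃ φ ∈ twistOrbit N M θ, _ from h)]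
    · rw [if_neg h, if_neg (show ¬ ∃ φ ∈ twistOrbit N M θ, _ from h)]
  have hA : ∀ χ ∈ A, blockOf M (χ : G → ℂ) ⊆ A := fun χ hχ =>
    blockOf_subset hM (fun g => by rw [← coeff_blockElem, hAE]; exact hEi g) hχ
  obtain ⟨χ₁, ⟨φ, hφ, hφ₁⟩, hχ₁⟩ := exists_blockCoeff_ne_of_union hM hA (x := g₀)
    (by rw [← coeff_blockElem, hAE]; exact hEC)
  set B₁ := blockOf M (χ₁ : G → ℂ)
  have hB₁ := isPBlock_blockOf M χ₁
  set S : Sylow p (Subgroup.centralizer ({g₀} : Set G)) := default
  obtain ⟨D₁, hD₁, hSD⟩ := H35.exists_defectGroup_ge hM hB₁ hχ₁ (H35.sylImage S)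
    (H35.sylImage_isPGroup S) (H35.sylImage_le S)
  have hp : p.Prime := Fact.out
  have hlow : (Nat.card (Subgroup.centralizer ({g₀} : Set G))).factorization p ≤ blockDefect p B := by
    have h1 := Subgroup.card_le_of_le hSD
    rw [H35.card_sylImage, H35.card_defectGroup hM hB₁ hD₁, Nat.pow_le_pow_iff_right hp.one_lt] at h1
    exact h1.trans (hmax B₁ hB₁ ⟨χ₁, self_mem_blockOf hM χ₁, φ, hO ▸ hφ, hφ₁⟩)
  have hdb := H35.blockDefect_eq hM hb hdef
  have h1 := H35.factorization_index_add (p := p) (⟨g₀, hgN⟩ : N)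
  have h2 := H35.factorization_index_add (p := p) g₀
  have h3 : (Nat.card G).factorization p = N.index.factorization p + (Nat.card N).factorization p := by
    rw [← N.index_mul_card, Nat.factorization_mul Subgroup.index_ne_zero_of_finite
      Nat.card_pos.ne', Finsupp.add_apply]
  -- the intersection with `N`
  have hlow' : blockDefect p (blockOf M (θ : N → ℂ)) + N.index.factorization p ≤ blockDefect p B := by
    change ((Subgroup.centralizer ({(⟨g₀, hgN⟩ : N)} : Set N)).index).factorization p + _ = _ at h1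
    change ((Subgroup.centralizer ({g₀} : Set G)).index).factorization p =
      ((Subgroup.centralizer ({(⟨g₀, hgN⟩ : N)} : Set N)).index).factorization p at hidx
    rw [hdb]
    omega
  obtain ⟨T, hT⟩ : ∃ T : Subgroup N, IsDefectGroup p M (blockOf M (θ : N → ℂ)) T :=
    ⟨_, _, hdef, default, rfl⟩
  obtain ⟨P', hP', hP'N⟩ := exists_defectGroup_inf_eq (Q := T.map N.subtype) hM hb
    (Subgroup.map_subtype_le T) (by
      rwa [Subgroup.subgroupOf, Subgroup.comap_map_eq_self_of_injective N.subtype_injective])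
    hB ⟨χ₀, hχ₀, θ, hθb, hθ⟩
  obtain ⟨c, hc⟩ := H35.defectGroup_le_conj hM hB hP' hP
  have hPc : P = P'.map (MulAut.conj c).toMonoidHom := Subgroup.eq_of_le_of_card_ge hc (by
    rw [Subgroup.card_map_of_injective (MulAut.conj c).injective, H35.card_defectGroup hM hB hP,
      H35.card_defectGroup hM hB hP'])
  have hNc : N.map (MulAut.conj c).toMonoidHom = N := by
    ext x
    refine ⟨?_, fun hx => ⟨c⁻¹ * x * c, by simpa using hN.conj_mem x hx c⁻¹, by simp [mul_assoc]⟩⟩
    rintro ⟨y, hy, rfl⟩
    exact hN.conj_mem y hy c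
  have hcardR : Nat.card (P ⊓ N : Subgroup G) = p ^ blockDefect p (blockOf M (θ : N → ℂ)) := by
    rw [← H35.card_defectGroup hM hb hT, ← Subgroup.card_map_of_injective (f := N.subtype) (K := T) (Subgroup.subtype_injective N),
      ← hP'N, ← Subgroup.card_map_of_injective
        (f := (MulAut.conj c).toMonoidHom) (K := P' ⊓ N) (MulAut.conj c).injective,
      Subgroup.map_inf_eq _ _ _ (MulAut.conj c).injective, ← hPc, hNc]
  have hsup : Nat.card P = Nat.card (P ⊓ N : Subgroup G) * N.relIndex (P ⊔ N) := by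
    rw [Subgroup.relIndex_sup_right, ← Subgroup.inf_relIndex_left, ← Subgroup.relIndex_bot_left,
      ← Subgroup.relIndex_bot_left, Subgroup.relIndex_mul_relIndex _ _ _ bot_le inf_le_left]
  rw [H35.card_defectGroup hM hB hP, hcardR] at hsup
  have hrel := Subgroup.relIndex_mul_index (le_sup_right : N ≤ P ⊔ N)
  have hfac : N.index.factorization p =
      (N.relIndex (P ⊔ N)).factorization p + (P ⊔ N).index.factorization p := by
    rw [← hrel, Nat.factorization_mul
      (show N.relIndex (P ⊔ N) ≠ 0 from Subgroup.index_ne_zero_of_finite)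
      Subgroup.index_ne_zero_of_finite, Finsupp.add_apply]
  have hfac' : blockDefect p B = blockDefect p (blockOf M (θ : N → ℂ)) +
      (N.relIndex (P ⊔ N)).factorization p := by
    have h4 := congrArg (fun k => k.factorization p) hsup
    rw [show ((p ^ blockDefect p B).factorization p) = blockDefect p B by
      rw [hp.factorization_pow, Finsupp.single_eq_same]] at h4
    rw [Nat.factorization_mul (pow_ne_zero _ hp.ne_zero)
      (show N.relIndex (P ⊔ N) ≠ 0 from Subgroup.index_ne_zero_of_finite), Finsupp.add_apply,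
      hp.factorization_pow, Finsupp.single_eq_same] at h4
    exact h4
  refine ⟨fun h => ?_, ?_, by omega⟩
  · have := hp.factorization_pos_of_dvd Subgroup.index_ne_zero_of_finite h
    omega
  · obtain ⟨y, hy, R, hR⟩ := id hP
    have hPy : P ≤ Subgroup.centralizer ({y} : Set G) := hR ▸ H35.sylImage_le R
    have hPp : IsPGroup p P := hR ▸ H35.sylImage_isPGroup R
    obtain ⟨a, ha, hau⟩ : ∃ a : G, (∀ q ∈ P ⊓ N, q * a = a * q) ∧
        ¬ MemLocalIdeal M (E.coeff a) := by
      by_contra hc
      push Not at hc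
      apply hy.2.1
      rw [← coeff_blockElem, ← blockElem_mul_orbitElem hM hB hχ₀ hθ,
        isCentralElt_comm (isCentralElt_blockElem B)]
      exact coeff_mul_mem_of_vanish hM hEi (isIntElt_blockElem hM hB) (hPp.to_le inf_le_left)
        (fun q _ g => hEc g q) (fun q _ g => isCentralElt_blockElem B g q)
        (fun q hq => Subgroup.mem_centralizer_singleton_iff.1 (hPy hq.1)) hc
    have haN : a ∈ N := by_contra fun hn => hau (by rw [hEs a hn]; exact memLocalIdeal_zero hM)
    obtain ⟨D, hD, hRD⟩ := H35.exists_defectGroup_ge hM hb (h := ⟨a, haN⟩)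
      (by rw [← hO, ← coeff_blockElem, ← hEr, coeff_resMap]; exact hau)
      ((P ⊓ N).subgroupOf N) ((hPp.to_le inf_le_left).comap_of_injective N.subtype
        (Subgroup.subtype_injective N)) (by
        intro q hq
        rw [Subgroup.mem_centralizer_singleton_iff]
        exact Subtype.ext (ha q (Subgroup.mem_subgroupOf.1 hq)))
    have := Subgroup.eq_of_le_of_card_ge hRD (by
      rw [H35.card_defectGroup hM hb hD, Nat.card_congr (Subgroup.subgroupOfEquivOfLe inf_le_right).toEquiv,
        hcardR])
    exact this ▸ hD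

end Cfsg.Agent.BlockBasic
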