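import Cfsg.Agent.BlockBasic.Cover
import Cfsg.Agent.H82.PrincipalBlock

/-!
# Kernels of blocks, the congruence criterion on regular classes, normal `p'`-subgroups
-/

open scoped ComplexConjugate
open MonoidAlgebra

namespace Cfsg.Agent.BlockBasic

open CharBasic

universe u

variable {G : Type u} [Group G] [Finite G] {p : ℕ} {M : Ideal AlgInt} [hp : Fact p.Prime]

/-- Congruence on the `p`-regular classes decides the block. -/
theorem sameBlock_of_congr_regular (hM : IsPModular p M) {χ ψ : IrrCharacter G}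
    (h : ∀ g : G, ¬ p ∣ orderOf g →
      MemLocalIdeal M (centralChar (χ : G → ℂ) g - centralChar (ψ : G → ℂ) g)) :
    SameBlock M (χ : G → ℂ) (ψ : G → ℂ) := by
  classical
  cases nonempty_fintype G
  haveI : Finite (ConjClasses G) := Finite.of_surjective _ ConjClasses.mk_surjective
  haveI : Fintype (ConjClasses G) := Fintype.ofFinite _
  set B := blockOf M (χ : G → ℂ)
  have hB : IsPBlock M B := isPBlock_blockOf M χ
  have hc : MemLocalIdeal M (omega (χ : G → ℂ) (blockElem B) - omega (ψ : G → ℂ) (blockElem B)) := by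
    rw [omega_eq_sum_classes (IsIrr.isClassFunction χ.2) (isCentralElt_blockElem B),
      omega_eq_sum_classes (IsIrr.isClassFunction ψ.2) (isCentralElt_blockElem B),
      ← Finset.sum_sub_distrib]
    refine memLocalIdeal_sum hM _ _ fun C _ => ?_
    rw [← mul_sub, coeff_blockElem]
    by_cases hC : p ∣ orderOf C.out
    · rw [blockCoeff_eq_zero_of_singular hM hB hC, zero_mul]; exact memLocalIdeal_zero hM
    · exact memLocalIdeal_mul hM (memLocalRing_blockCoeff hM hB _) (h _ hC)
  rw [omega_blockElem, omega_blockElem, if_pos (self_mem_blockOf hM χ)] at hc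
  by_contra hne
  rw [if_neg (show ψ ∉ B from hne), sub_zero] at hc
  exact not_memLocalIdeal_one hM hc

omit hp in
/-- The kernel of an irreducible character, as the set of `χ g = χ 1`, is a normal subgroup. -/
lemma exists_kernel_subgroup (χ : IrrCharacter G) :
    ∃ K : Subgroup G, K.Normal ∧ ∀ g, g ∈ K ↔ (χ : G → ℂ) g = (χ : G → ℂ) 1 := by
  obtain ⟨n, ρ, hρ, he⟩ := χ.2
  refine ⟨MonoidHom.ker ρ, inferInstance, fun g => ?_⟩
  rw [MonoidHom.mem_ker, Module.End.one_eq_id, ← character_eq_finrank_iff ρ g, ← he, Representation.char_one]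

omit hp in
/-- The kernel of a set of characters as a normal subgroup. -/
lemma exists_blockKer (B : Set (IrrCharacter G)) :
    ∃ K : Subgroup G, K.Normal ∧ (K : Set G) = blockKer B := by
  choose K hK hmem using fun χ : IrrCharacter G => exists_kernel_subgroup χ
  refine ⟨⨅ χ ∈ B, K χ, ?_, ?_⟩
  · exact Subgroup.normal_iInf_normal fun χ => Subgroup.normal_iInf_normal fun _ => hK χ
  · ext g
    simp [blockKer, hmem]

/-- The kernel of a block has order prime to `p`. -/
theorem not_dvd_card_blockKer (hM : IsPModular p M) {B : Set (IrrCharacter G)} (hB : IsPBlock M B)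
    {K : Subgroup G} (hK : (K : Set G) = blockKer B) : ¬ p ∣ Nat.card K := by
  classical
  intro hd
  obtain ⟨x, hx⟩ := exists_prime_orderOf_dvd_card' p hd
  have hxK : (x : G) ∈ blockKer B := hK ▸ x.2
  have hord : p ∣ orderOf (x : G) := by rw [Subgroup.orderOf_coe, hx]
  have h0 := blockKernel_eq_zero_of_regular_of_singular hM hB (g := (1 : G))
    (by rw [orderOf_one, Nat.dvd_one]; exact hp.out.ne_one) hord
  rw [blockKernel, finsum_mem_eq_sum_ite] at h0
  have h1 : ((∑ χ : IrrCharacter G, if χ ∈ B then charDegree (χ : G → ℂ) ^ 2 else 0 : ℕ) : ℂ) = 0 := by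
    rw [← h0, Nat.cast_sum]
    refine Finset.sum_congr rfl fun χ _ => ?_
    split_ifs with h
    · rw [hxK χ h, apply_one_eq_charDegree, Complex.conj_natCast, Nat.cast_pow, sq]
    · simp
  obtain ⟨χ, hχ⟩ := isPBlock_nonempty hM hB
  have := Finset.sum_eq_zero_iff.1 (by exact_mod_cast h1) χ (Finset.mem_univ χ)
  rw [if_pos hχ] at this
  exact (charDegree_pos χ).ne' (eq_zero_of_pow_eq_zero this)

omit hp in
/-- A normal `p'`-subgroup in the kernel of one member is in the kernel of the block. -/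
theorem le_blockKer (hM : IsPModular p M) {χ ψ : IrrCharacter G}
    (h : SameBlock M (χ : G → ℂ) (ψ : G → ℂ)) (L : Subgroup G) [L.Normal] (hL : ¬ p ∣ Nat.card L)
    (hχ : ∀ g ∈ L, (χ : G → ℂ) g = (χ : G → ℂ) 1) {l : G} (hl : l ∈ L) :
    (ψ : G → ℂ) l = (ψ : G → ℂ) 1 := by
  classical
  cases nonempty_fintype G
  refine H82.eq_one_of_sum_ne_zero L ψ.2 (fun hsum => hL ?_) hl
  have hne := irr_one_ne_zero χ.2
  have hne' := irr_one_ne_zero ψ.2
  have h1 := H82.memLocalIdeal_sum_normal hM L
    (f := fun g => (χ : G → ℂ) g / (χ : G → ℂ) 1 - (ψ : G → ℂ) g / (ψ : G → ℂ) 1)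
    (fun g x => by simp only [IsIrr.isClassFunction χ.2 g x, IsIrr.isClassFunction ψ.2 g x])
    (fun g => by
      have := h g
      rwa [centralChar, centralChar, mul_div_assoc, mul_div_assoc, ← mul_sub] at this)
  rw [Finset.sum_sub_distrib, ← Finset.sum_div, ← Finset.sum_div, hsum, zero_div, sub_zero,
    Finset.sum_congr rfl (fun g hg => hχ g (Finset.mem_filter.1 hg).2), Finset.sum_const,
    nsmul_eq_mul, mul_div_assoc, div_self hne, mul_one, memLocalIdeal_natCast_iff hM] at h1
  rwa [Nat.card_eq_fintype_card, Fintype.card_subtype]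

/-- An element of order prime to `p` lies in a normal subgroup of `p`-power index. -/
lemma mem_of_regular {N : Subgroup G} [N.Normal] (hidx : ∃ k : ℕ, N.index = p ^ k) {g : G}
    (hg : ¬ p ∣ orderOf g) : g ∈ N := by
  obtain ⟨k, hk⟩ := hidx
  rw [← QuotientGroup.eq_one_iff, ← orderOf_eq_one_iff]
  refine Nat.eq_one_of_dvd_coprimes (a := p ^ k) (b := orderOf g) ?_ ?_ (orderOf_map_dvd (QuotientGroup.mk' N) g)
  · exact ((hp.out.coprime_iff_not_dvd).2 hg).pow_left k
  · rw [← hk, Subgroup.index_eq_card]; exact orderOf_dvd_natCard _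

omit hp in
/-- Every character of a group of order prime to `p` is alone in its block. -/
lemma eq_of_sameBlock_of_not_dvd {H : Type u} [Group H] [Finite H] [Fact p.Prime]
    (hM : IsPModular p M) (hH : ¬ p ∣ Nat.card H) {θ φ : IrrCharacter H}
    (h : SameBlock M (θ : H → ℂ) (φ : H → ℂ)) : φ = θ := by
  have h1 := (blockOf_eq_singleton_iff hM θ).2
    (fun hd => hH (hd.trans (Nat.div_dvd_of_dvd (charDegree_dvd θ))))
  have : φ ∈ blockOf M (θ : H → ℂ) := h
  rwa [h1] at this

omit hp in
/-- An irreducible character has some constituent on a subgroup. -/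
lemma exists_constituent (χ : IrrCharacter G) (N : Subgroup G) [Fintype N] :
    ∃ θ : IrrCharacter N, classInner (fun n : N => (χ : G → ℂ) n) (θ : N → ℂ) ≠ 0 := by
  by_contra h
  push Not at h
  have := eq_zero_of_classInner_eq_zero (f := fun n : N => (χ : G → ℂ) n)
    (fun a b => IsIrr.isClassFunction χ.2 (a : G) (b : G)) h
  cases nonempty_fintype G
  exact irr_one_ne_zero χ.2 (by simpa using congrFun this 1)

/-- Same block implies common constituents on a normal `p'`-subgroup. -/
theorem constituent_of_sameBlock [Fintype G] (hM : IsPModular p M) {N : Subgroup G} [N.Normal]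
    [Fintype N] (hN : ¬ p ∣ Nat.card N) {χ ψ : IrrCharacter G}
    (h : SameBlock M (χ : G → ℂ) (ψ : G → ℂ)) {θ : IrrCharacter N}
    (hθ : classInner (fun n : N => (χ : G → ℂ) n) (θ : N → ℂ) ≠ 0) :
    classInner (fun n : N => (ψ : G → ℂ) n) (θ : N → ℂ) ≠ 0 := by
  classical
  obtain ⟨φ, hφ⟩ := exists_constituent ψ N
  obtain ⟨d, hd⟩ := exists_twist_sameBlock hM (omega_resMap_congr_of_sameBlock hM h hθ hφ)
  rw [eq_of_sameBlock_of_not_dvd hM hN hd, H80.classInner_res_conjTwist N (IsIrr.isClassFunction ψ.2)]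
  exact hφ

/-- With `p`-power index and `p'`-order, blocks are the sets of characters over a constituent. -/
theorem sameBlock_iff_constituent [Fintype G] (hM : IsPModular p M) {N : Subgroup G} [N.Normal]
    [Fintype N] (hN : ¬ p ∣ Nat.card N) (hidx : ∃ k : ℕ, N.index = p ^ k) (χ ψ : IrrCharacter G) :
    SameBlock M (χ : G → ℂ) (ψ : G → ℂ) ↔ ∃ θ : IrrCharacter N,
      classInner (fun n : N => (χ : G → ℂ) n) (θ : N → ℂ) ≠ 0 ∧
        classInner (fun n : N => (ψ : G → ℂ) n) (θ : N → ℂ) ≠ 0 := by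
  constructor
  · intro h
    obtain ⟨θ, hθ⟩ := exists_constituent χ N
    exact ⟨θ, hθ, constituent_of_sameBlock hM hN h hθ⟩
  · rintro ⟨θ, hχ, hψ⟩
    refine sameBlock_of_congr_regular hM fun g hg => ?_
    have hgN := mem_of_regular hidx hg
    rw [(classInner_ne_zero_iff_centralChar χ θ).1 hχ ⟨g, hgN⟩,
      (classInner_ne_zero_iff_centralChar ψ θ).1 hψ ⟨g, hgN⟩, sub_self]
    exact memLocalIdeal_zero hM

/-- Covering of blocks is a congruence on the classes inside the normal subgroup. -/
theorem covers_iff [Fintype G] (hM : IsPModular p M) {N : Subgroup G} [N.Normal] [Fintype N]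
    {B : Set (IrrCharacter G)} (hB : IsPBlock M B) {b : Set (IrrCharacter N)} (hb : IsPBlock M b) :
    (∃ χ ∈ B, ∃ θ ∈ b, classInner (fun n : N => (χ : G → ℂ) n) (θ : N → ℂ) ≠ 0) ↔
      ∀ χ ∈ B, ∀ θ ∈ b, ∀ n : N,
        MemLocalIdeal M (centralChar (χ : G → ℂ) (n : G) - inducedCentralChar N (θ : N → ℂ) (n : G)) := by
  classical
  constructor
  · rintro ⟨χ₀, hχ₀, θ₀, hθ₀, h⟩ χ hχ θ hθ n
    have h1 := isPBlock_sameBlock hM hB hχ hχ₀ n
    have h2 : MemLocalIdeal M (inducedCentralChar N (θ₀ : N → ℂ) (n : G) -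
        inducedCentralChar N (θ : N → ℂ) (n : G)) := by
      rw [← omega_resMap_classSum, ← omega_resMap_classSum]
      exact omega_congr hM (IsIrr.isClassFunction θ₀.2) (IsIrr.isClassFunction θ.2)
        (isPBlock_sameBlock hM hb hθ₀ hθ) (isCentralElt_resMap (isCentralElt_classSum _))
        (isIntElt_resMap (isIntElt_classSum hM _))
    rw [← (classInner_ne_zero_iff_centralChar χ₀ θ₀).1 h n] at h2
    simpa using memLocalIdeal_add hM h1 h2
  · intro h
    obtain ⟨χ, hχ⟩ := isPBlock_nonempty hM hB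
    obtain ⟨θ, hθ⟩ := isPBlock_nonempty hM hb
    obtain ⟨φ, hφ⟩ := exists_constituent χ N
    obtain ⟨d, hd⟩ := exists_twist_sameBlock hM (θ := θ) (φ := φ) fun n => by
      have := memLocalIdeal_neg (h χ hχ θ hθ n)
      rw [(classInner_ne_zero_iff_centralChar χ φ).1 hφ n, neg_sub] at this
      exact this
    refine ⟨χ, hχ, H80.conjTwist N φ d, ?_, ?_⟩
    · rw [isPBlock_eq_blockOf hM hb hθ]
      exact sameBlock_symm hd
    · rw [H80.classInner_res_conjTwist N (IsIrr.isClassFunction χ.2)]
      exact hφ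

end Cfsg.Agent.BlockBasic
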