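import Cfsg.Agent.BlockBasic.CoverDefect
import Cfsg.Agent.H35.BlockInduction
import Cfsg.Agent.H35.ClassDefect

/-!
# Blocks of `P C(P)` and the blocks they induce
-/

open scoped ComplexConjugate
open MonoidAlgebra

namespace Cfsg.Agent.BlockBasic

open CharBasic

universe u

variable {G : Type u} [Group G] {p : ℕ} {M : Ideal AlgInt}

lemma IsCentralHom.map_sum [Finite G] {L : MonoidAlgebra ℂ G → ℂ} (hL : IsCentralHom M L)
    {ι : Type*} (s : Finset ι) (f : ι → MonoidAlgebra ℂ G) :
    L (∑ i ∈ s, f i) = ∑ i ∈ s, L (f i) := by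
  classical
  induction s using Finset.induction with
  | empty => simp [hL.map_zero]
  | insert i s hi ih => rw [Finset.sum_insert hi, Finset.sum_insert hi, hL.map_add, ih]

/-- The elements centralizing `P` for which `P` is a Sylow subgroup of the centralizer. -/
def IsLocalClass (p : ℕ) (P : Subgroup G) (x : G) : Prop :=
  x ∈ Subgroup.centralizer (P : Set G) ∧
    ∃ S : Sylow p (Subgroup.centralizer ({x} : Set G)), H35.sylImage S = P

lemma conj_mem_centralizer_of_normalizer [Finite G] {P : Subgroup G} {n : G}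
    (hn : n ∈ Subgroup.normalizer (P : Set G)) (g : G) :
    n * g * n⁻¹ ∈ Subgroup.centralizer (P : Set G) ↔ g ∈ Subgroup.centralizer (P : Set G) :=
  conj_mem_centralizer_iff (H := Subgroup.normalizer (P : Set G)) le_rfl g ⟨n, hn⟩

lemma conj_mem_subgroup_of_normalizer {L : Subgroup G} {n : G}
    (hn : n ∈ Subgroup.normalizer (L : Set G)) (g : G) : n * g * n⁻¹ ∈ L ↔ g ∈ L :=
  ((Subgroup.mem_normalizer_iff.1 hn) g).symm

variable [Fintype G] [Fact p.Prime] {P L : Subgroup G} [Fintype L]

/-- The central character of a root, composed with the Brauer map, is that of the induced block. -/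
theorem omega_brauerMap_of_induced (hM : IsPModular p M) (hP : IsPGroup p P) (hPL : P ≤ L)
    (hCL : Subgroup.centralizer (P : Set G) ≤ L) (hLN : L ≤ Subgroup.normalizer (P : Set G))
    {b : Set (IrrCharacter L)} {B : Set (IrrCharacter G)} (hind : IsInducedBlock M L b B)
    {ξ : IrrCharacter L} (hξ : ξ ∈ b) {χ : IrrCharacter G} (hχ : χ ∈ B)
    {z : MonoidAlgebra ℂ G} (hz : IsCentralElt z) (hzi : IsIntElt M z) :
    MemLocalIdeal M (omega (ξ : L → ℂ) (brauerMap P L z) - omega (χ : G → ℂ) z) := by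
  haveI : Finite (ConjClasses G) := Finite.of_surjective _ ConjClasses.mk_surjective
  haveI : Fintype (ConjClasses G) := Fintype.ofFinite _
  have hL := isCentralHom_brauer (P := P) hM hP hCL hLN ξ
  have h1 : omega (ξ : L → ℂ) (brauerMap P L z) = ∑ C : ConjClasses G,
      z.coeff C.out * omega (ξ : L → ℂ) (brauerMap P L (classSum C.out)) := by
    conv_lhs => rw [eq_sum_classSum hz]
    rw [hL.map_sum]
    exact Finset.sum_congr rfl fun C _ => hL.map_smul _ _
  rw [h1, omega_eq_sum_classes (IsIrr.isClassFunction χ.2) hz, ← Finset.sum_sub_distrib]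
  refine memLocalIdeal_sum hM _ _ fun C _ => ?_
  rw [← mul_sub, omega_brauerMap_classSum]
  exact memLocalIdeal_mul hM (hzi _)
    ((isInducedBlock_iff hM hP hPL hLN hind.1 hind.2.1).1 hind ξ hξ χ hχ _)

/-- A block of `L` induces `B` exactly when it sees the Brauer image of the idempotent of `B`. -/
theorem induced_iff_brauer_unit (hM : IsPModular p M) (hP : IsPGroup p P) (hPL : P ≤ L)
    (hCL : Subgroup.centralizer (P : Set G) ≤ L) (hLN : L ≤ Subgroup.normalizer (P : Set G))
    {B : Set (IrrCharacter G)} (hB : IsPBlock M B) (ξ : IrrCharacter L) :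
    IsInducedBlock M L (blockOf M (ξ : L → ℂ)) B ↔
      ¬ MemLocalIdeal M (omega (ξ : L → ℂ) (brauerMap P L (blockElem B))) := by
  classical
  obtain ⟨B', hB'⟩ := inducedBlockDefined hM hP hPL hCL hLN (isPBlock_blockOf M ξ)
  obtain ⟨χ, hχ⟩ := isPBlock_nonempty hM hB'.2.1
  have key := omega_brauerMap_of_induced hM hP hPL hCL hLN hB' (self_mem_blockOf hM ξ) hχ
    (isCentralElt_blockElem B) (isIntElt_blockElem hM hB)
  rw [omega_blockElem] at key
  constructor
  · intro h hmem
    obtain rfl := isInducedBlock_unique hM h hB'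
    rw [if_pos hχ] at key
    exact not_memLocalIdeal_one hM (by simpa using memLocalIdeal_sub hM hmem key)
  · intro h
    by_cases hχB : χ ∈ B
    · rwa [isPBlock_eq_of_mem hM hB hB'.2.1 hχB hχ]
    · rw [if_neg hχB, sub_zero] at key
      exact absurd key h

/-- A block not vanishing at an element centralizing `P` has a root in `L`. -/
theorem exists_root (hM : IsPModular p M) (hP : IsPGroup p P) (hPL : P ≤ L)
    (hCL : Subgroup.centralizer (P : Set G) ≤ L) (hLN : L ≤ Subgroup.normalizer (P : Set G))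
    {B : Set (IrrCharacter G)} (hB : IsPBlock M B) {h : G}
    (hhC : h ∈ Subgroup.centralizer (P : Set G)) (hh : ¬ MemLocalIdeal M (blockCoeff B h)) :
    ∃ ξ : IrrCharacter L, IsInducedBlock M L (blockOf M (ξ : L → ℂ)) B := by
  classical
  by_contra hc
  push Not at hc
  apply hh
  set w := brauerMap P L (blockElem B)
  have hwc : IsCentralElt w := isCentralElt_brauerMap hLN (isCentralElt_blockElem B)
  have hwi : IsIntElt M w := isIntElt_brauerMap hM (isIntElt_blockElem hM hB)
  have hidem : ∀ g, MemLocalIdeal M ((w * w).coeff g - w.coeff g) := fun g => by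
    have := brauerMap_mul_congr hM hP hCL (isCentralElt_blockElem B) (isIntElt_blockElem hM hB)
      (isCentralElt_blockElem B) (isIntElt_blockElem hM hB) g
    rw [blockElem_idem] at this
    simpa using memLocalIdeal_neg this
  have h0 : ∀ ξ : IrrCharacter L, MemLocalIdeal M (omega (ξ : L → ℂ) w) := fun ξ =>
    by_contra fun hne => hc ξ ((induced_iff_brauer_unit hM hP hPL hCL hLN hB ξ).2 hne)
  have := H35.coeff_mem_of_omega_mem hM hwc hwi hidem h0 ⟨h, hCL hhC⟩
  rwa [show w.coeff ⟨h, hCL hhC⟩ = (blockElem B).coeff h by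
    simp [w, coeff_brauerMap, hhC], coeff_blockElem] at this

/-- The block induced by a block of `L` does not vanish on the centralizer of `P`. -/
theorem exists_coeff_of_root (hM : IsPModular p M) (hP : IsPGroup p P) (hPL : P ≤ L)
    (hCL : Subgroup.centralizer (P : Set G) ≤ L) (hLN : L ≤ Subgroup.normalizer (P : Set G))
    {B : Set (IrrCharacter G)} (hB : IsPBlock M B) {ξ : IrrCharacter L}
    (hind : IsInducedBlock M L (blockOf M (ξ : L → ℂ)) B) :
    ∃ h ∈ Subgroup.centralizer (P : Set G), ¬ MemLocalIdeal M (blockCoeff B h) := by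
  classical
  by_contra hc
  push Not at hc
  refine (induced_iff_brauer_unit hM hP hPL hCL hLN hB ξ).1 hind (memLocalIdeal_omega hM ξ.2
    (isCentralElt_brauerMap hLN (isCentralElt_blockElem B)) fun x => ?_)
  rw [mul_comm, coeff_brauerMap]
  refine memLocalIdeal_mul hM (memLocalRing_centralChar hM ξ.2 x) ?_
  split_ifs with hx
  · rw [coeff_blockElem]; exact hc _ hx
  · exact memLocalIdeal_zero hM

/-- An invariant element supported on the local classes is, modulo `M`, the Brauer image of a
class function of `G`. -/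
theorem exists_lift_classFunction (hM : IsPModular p M) (hP : IsPGroup p P) (hPL : P ≤ L)
    (hLN : L ≤ Subgroup.normalizer (P : Set G))
    {y : MonoidAlgebra ℂ G} (hyi : IsIntElt M y)
    (hyN : ∀ n ∈ Subgroup.normalizer (P : Set G), ∀ x, y.coeff (n * x * n⁻¹) = y.coeff x)
    (hy0 : ∀ x ∈ Subgroup.centralizer (P : Set G), ¬ IsLocalClass p P x →
      MemLocalIdeal M (y.coeff x)) :
    ∃ F : G → ℂ, IsClassFunction G F ∧ IsIntElt M (ofFun F) ∧
      (∀ x, F x ≠ 0 → ∃ x', IsLocalClass p P x' ∧ IsConj x x') ∧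
      ∀ η : IrrCharacter L, MemLocalIdeal M
        (omega (η : L → ℂ) (resMap L y) - omega (η : L → ℂ) (brauerMap P L (ofFun F))) := by
  classical
  let F : G → ℂ := fun x =>
    if hex : ∃ x', IsLocalClass p P x' ∧ IsConj x x' then y.coeff (Classical.choose hex) else 0
  have hF : ∀ {x x' : G}, IsLocalClass p P x' → IsConj x x' → F x = y.coeff x' := by
    intro x x' hx' hxx'
    have hex : ∃ x'', IsLocalClass p P x'' ∧ IsConj x x'' := ⟨x', hx', hxx'⟩
    simp only [F, dif_pos hex]
    obtain ⟨hc1, hc2⟩ := Classical.choose_spec hex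
    obtain ⟨n, hn, hne⟩ := H35.exists_normalizer_conj hx'.2 hc1.2 (hxx'.symm.trans hc2)
    rw [← hne, hyN n hn]
  have hFc : IsClassFunction G F := by
    intro x c
    have hxc : IsConj x (c * x * c⁻¹) := isConj_iff.2 ⟨c, rfl⟩
    by_cases hex : ∃ x', IsLocalClass p P x' ∧ IsConj x x'
    · obtain ⟨x', h1, h2⟩ := hex
      rw [hF h1 (hxc.symm.trans h2), hF h1 h2]
    · have hex' : ¬ ∃ x', IsLocalClass p P x' ∧ IsConj (c * x * c⁻¹) x' :=
        fun ⟨x', h1, h2⟩ => hex ⟨x', h1, hxc.trans h2⟩
      simp only [F, dif_neg hex, dif_neg hex']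
  have hFi : IsIntElt M (ofFun F) := fun x => by
    simp only [coeff_ofFun, F]
    split_ifs
    exacts [hyi _, (locRing hM).zero_mem]
  refine ⟨F, hFc, hFi, fun x hx => ?_, ?_⟩
  · by_contra hex
    exact hx (dif_neg hex)
  intro η
  rw [← omega_sub]
  have hyc : IsCentralElt (resMap L y) := fun a b => by
    simp only [coeff_resMap, Subgroup.coe_mul, Subgroup.coe_inv]
    exact hyN b (hLN b.2) a
  refine memLocalIdeal_omega hM η.2
    (hyc.sub (isCentralElt_brauerMap hLN (isCentralElt_ofFun hFc))) fun x => ?_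
  by_cases hx : (x : G) ∈ Subgroup.centralizer (P : Set G)
  · rw [mul_comm]
    refine memLocalIdeal_mul hM (memLocalRing_centralChar hM η.2 x) ?_
    rw [coeff_sub, Finsupp.sub_apply, coeff_resMap, coeff_brauerMap, if_pos hx, coeff_ofFun]
    by_cases hl : IsLocalClass p P (x : G)
    · rw [hF hl (IsConj.refl _), sub_self]; exact memLocalIdeal_zero hM
    · have hex : ¬ ∃ x', IsLocalClass p P x' ∧ IsConj (x : G) x' := fun ⟨x', h1, h2⟩ =>
        hl ⟨hx, H35.exists_sylow_of_isConj h1.2 h2.symm hx⟩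
      simp only [F, dif_neg hex, sub_zero]
      exact hy0 _ hx hl
  · haveI : (P.subgroupOf L).Normal :=
      (Subgroup.normal_subgroupOf_iff_le_normalizer hPL).mpr hLN
    refine memLocalIdeal_mul hM ((isIntElt_resMap hyi).sub hM (isIntElt_brauerMap hM hFi) x) ?_
    refine centralChar_mem_of_not_centralizer hM (P.subgroupOf L)
      (hP.comap_of_injective L.subtype (Subgroup.subtype_injective L)) η fun hC => hx ?_
    rw [Subgroup.mem_centralizer_iff] at hC ⊢
    exact fun q hq => congrArg Subtype.val (hC ⟨q, hPL hq⟩ (Subgroup.mem_subgroupOf.2 hq))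


/-- The roots of a block cannot be separated by normalizer-invariant elements. -/
theorem omega_congr_of_roots (hM : IsPModular p M) (hP : IsPGroup p P) (hPL : P ≤ L)
    (hCL : Subgroup.centralizer (P : Set G) ≤ L) (hLN : L ≤ Subgroup.normalizer (P : Set G))
    (hNL : Subgroup.normalizer (P : Set G) ≤ Subgroup.normalizer (L : Set G))
    {B : Set (IrrCharacter G)} {g : G} (hg : IsLocalClass p P g)
    (hu : ∀ χ ∈ B, ¬ MemLocalIdeal M (centralChar (χ : G → ℂ) g))
    {ξ ξ' : IrrCharacter L} (h : IsInducedBlock M L (blockOf M (ξ : L → ℂ)) B)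
    (h' : IsInducedBlock M L (blockOf M (ξ' : L → ℂ)) B)
    {z : MonoidAlgebra ℂ G} (hzs : ∀ x, x ∉ L → z.coeff x = 0) (hzi : IsIntElt M z)
    (hzN : ∀ n ∈ Subgroup.normalizer (P : Set G), ∀ x, z.coeff (n * x * n⁻¹) = z.coeff x) :
    MemLocalIdeal M (omega (ξ : L → ℂ) (resMap L z) - omega (ξ' : L → ℂ) (resMap L z)) := by
  classical
  set K : MonoidAlgebra ℂ G :=
    ofFun fun x => if IsConj g x ∧ x ∈ Subgroup.centralizer (P : Set G) then 1 else 0 with hK
  have hKs : ∀ x, x ∉ L → K.coeff x = 0 := fun x hx => by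
    simp only [hK, coeff_ofFun]; exact if_neg fun h => hx (hCL h.2)
  have hKi : IsIntElt M K := fun x => by
    simp only [hK, coeff_ofFun]
    split_ifs
    exacts [(locRing hM).one_mem, (locRing hM).zero_mem]
  have hKN : ∀ n ∈ Subgroup.normalizer (P : Set G), ∀ x, K.coeff (n * x * n⁻¹) = K.coeff x := by
    intro n hn x
    have h1 : IsConj g (n * x * n⁻¹) ↔ IsConj g x :=
      ⟨fun hh => hh.trans (isConj_iff.2 ⟨n, rfl⟩).symm, fun hh => hh.trans (isConj_iff.2 ⟨n, rfl⟩)⟩
    simp only [hK, coeff_ofFun, h1, conj_mem_centralizer_of_normalizer hn x]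
  have hKres : resMap L K = brauerMap P L (classSum g) := by
    apply coeff_injective; ext x
    simp only [coeff_resMap, coeff_brauerMap, hK, classSum, coeff_ofFun]
    by_cases h1 : IsConj g (x : G) <;> by_cases h2 : (x : G) ∈ Subgroup.centralizer (P : Set G) <;>
      simp [h1, h2]
  set y := K * z
  have hyres : resMap L y = resMap L K * resMap L z := resMap_mul hKs
  have hyi : IsIntElt M y := hKi.mul hM hzi
  have hyN : ∀ n ∈ Subgroup.normalizer (P : Set G), ∀ x, y.coeff (n * x * n⁻¹) = y.coeff x := by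
    intro n hn x
    rw [coeff_mul_apply_left, coeff_mul_apply_left, Finsupp.sum_fintype _ _ (by simp),
      Finsupp.sum_fintype _ _ (by simp)]
    refine (Fintype.sum_equiv (MulAut.conj n).toEquiv _ _ fun a => ?_).symm
    simp only [MulEquiv.toEquiv_eq_coe, EquivLike.coe_coe, MulAut.conj_apply, hKN n hn a]
    rw [show (n * a * n⁻¹)⁻¹ * (n * x * n⁻¹) = n * (a⁻¹ * x) * n⁻¹ by group, hzN n hn]
  -- away from the local classes the product vanishes on the centralizer of `P`
  have hy0 : ∀ x ∈ Subgroup.centralizer (P : Set G), ¬ IsLocalClass p P x →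
      MemLocalIdeal M (y.coeff x) := by
    intro x hx hnot
    set K₀ := Subgroup.centralizer ({x} : Set G) ⊓ Subgroup.normalizer (P : Set G)
    have hPK : P ≤ K₀ := fun q hq => ⟨Subgroup.mem_centralizer_singleton_iff.2
      (Subgroup.mem_centralizer_iff.1 hx q hq), Subgroup.le_normalizer hq⟩
    obtain ⟨T, hT⟩ := (hP.comap_of_injective K₀.subtype
      (Subgroup.subtype_injective K₀)).exists_le_sylow
    set S := (T : Subgroup K₀).map K₀.subtype
    have hSp : IsPGroup p S := T.isPGroup'.map _
    have hSle : S ≤ K₀ := Subgroup.map_subtype_le _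
    have hPS : P ≤ S := fun q hq => ⟨⟨q, hPK hq⟩, hT (Subgroup.mem_subgroupOf.2 hq), rfl⟩
    refine coeff_mul_mem_of_vanish hM hKi hzi hSp (fun q hq => hKN q (hSle hq).2)
      (fun q hq => hzN q (hSle hq).2)
      (fun q hq => Subgroup.mem_centralizer_singleton_iff.1 (hSle hq).1) fun a ha => ?_
    by_cases hne : IsConj g a ∧ a ∈ Subgroup.centralizer (P : Set G)
    swap
    · simp only [hK, coeff_ofFun, if_neg hne]; exact memLocalIdeal_zero hM
    exfalso
    obtain ⟨R, hR⟩ := hg.2
    obtain ⟨e, he⟩ := IsPGroup.iff_card.1 hSp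
    have hSa : Nat.card S ∣ Nat.card (Subgroup.centralizer ({a} : Set G)) :=
      Subgroup.card_dvd_of_le fun q hq => Subgroup.mem_centralizer_singleton_iff.2 (ha q hq)
    rw [he, H35.card_centralizer_eq_of_isConj hne.1,
      (Fact.out : p.Prime).pow_dvd_iff_le_factorization Nat.card_pos.ne'] at hSa
    have hSP : P = S := Subgroup.eq_of_le_of_card_ge hPS (by
      rw [he, ← hR, H35.card_sylImage]
      exact Nat.pow_le_pow_right (Fact.out : p.Prime).pos hSa)
    exact hnot ⟨hx, H35.exists_sylow_of_normalizer ⟨T, hSP.symm⟩⟩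
  obtain ⟨F, hFc, hFi, -, hyF⟩ := exists_lift_classFunction hM hP hPL hLN hyi hyN hy0
  obtain ⟨χ, hχ⟩ := isPBlock_nonempty hM h.2.1
  have hkey : ∀ η : IrrCharacter L, IsInducedBlock M L (blockOf M (η : L → ℂ)) B →
      MemLocalIdeal M (centralChar (χ : G → ℂ) g * omega (η : L → ℂ) (resMap L z) -
        omega (χ : G → ℂ) (ofFun F)) := by
    intro η hη
    have h1 := omega_brauerMap_of_induced hM hP hPL hCL hLN hη (self_mem_blockOf hM η) hχ
      (isCentralElt_ofFun hFc) hFi
    have h2 := omega_brauerMap_of_induced hM hP hPL hCL hLN hη (self_mem_blockOf hM η) hχ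
      (isCentralElt_classSum g) (isIntElt_classSum hM g)
    rw [← hKres, omega_classSum (IsIrr.isClassFunction χ.2)] at h2
    have h3 := hyF η
    have hKc : IsCentralElt (resMap L K) := hKres ▸ isCentralElt_brauerMap hLN (isCentralElt_classSum g)
    rw [hyres, omega_mul η.2 hKc] at h3
    have hzc : IsCentralElt (resMap L z) := fun a b => by
      simp only [coeff_resMap, Subgroup.coe_mul, Subgroup.coe_inv]
      exact hzN b (hLN b.2) a
    have h4 := memLocalIdeal_mul hM
      (memLocalRing_omega hM η.2 hzc (isIntElt_resMap hzi)) h2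
    convert memLocalIdeal_sub hM (memLocalIdeal_add hM h3 h1) h4 using 1
    ring
  have hd := memLocalIdeal_sub hM (hkey ξ h) (hkey ξ' h')
  have hzc : IsCentralElt (resMap L z) := fun a b => by
    simp only [coeff_resMap, Subgroup.coe_mul, Subgroup.coe_inv]
    exact hzN b (hLN b.2) a
  rw [sub_sub_sub_cancel_right, ← mul_sub] at hd
  exact ((memLocalIdeal_mul_iff hM (memLocalRing_centralChar hM χ.2 g)
    ((locRing hM).sub_mem (memLocalRing_omega hM ξ.2 hzc (isIntElt_resMap hzi))
      (memLocalRing_omega hM ξ'.2 hzc (isIntElt_resMap hzi)))).1 hd).resolve_left (hu χ hχ)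

/-- The roots of a block with defect group `P` have defect group `P`. -/
theorem isDefectGroup_root (hM : IsPModular p M) (hP : IsPGroup p P) (hPL : P ≤ L)
    (hLN : L ≤ Subgroup.normalizer (P : Set G)) {B : Set (IrrCharacter G)}
    (hBP : IsDefectGroup p M B P) {b : Set (IrrCharacter L)} (hind : IsInducedBlock M L b B) :
    IsDefectGroup p M b (P.subgroupOf L) := by
  haveI : (P.subgroupOf L).Normal := (Subgroup.normal_subgroupOf_iff_le_normalizer hPL).mpr hLN
  obtain ⟨g, hg⟩ := exists_isDefectClass (p := p) hM hind.1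
  have hD : IsDefectGroup p M b (H35.sylImage (default : Sylow p (Subgroup.centralizer ({g} : Set L)))) :=
    ⟨g, hg, default, rfl⟩
  set D := H35.sylImage (default : Sylow p (Subgroup.centralizer ({g} : Set L)))
  have hle := H35.le_defectGroup_of_normal hM hind.1 hD (P.subgroupOf L)
    (hP.comap_of_injective L.subtype (Subgroup.subtype_injective L))
  obtain ⟨E, hE, hDE⟩ := H35.defectGroup_le_induced hM L hind hD
  have hc := Subgroup.card_le_of_le hDE
  rw [Subgroup.card_map_of_injective L.subtype_injective, H35.card_defectGroup hM hind.2.1 hE,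
    ← H35.card_defectGroup hM hind.2.1 hBP,
    ← Nat.card_congr (Subgroup.subgroupOfEquivOfLe hPL).toEquiv] at hc
  exact (Subgroup.eq_of_le_of_card_ge hle hc).symm ▸ hD

/-- Twisting a character of `L` by an element normalizing `L`. -/
noncomputable def normTwist (ξ : IrrCharacter L) (n : Subgroup.normalizer (L : Set G)) :
    IrrCharacter L :=
  H80.twist ξ (Subgroup.normalizerMonoidHom L n)

omit [Fintype G] [Fintype L] [Fact p.Prime] in
lemma normTwist_apply [Finite G] (ξ : IrrCharacter L) (n : Subgroup.normalizer (L : Set G)) (x : L)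
    (hx : (n : G) * x * (n : G)⁻¹ ∈ L) :
    (normTwist ξ n : L → ℂ) x = (ξ : L → ℂ) ⟨(n : G) * x * (n : G)⁻¹, hx⟩ := by
  show (ξ : L → ℂ) (Subgroup.normalizerMonoidHom L n x) = _
  congr 1

omit [Fintype G] [Fintype L] [Fact p.Prime] in
lemma centralChar_aut {H : Type u} [Group H] [Finite H] (θ : IrrCharacter H) (e : MulAut H) (n : H) :
    centralChar (H80.twist θ e : H → ℂ) n = centralChar (θ : H → ℂ) (e n) := by
  unfold centralChar
  rw [show (H80.twist θ e : H → ℂ) n = (θ : H → ℂ) (e n) from rfl,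
    show (H80.twist θ e : H → ℂ) 1 = (θ : H → ℂ) (e 1) from rfl, map_one]
  congr 2
  have : (Subgroup.centralizer ({e n} : Set H)) =
      (Subgroup.centralizer ({n} : Set H)).map e.toMonoidHom := by
    ext y
    rw [Subgroup.mem_map_equiv, Subgroup.mem_centralizer_singleton_iff,
      Subgroup.mem_centralizer_singleton_iff]
    constructor
    · intro hy
      apply e.injective
      simp only [map_mul, MulEquiv.apply_symm_apply]
      exact hy
    · intro hy
      have := congrArg e hy
      simpa only [map_mul, MulEquiv.apply_symm_apply] using this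
  rw [this]
  exact congrArg Nat.cast (Subgroup.index_map_equiv (H := Subgroup.centralizer ({n} : Set H)) e).symm

omit [Fintype G] [Fintype L] [Fact p.Prime] in
lemma sameBlock_aut {H : Type u} [Group H] [Finite H] {θ φ : IrrCharacter H} (e : MulAut H)
    (h : SameBlock M (θ : H → ℂ) (φ : H → ℂ)) :
    SameBlock M (H80.twist θ e : H → ℂ) (H80.twist φ e : H → ℂ) := fun n => by
  rw [centralChar_aut, centralChar_aut]
  exact h _

omit [Fintype G] [Fintype L] [Fact p.Prime] in
lemma normTwist_normTwist [Finite G] (ξ : IrrCharacter L) (a c : Subgroup.normalizer (L : Set G)) :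
    normTwist (normTwist ξ a) c = normTwist ξ (a * c) := by
  apply Subtype.ext
  funext x
  show (ξ : L → ℂ) (Subgroup.normalizerMonoidHom L a (Subgroup.normalizerMonoidHom L c x)) =
    (ξ : L → ℂ) (Subgroup.normalizerMonoidHom L (a * c) x)
  rw [map_mul]; rfl

omit [Fintype G] [Fintype L] [Fact p.Prime] in
lemma normTwist_one [Finite G] (ξ : IrrCharacter L) : normTwist ξ 1 = ξ := by
  apply Subtype.ext
  funext x
  show (ξ : L → ℂ) (Subgroup.normalizerMonoidHom L 1 x) = _
  rw [map_one]; rfl

omit [Fact p.Prime] in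
/-- Characters not separated by invariant elements lie in conjugate blocks. -/
theorem exists_normTwist_sameBlock (hM : IsPModular p M) (A : Subgroup G)
    (hA : A ≤ Subgroup.normalizer (L : Set G)) {θ φ : IrrCharacter L}
    (h : ∀ z : MonoidAlgebra ℂ G, (∀ x, x ∉ L → z.coeff x = 0) → IsIntElt M z →
      (∀ n ∈ A, ∀ x, z.coeff (n * x * n⁻¹) = z.coeff x) →
      MemLocalIdeal M (omega (θ : L → ℂ) (resMap L z) - omega (φ : L → ℂ) (resMap L z))) :
    ∃ (n : G) (hn : n ∈ A), SameBlock M (normTwist φ ⟨n, hA hn⟩ : L → ℂ) (θ : L → ℂ) := by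
  classical
  let O : Set (IrrCharacter L) :=
    {ψ | ∃ (n : G) (hn : n ∈ A), SameBlock M (normTwist φ ⟨n, hA hn⟩ : L → ℂ) (ψ : L → ℂ)}
  have hOunion : ∀ ψ ∈ O, blockOf M (ψ : L → ℂ) ⊆ O := fun ψ hψ ψ' hψ' =>
    hψ.elim fun n h' => h'.elim fun hn hd => ⟨n, hn, sameBlock_trans hM hd hψ'⟩
  have hmem : ∀ (ψ : IrrCharacter L) (c : G) (hc : c ∈ A), ψ ∈ O →
      normTwist ψ ⟨c, hA hc⟩ ∈ O := by
    rintro ψ c hc ⟨n, hn, hd⟩
    refine ⟨n * c, A.mul_mem hn hc, ?_⟩
    rw [show (⟨n * c, hA (A.mul_mem hn hc)⟩ : Subgroup.normalizer (L : Set G)) =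
      ⟨n, hA hn⟩ * ⟨c, hA hc⟩ from rfl, ← normTwist_normTwist]
    exact sameBlock_aut _ hd
  have hinv : ∀ (c : G) (hc : c ∈ A) (x : L),
      blockCoeff O (Subgroup.normalizerMonoidHom L ⟨c, hA hc⟩ x) = blockCoeff O x := by
    intro c hc x
    unfold blockCoeff
    congr 1
    rw [finsum_mem_eq_sum_ite, finsum_mem_eq_sum_ite]
    refine Fintype.sum_equiv (⟨fun ψ => normTwist ψ ⟨c, hA hc⟩, fun ψ => normTwist ψ ⟨c, hA hc⟩⁻¹,
      fun ψ => by simp [normTwist_normTwist, normTwist_one],
      fun ψ => by simp [normTwist_normTwist, normTwist_one]⟩ :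
        IrrCharacter L ≃ IrrCharacter L) _ _ fun ψ => ?_
    have hiff : normTwist ψ ⟨c, hA hc⟩ ∈ O ↔ ψ ∈ O := by
      refine ⟨fun h' => ?_, hmem ψ c hc⟩
      have := hmem _ c⁻¹ (A.inv_mem hc) h'
      rwa [show (⟨c⁻¹, hA (A.inv_mem hc)⟩ : Subgroup.normalizer (L : Set G)) = ⟨c, hA hc⟩⁻¹ from rfl,
        normTwist_normTwist, mul_inv_cancel, normTwist_one] at this
    simp only [Equiv.coe_fn_mk, hiff]
    split_ifs
    · show _ = (ψ : L → ℂ) (Subgroup.normalizerMonoidHom L ⟨c, hA hc⟩ 1) *
        conj ((ψ : L → ℂ) (Subgroup.normalizerMonoidHom L ⟨c, hA hc⟩ x))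
      rw [map_one]
    · rfl
  let z : MonoidAlgebra ℂ G := ofFun fun g => if hg : g ∈ L then blockCoeff O ⟨g, hg⟩ else 0
  have hres : resMap L z = blockElem O := by
    apply coeff_injective; ext x
    simp [coeff_resMap, z, coeff_blockElem]
  have hc := h z (fun x hx => by simp [z, hx]) (fun x => by
      simp only [z, coeff_ofFun]
      split_ifs with hx
      · rw [← coeff_blockElem]; exact isIntElt_blockElem_of_union hM hOunion _
      · exact (locRing hM).zero_mem) (fun c hc x => by
      simp only [z, coeff_ofFun]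
      by_cases hx : x ∈ L
      · rw [dif_pos hx, dif_pos ((conj_mem_subgroup_of_normalizer (hA hc) x).2 hx)]
        exact hinv c hc ⟨x, hx⟩
      · rw [dif_neg hx, dif_neg fun hh => hx ((conj_mem_subgroup_of_normalizer (hA hc) x).1 hh)])
  have hφO : φ ∈ O := ⟨1, A.one_mem, by
    rw [show (⟨1, hA A.one_mem⟩ : Subgroup.normalizer (L : Set G)) = 1 from rfl, normTwist_one]
    exact sameBlock_refl hM _⟩
  rw [hres, omega_blockElem, omega_blockElem, if_pos hφO] at hc
  by_contra hne
  rw [if_neg (show θ ∉ O from hne), zero_sub] at hc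
  exact not_memLocalIdeal_one hM (by simpa using memLocalIdeal_neg hc)

omit [Fintype G] [Fintype L] [Fact p.Prime] in
/-- The normalizer of `P` normalizes `P C(P)`. -/
lemma normalizer_le_normalizer_sup [Finite G] (P : Subgroup G) :
    Subgroup.normalizer (P : Set G) ≤
      Subgroup.normalizer ((P ⊔ Subgroup.centralizer (P : Set G) : Subgroup G) : Set G) := by
  intro n hn
  rw [Subgroup.mem_normalizer_iff]
  have key : ∀ m ∈ Subgroup.normalizer (P : Set G),
      (P ⊔ Subgroup.centralizer (P : Set G)).map (MulAut.conj m).toMonoidHom ≤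
        P ⊔ Subgroup.centralizer (P : Set G) := by
    intro m hm
    rw [Subgroup.map_sup]
    refine sup_le_sup ?_ ?_
    · rintro _ ⟨x, hx, rfl⟩
      exact (Subgroup.mem_normalizer_iff.1 hm x).1 hx
    · rintro _ ⟨x, hx, rfl⟩
      exact (conj_mem_centralizer_of_normalizer hm x).2 hx
  intro x
  constructor
  · exact fun hx => key n hn (Subgroup.mem_map_of_mem _ hx)
  · intro hx
    have := key n⁻¹ (inv_mem hn) (Subgroup.mem_map_of_mem _ hx)
    simpa [mul_assoc] using this

omit [Fintype G] [Fintype L] [Fact p.Prime] in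
lemma sup_centralizer_le_normalizer (P : Subgroup G) :
    P ⊔ Subgroup.centralizer (P : Set G) ≤ Subgroup.normalizer (P : Set G) :=
  sup_le Subgroup.le_normalizer (Subgroup.centralizer_le_normalizer _)

end Cfsg.Agent.BlockBasic

namespace Cfsg.Agent.BlockBasic

/-- A defect class with defect group `P` is a local class for `P`. -/
lemma exists_localClass {G : Type*} [Group G] [Finite G] {p : ℕ} [Fact p.Prime] {M : Ideal AlgInt}
    {B : Set (IrrCharacter G)} {P : Subgroup G} (hP : IsDefectGroup p M B P) :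
    ∃ g, IsLocalClass p P g ∧ IsDefectClass M B g := by
  obtain ⟨g, hg, S, rfl⟩ := hP
  refine ⟨g, ⟨?_, S, rfl⟩, hg⟩
  rw [Subgroup.mem_centralizer_iff]
  exact fun q hq => Subgroup.mem_centralizer_singleton_iff.1 (H35.sylImage_le S hq)

end Cfsg.Agent.BlockBasic
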