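import Cfsg.Agent.H82.PairStab
import Cfsg.Agent.BlockBasic.CentralDefect
import Cfsg.Agent.BlockBasic.DefectInNormal
import Cfsg.Agent.S0969
import Cfsg.Agent.S4657

/-!
# The criterion for a maximal Brauer pair
-/

open scoped ComplexConjugate Pointwise
open MonoidAlgebra

namespace Cfsg.Agent.BlockBasic.MaximalPair

open CharBasic BlockBasic H82

universe u

variable {G : Type u} [Group G] [Fintype G] {p : ℕ} [Fact p.Prime] {M : Ideal AlgInt}

/-- A pair above a pair of `B` is a pair of `B`. -/
theorem isBrauerPairOf_of_ge (hM : IsPModular p M) {B : Set (IrrCharacter G)} {Q P : Subgroup G}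
    {f : Set (IrrCharacter (Subgroup.centralizer (Q : Set G)))}
    {e : Set (IrrCharacter (Subgroup.centralizer (P : Set G)))}
    (hQf : IsBrauerPairOf p M B Q f) (h : IsNormalSubpair p M Q f P e) :
    IsBrauerPairOf p M B P e := by
  obtain ⟨-, hPe, -⟩ := id h
  obtain ⟨ξ, hξ⟩ := isPBlock_nonempty hM hPe.2
  obtain ⟨η, hη⟩ := isPBlock_nonempty hM hQf.1.2
  have hc := isCentralElt_blockElem B
  have h1 := brOmega_congr_of_isNormalSubpair hM h hξ hη (isInvElt_of_isCentralElt hc _)
    (isInvElt_of_isCentralElt hc _) (isIntElt_blockElem hM hQf.2.1)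
  refine isBrauerPairOf_of_mem hM hQf.2.1 hPe hξ ?_
  have := memLocalIdeal_add hM h1 (brOmega_blockElem_of_isBrauerPairOf hQf hη)
  rwa [sub_add_sub_cancel] at this

variable {Q : Subgroup G} {e : Set (IrrCharacter (Subgroup.centralizer (Q : Set G)))}

omit [Fact p.Prime] in
/-- The stabilizer of a Brauer pair. -/
lemma exists_stab (hM : IsPModular p M) (he : IsBrauerPair p M Q e) :
    ∃ T : Subgroup G, ∀ y : G, y ∈ T ↔ y ∈ Subgroup.normalizer (Q : Set G) ∧
      StabilizesBlock (Subgroup.centralizer (Q : Set G)) e y :=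
  ⟨{ carrier := {y | conjPair y ⟨Q, e⟩ = ⟨Q, e⟩}
     one_mem' := conjPair_one _
     mul_mem' := fun {a b} (ha : conjPair a _ = _) (hb : conjPair b _ = _) => by
       show conjPair (a * b) _ = _
       rw [conjPair_mul, hb, ha]
     inv_mem' := fun {a} (ha : conjPair a _ = _) => by
       show conjPair a⁻¹ _ = _
       conv_lhs => rw [← ha, conjPair_inv] }, fun y => (stabilizesBlock_iff_conjPair hM he.2).symm⟩

omit [Fintype G] [Fact p.Prime] in
lemma sup_centralizer_inf (Q : Subgroup G) :
    (Q ⊓ Subgroup.centralizer (Q : Set G)).subgroupOf (Subgroup.centralizer (Q : Set G)) ≤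
      Subgroup.center (Subgroup.centralizer (Q : Set G)) := by
  intro z hz
  rw [Subgroup.mem_center_iff]
  intro c
  exact Subtype.ext (Subgroup.mem_centralizer_iff.1 c.2 z (Subgroup.mem_subgroupOf.1 hz).1).symm

/-- The degree condition against the order of the centre. -/
lemma factorization_iff {C : Subgroup G} {Z : Subgroup G} (hZ : Z ≤ C) (d : ℕ) :
    d + (Nat.card Z).factorization p = (Nat.card C).factorization p ↔
      d = (Z.subgroupOf C).index.factorization p := by
  have h := congrArg (fun n => n.factorization p) (Z.subgroupOf C).card_mul_index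
  simp only [Nat.factorization_mul Nat.card_pos.ne' Subgroup.index_ne_zero_of_finite,
    Finsupp.add_apply, Nat.card_congr (Subgroup.subgroupOfEquivOfLe hZ).toEquiv] at h
  omega

/-- The defect group of the block of a maximal pair. -/
theorem isDefectGroup_of_maximal (hM : IsPModular p M) {B : Set (IrrCharacter G)}
    (hmax : IsMaximalBrauerPair p M B Q e) :
    IsDefectGroup p M e ((Q ⊓ Subgroup.centralizer (Q : Set G)).subgroupOf
      (Subgroup.centralizer (Q : Set G))) := by
  classical
  cases nonempty_fintype (Subgroup.centralizer (Q : Set G))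
  have h := isLocalBlock_centralizer hM hmax.1.1
  refine h.isDefectGroup_inf hM hmax.1.1 Relation.ReflTransGen.refl ?_
  obtain ⟨D, d, hdmax⟩ := exists_maximal hM h.block
  set R := D.map (Subgroup.centralizer (Q : Set G)).subtype with hR
  have hRC : R ≤ (Subgroup.centralizer (Q : Set G)) := Subgroup.map_subtype_le D
  have hDR : D = R.subgroupOf (Subgroup.centralizer (Q : Set G)) :=
    (Subgroup.comap_map_eq_self_of_injective (Subgroup.centralizer (Q : Set G)).subtype_injective D).symm
  obtain ⟨d', hd'⟩ : ∃ d', IsBrauerPairOf p M e (R.subgroupOf (Subgroup.centralizer (Q : Set G))) d' := hDR ▸ ⟨d, hdmax.1⟩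
  have hn := h.exists_normal_of_pair hM hRC (Or.inl le_rfl) hd'
  have heq := hmax.2 _ _ (isBrauerPairOf_of_ge hM hmax.1 hn) (Relation.ReflTransGen.single hn)
  have hRQ : R ≤ Q ⊓ (Subgroup.centralizer (Q : Set G)) := le_inf (sup_eq_left.1 heq) hRC
  calc p ^ blockDefect p e = Nat.card D := (card_of_maximal hM hdmax).symm
    _ = Nat.card R := (Subgroup.card_map_of_injective (Subgroup.centralizer (Q : Set G)).subtype_injective).symm
    _ ≤ Nat.card ↥(Q ⊓ (Subgroup.centralizer (Q : Set G))) := Subgroup.card_le_of_le hRQ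

/-- The stabilizer of a maximal pair has no `p`-elements outside `Q C(Q)`. -/
theorem mem_sup_of_maximal (hM : IsPModular p M) {B : Set (IrrCharacter G)}
    (hmax : IsMaximalBrauerPair p M B Q e) {g : G} (hgN : g ∈ Subgroup.normalizer (Q : Set G))
    (hgs : StabilizesBlock (Subgroup.centralizer (Q : Set G)) e g)
    (hgp : ∃ k, orderOf g = p ^ k) : g ∈ Q ⊔ Subgroup.centralizer (Q : Set G) := by
  classical
  cases nonempty_fintype (Subgroup.centralizer (Q : Set G))
  haveI : Finite (ConjClasses (Subgroup.centralizer (Q : Set G))) := Finite.of_surjective _ ConjClasses.mk_surjective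
  haveI : Fintype (ConjClasses (Subgroup.centralizer (Q : Set G))) := Fintype.ofFinite _
  obtain ⟨hQp, he⟩ := hmax.1.1
  obtain ⟨T, hT⟩ := exists_stab hM hmax.1.1
  have hCT : (Subgroup.centralizer (Q : Set G)) ≤ T := centralizer_le_stab hM he hT
  have hQT : Q ≤ T := le_stab hM he hT
  have hgT : g ∈ T := (hT g).2 ⟨hgN, hgs⟩
  have hTn : T ≤ Subgroup.normalizer ((Subgroup.centralizer (Q : Set G)) : Set G) := fun y hy =>
    normalizer_le_normalizer_centralizer Q ((hT y).1 hy).1
  obtain ⟨θ, hθ⟩ := isPBlock_nonempty hM he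
  set S := Subgroup.zpowers g
  have hST : S ≤ T := Subgroup.zpowers_le.2 hgT
  have hSp : IsPGroup p S := by
    obtain ⟨k, hk⟩ := hgp
    exact IsPGroup.of_card (n := k) (by rw [Nat.card_zpowers, hk])
  let φ : S →* MulAut (Subgroup.centralizer (Q : Set G)) :=
    (Subgroup.normalizerMonoidHom (Subgroup.centralizer (Q : Set G))).comp (Subgroup.inclusion (hST.trans hTn))
  let _ : MulAction S (ConjClasses (Subgroup.centralizer (Q : Set G))) :=
    { smul := fun s K => ConjClasses.map (φ s).toMonoidHom K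
      one_smul := fun K => by
        induction K using Quotient.inductionOn with
        | h a =>
          refine congrArg ConjClasses.mk ?_
          show φ 1 a = a
          rw [map_one]; rfl
      mul_smul := fun a c K => by
        induction K using Quotient.inductionOn with
        | h y =>
          refine congrArg ConjClasses.mk ?_
          show φ (a * c) y = φ a (φ c y)
          rw [map_mul]; rfl }
  have hsmul : ∀ (s : S) (K : ConjClasses (Subgroup.centralizer (Q : Set G))), s • K = ConjClasses.mk (φ s K.out) := fun s K => by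
    conv_lhs => rw [← Quotient.out_eq K]
    rfl
  let F : ConjClasses (Subgroup.centralizer (Q : Set G)) → ℂ := fun K => blockCoeff e K.out * centralChar (θ : (Subgroup.centralizer (Q : Set G)) → ℂ) K.out
  have hout : ∀ a : (Subgroup.centralizer (Q : Set G)), IsConj (ConjClasses.mk a).out a := fun a =>
    ConjClasses.mk_eq_mk_iff_isConj.1 (Quotient.out_eq _)
  have hFi : ∀ K, MemLocalRing M (F K) := fun K =>
    memLocalRing_mul hM (memLocalRing_blockCoeff hM he _) (memLocalRing_centralChar hM θ.2 _)
  have hinv : ∀ (s : S) (K : ConjClasses (Subgroup.centralizer (Q : Set G))), MemLocalIdeal M (F (s • K) - F K) := by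
    intro s K
    simp only [F, hsmul]
    rw [H35.centralChar_eq_of_isConj θ (hout (φ s K.out)).symm,
      H35.blockCoeff_eq_of_isConj e (hout (φ s K.out)).symm]
    have hsT := (hT s).1 (hST s.2)
    have hval : ((φ s K.out : (Subgroup.centralizer (Q : Set G))) : G) = (s : G) * ((K.out : (Subgroup.centralizer (Q : Set G))) : G) * (s : G)⁻¹ := rfl
    have hco : blockCoeff e (φ s K.out) = blockCoeff e K.out := by
      rw [← coeff_blockUp_of_mem, ← coeff_blockUp_of_mem, hval]
      exact isInvElt_blockUp_of_stabilizes hM he (H := S)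
        (fun y hy => ((hT y).1 (hST hy)).2) _ s.2 _
    obtain ⟨θ', hθ', hrel⟩ := hsT.2.2 θ hθ
    have hc : centralChar (θ : (Subgroup.centralizer (Q : Set G)) → ℂ) K.out = centralChar (θ' : (Subgroup.centralizer (Q : Set G)) → ℂ) (φ s K.out) := by
      rw [← centralChar_comp_equiv (φ s) (θ' : (Subgroup.centralizer (Q : Set G)) → ℂ) K.out]
      congr 1
      funext y
      exact (hrel y (φ s y) rfl).symm
    rw [hco, hc, ← mul_sub]
    exact memLocalIdeal_mul hM (memLocalRing_blockCoeff hM he _)
      (isPBlock_sameBlock hM he hθ hθ' (φ s K.out))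
  have hsum : ∑ K : ConjClasses (Subgroup.centralizer (Q : Set G)), F K = 1 := by
    have h := omega_blockElem e θ
    rw [if_pos hθ, omega_eq_sum_classes (IsIrr.isClassFunction θ.2) (isCentralElt_blockElem e)] at h
    simpa [F, coeff_blockElem] using h
  obtain ⟨K, hK, hKu⟩ : ∃ K, K ∈ MulAction.fixedPoints S (ConjClasses (Subgroup.centralizer (Q : Set G))) ∧ ¬ MemLocalIdeal M (F K) := by
    by_contra hc
    push Not at hc
    apply not_memLocalIdeal_one hM
    rw [← hsum]
    simpa using memLocalIdeal_add hM (sum_sub_fixed_mem_congr hM hSp F hFi hinv)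
      (memLocalIdeal_sum hM (Finset.univ.filter fun K => K ∈ MulAction.fixedPoints S (ConjClasses (Subgroup.centralizer (Q : Set G)))) F
        fun K hK => hc K (Finset.mem_filter.1 hK).2)
  rw [memLocalIdeal_mul_iff hM (memLocalRing_blockCoeff hM he _) (memLocalRing_centralChar hM θ.2 _),
    not_or] at hKu
  set x : (Subgroup.centralizer (Q : Set G)) := K.out
  have hfx := hK ⟨g, Subgroup.mem_zpowers g⟩
  rw [hsmul] at hfx
  obtain ⟨l, hl⟩ := isConj_iff.1
    (ConjClasses.mk_eq_mk_iff_isConj.1 (hfx.trans (Quotient.out_eq K).symm))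
  have hlG : (l : G) * (g * (x : G) * g⁻¹) * (l : G)⁻¹ = (x : G) := congrArg Subtype.val hl
  set y := (l : G) * g
  have hyx : (x : G) * y * (x : G)⁻¹ = y := by
    rw [mul_inv_eq_iff_eq_mul]
    calc (x : G) * y = (l : G) * (g * (x : G) * g⁻¹) * (l : G)⁻¹ * y := by rw [hlG]
      _ = y * (x : G) := by simp only [y]; group
  have hyT : y ∈ T := T.mul_mem (hCT l.2) hgT
  obtain ⟨k, hk⟩ := hgp
  -- the regular part of `y` lies in `(Subgroup.centralizer (Q : Set G))`
  have hgC : g ∈ Subgroup.normalizer ((Subgroup.centralizer (Q : Set G)) : Set G) := hTn hgT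
  have hpow : ∀ n : ℕ, y ^ n * (g ^ n)⁻¹ ∈ (Subgroup.centralizer (Q : Set G)) := by
    intro n
    induction n with
    | zero => simp
    | succ n ih =>
      have h1 := (Subgroup.mem_normalizer_iff.1 hgC _).1 ih
      have h2 := (Subgroup.centralizer (Q : Set G)).mul_mem l.2 h1
      rw [pow_succ' y, pow_succ' g]
      convert h2 using 1
      rw [mul_inv_rev]
      generalize y ^ n = a
      simp only [y, mul_assoc]
  obtain ⟨j, hj⟩ := exists_orderOf_pPart (p := p) y
  have hprC : pReg (p := p) y ∈ (Subgroup.centralizer (Q : Set G)) := by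
    have h1 := hpow (p ^ (k + j))
    have hg1 : g ^ p ^ (k + j) = 1 := by
      rw [pow_add, pow_mul, ← hk, pow_orderOf_eq_one, one_pow]
    have hy1 : y ^ p ^ (k + j) = pReg (p := p) y ^ p ^ (k + j) := by
      conv_lhs => rw [← pPart_mul_pReg (p := p) y, (commute_pPart_pReg y).mul_pow]
      rw [pow_add, mul_comm, pow_mul (pPart (p := p) y), ← hj, pow_orderOf_eq_one, one_pow, one_mul]
    rw [hg1, inv_one, mul_one, hy1] at h1
    obtain ⟨m, hm⟩ := exists_pow_eq_self_of_coprime (x := pReg (p := p) y) (n := p ^ (k + j))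
      ((((Fact.out : p.Prime).coprime_iff_not_dvd).2 (not_dvd_orderOf_pReg y)).pow_left (k + j))
    rw [← hm]
    exact (Subgroup.centralizer (Q : Set G)).pow_mem h1 m
  set w := pPart (p := p) y
  have hwy : w = y * (pReg (p := p) y)⁻¹ := by
    rw [eq_mul_inv_iff_mul_eq, pPart_mul_pReg]
  have hwT : w ∈ T := hwy ▸ T.mul_mem hyT (T.inv_mem (hCT hprC))
  have hwx : (x : G) * w * (x : G)⁻¹ = w :=
    (pPart_conj (p := p) y (x : G)).symm.trans (congrArg (pPart (p := p)) hyx)
  by_contra hg
  have hwQ : w ∉ Q ⊔ (Subgroup.centralizer (Q : Set G)) := by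
    intro hw
    apply hg
    have h1 : y ∈ Q ⊔ (Subgroup.centralizer (Q : Set G)) := by
      rw [← pPart_mul_pReg (p := p) y]
      exact mul_mem hw (Subgroup.mem_sup_right hprC)
    have h2 := mul_mem (Subgroup.mem_sup_right (inv_mem l.2) : (l : G)⁻¹ ∈ Q ⊔ (Subgroup.centralizer (Q : Set G))) h1
    simpa [y] using h2
  set R := Q ⊔ Subgroup.zpowers w
  have hwp : IsPGroup p (Subgroup.zpowers w) := IsPGroup.of_card (n := j) (by
    rw [Nat.card_zpowers, hj])
  have hwN : Subgroup.zpowers w ≤ Subgroup.normalizer (Q : Set G) :=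
    Subgroup.zpowers_le.2 ((hT w).1 hwT).1
  have hR : IsPGroup p R := hQp.to_sup_of_normal_left' hwp hwN
  have hne : R ≠ Q := fun h => hwQ (Subgroup.mem_sup_left (h ▸ Subgroup.mem_sup_right
    (Subgroup.mem_zpowers w) : w ∈ Q))
  have hxR : (x : G) ∈ Subgroup.centralizer (R : Set G) := by
    rw [Subgroup.mem_centralizer_iff]
    intro r hr
    suffices R ≤ Subgroup.centralizer ({(x : G)} : Set G) from
      Subgroup.mem_centralizer_singleton_iff.1 (this hr)
    refine sup_le (fun q hq => Subgroup.mem_centralizer_singleton_iff.2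
      (Subgroup.mem_centralizer_iff.1 x.2 q hq)) (Subgroup.zpowers_le.2 ?_)
    rw [Subgroup.mem_centralizer_singleton_iff]
    exact (mul_inv_eq_iff_eq_mul.1 hwx).symm
  have := coeff_blockUp_mem_of_maximal hM hmax hR le_sup_left hne
    (sup_le Subgroup.le_normalizer hwN)
    (fun r hr => ((hT r).1 (sup_le hQT (Subgroup.zpowers_le.2 hwT) hr)).2) hxR
  rw [coeff_blockUp_of_mem] at this
  exact hKu.1 this

/-- A pair satisfying the criterion is maximal in its block. -/
theorem exists_maximal_of_criterion (hM : IsPModular p M) (he : IsBrauerPair p M Q e)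
    {θ : IrrCharacter (Subgroup.centralizer (Q : Set G))} (hθ : θ ∈ e)
    (hdeg : (charDegree (θ : Subgroup.centralizer (Q : Set G) → ℂ)).factorization p +
      (Nat.card ↥(Q ⊓ Subgroup.centralizer (Q : Set G))).factorization p =
        (Nat.card (Subgroup.centralizer (Q : Set G))).factorization p)
    (hstab : ∀ g : G, g ∈ Subgroup.normalizer (Q : Set G) →
      StabilizesBlock (Subgroup.centralizer (Q : Set G)) e g → (∃ k : ℕ, orderOf g = p ^ k) →
      g ∈ Q ⊔ Subgroup.centralizer (Q : Set G)) :
    ∃ B, IsMaximalBrauerPair p M B Q e := by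
  classical
  cases nonempty_fintype (Subgroup.centralizer (Q : Set G))
  set Z := Q ⊓ (Subgroup.centralizer (Q : Set G))
  have hZp : IsPGroup p (Z.subgroupOf (Subgroup.centralizer (Q : Set G))) :=
    (he.1.to_le inf_le_left).comap_of_injective (Subgroup.centralizer (Q : Set G)).subtype (Subgroup.centralizer (Q : Set G)).subtype_injective
  have hdef := (S0969.result p M hM (Z.subgroupOf (Subgroup.centralizer (Q : Set G))) hZp (sup_centralizer_inf Q) θ
    ((factorization_iff inf_le_right _).1 hdeg)).1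
  rw [← isPBlock_eq_blockOf hM he.2 hθ] at hdef
  have hbd : p ^ blockDefect p e = Nat.card Z := by
    rw [← H35.card_defectGroup hM he.2 hdef,
      Nat.card_congr (Subgroup.subgroupOfEquivOfLe (inf_le_right : Z ≤ (Subgroup.centralizer (Q : Set G)))).toEquiv]
  obtain ⟨B, hB, -⟩ := S4657.result p M hM Q e he
  obtain ⟨P, e', hmax, hle⟩ := exists_maximal_above hM hB
  refine ⟨B, ?_⟩
  by_cases hPQ : P = Q
  · subst hPQ
    rwa [subpair_unique hM hmax.1.1 hle Relation.ReflTransGen.refl]
  exfalso
  haveI : Group.IsNilpotent P := hmax.1.1.1.isNilpotent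
  have hlt : Q < P := lt_of_le_of_ne (le_of_subpairLE hle) (Ne.symm hPQ)
  have hR := lt_inf_normalizer (P := Q) (S := P) hlt
  set R := P ⊓ Subgroup.normalizer (Q : Set G)
  obtain ⟨f, hf, hfle⟩ := exists_subpair hM hmax.1.1 (inf_le_left : R ≤ P)
  have hQR : SubpairLE p M Q e R f := subpairLE_of_le hM hmax.1.1 hR.le hle hfle
  have hn := isNormalSubpair_of_le hM hf inf_le_right hQR
  have hRC : Z = R ⊓ (Subgroup.centralizer (Q : Set G)) := Subgroup.eq_of_le_of_card_ge (inf_le_inf_right (Subgroup.centralizer (Q : Set G)) hR.le) (by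
    rw [← hbd]
    exact (isLocalBlock_centralizer hM he).card_inf_le hM hf hQR)
  refine hR.not_ge fun r hr => ?_
  obtain ⟨k, hk⟩ := IsPGroup.iff_orderOf.1 hf.1 ⟨r, hr⟩
  have hmem := hstab r hr.2 (hn.2.2.2.2.1 r hr) ⟨k, by rw [← hk, Subgroup.orderOf_mk]⟩
  have hmem' : r ∈ (Q : Set G) * ((Subgroup.centralizer (Q : Set G)) : Set G) := by
    rw [← Subgroup.coe_mul_of_left_le_normalizer_right Q (Subgroup.centralizer (Q : Set G))
      (Subgroup.le_normalizer.trans (normalizer_le_normalizer_centralizer Q))]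
    exact hmem
  obtain ⟨q, hq, c, hc, rfl⟩ := Set.mem_mul.1 hmem'
  have hcR : c ∈ R ⊓ (Subgroup.centralizer (Q : Set G)) := ⟨by simpa using R.mul_mem (R.inv_mem (hR.le hq)) hr, hc⟩
  rw [← hRC] at hcR
  exact Q.mul_mem hq hcR.1

end Cfsg.Agent.BlockBasic.MaximalPair
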