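import Cfsg.Agent.BlockBasic.Local
import Mathlib.Algebra.MonoidAlgebra.Basic
import Mathlib.Algebra.BigOperators.Group.List.Basic
import Mathlib.GroupTheory.GroupAction.Quotient
import Mathlib.GroupTheory.Perm.Basic
import Mathlib.Dynamics.PeriodicPts.Lemmas

/-!
# The necklace congruence for fixed points of the `p^n`-th power map on a group ring

If `b` has local-integral coefficients, commutes with the `p`-element `x` and satisfies
`b ^ (p ^ n) = b` for arbitrarily large `n`, then the sum of the coefficients of `x * b` over a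
conjugation-invariant set vanishes as soon as the set misses the `p`-section of `x`, or
as soon as the coefficients of `b` on the centraliser of `x` lie in the maximal ideal.
-/

namespace Cfsg.Agent.BlockBasic

open MonoidAlgebra

variable {p : ℕ} {M : Ideal AlgInt} {G : Type*}

/-- Product of `f 0, …, f (q-1)` in this order. -/
def seqProd [Monoid G] (f : ℕ → G) : ℕ → G
  | 0 => 1
  | n + 1 => seqProd f n * f n

lemma seqProd_add [Monoid G] (f : ℕ → G) (a c : ℕ) :
    seqProd f (a + c) = seqProd f a * seqProd (fun i => f (a + i)) c := by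
  induction c with
  | zero => simp [seqProd]
  | succ c ih => rw [← add_assoc, seqProd, ih, seqProd, mul_assoc]

lemma seqProd_congr [Monoid G] {f g : ℕ → G} {q : ℕ} (h : ∀ i < q, f i = g i) :
    seqProd f q = seqProd g q := by
  induction q with
  | zero => rfl
  | succ q ih => rw [seqProd, seqProd, ih (fun i hi => h i (hi.trans q.lt_succ_self)), h q q.lt_succ_self]

lemma seqProd_periodic [Monoid G] (f : ℕ → G) (d : ℕ) (hd : ∀ i, f (i + d) = f i) (c : ℕ) :
    seqProd f (d * c) = seqProd f d ^ c := by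
  induction c with
  | zero => simp [seqProd]
  | succ c ih =>
    rw [Nat.mul_succ, seqProd_add, ih, pow_succ]
    congr 1
    refine seqProd_congr fun i _ => ?_
    have : ∀ k, f (d * k + i) = f i := by
      intro k
      induction k with
      | zero => simp
      | succ k ihk =>
        rw [Nat.mul_succ, show d * k + d + i = d * k + i + d by omega, hd, ihk]
    exact this c

lemma commute_seqProd [Monoid G] {x : G} (f : ℕ → G) (q : ℕ) (h : ∀ i, Commute x (f i)) :
    Commute x (seqProd f q) := by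
  induction q with
  | zero => exact Commute.one_right x
  | succ q ih => exact ih.mul_right (h q)

/-- Twisted periodic sequences. -/
abbrev TwistSeq [Group G] (x : G) (q : ℕ) := {f : ℕ → G // ∀ i, f (i + q) = x * f i * x⁻¹}

namespace TwistSeq

variable [Group G] {x : G} {q : ℕ}

lemma apply_add_mul (f : TwistSeq x q) (i k : ℕ) :
    f.1 (i + q * k) = x ^ k * f.1 i * (x ^ k)⁻¹ := by
  induction k with
  | zero => simp
  | succ k ih =>
    rw [Nat.mul_succ, ← add_assoc, f.2, ih, pow_succ']
    group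

/-- A twisted periodic sequence is determined by its first `q` terms. -/
noncomputable def equivFin (hq : q ≠ 0) : (Fin q → G) ≃ TwistSeq x q where
  toFun t := ⟨fun i => x ^ (i / q) * t ⟨i % q, Nat.mod_lt _ (Nat.pos_of_ne_zero hq)⟩ * (x ^ (i / q))⁻¹,
    fun i => by
      simp only [Nat.add_mod_right, Nat.add_div_right _ (Nat.pos_of_ne_zero hq), pow_succ']
      group⟩
  invFun f i := f.1 i
  left_inv t := by
    funext i
    simp [Nat.div_eq_of_lt i.2, Nat.mod_eq_of_lt i.2]
  right_inv f := by
    apply Subtype.ext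
    funext i
    have := apply_add_mul f (i % q) (i / q)
    rw [Nat.mod_add_div] at this
    simp only
    rw [← this]

/-- The twisted rotation. -/
def shift (hq : q ≠ 0) : TwistSeq x q ≃ TwistSeq x q where
  toFun f := ⟨fun i => f.1 (i + 1), fun i => by
    dsimp only
    rw [show i + q + 1 = i + 1 + q by omega, f.2]⟩
  invFun f := ⟨fun i => x⁻¹ * f.1 (i + (q - 1)) * x, fun i => by
    dsimp only
    rw [show i + q + (q - 1) = i + (q - 1) + q by omega, f.2]; group⟩
  left_inv f := by
    apply Subtype.ext; funext i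
    simp only
    rw [show i + (q - 1) + 1 = i + q by omega, f.2]; group
  right_inv f := by
    apply Subtype.ext; funext i
    simp only
    rw [show i + 1 + (q - 1) = i + q by omega, f.2]; group

lemma shift_pow_apply (hq : q ≠ 0) (k : ℕ) (f : TwistSeq x q) (i : ℕ) :
    ((shift hq ^ k) f).1 i = f.1 (i + k) := by
  induction k generalizing i with
  | zero => simp
  | succ k ih =>
    rw [pow_succ', Equiv.Perm.mul_apply]
    show ((shift hq ^ k) f).1 (i + 1) = _
    rw [ih, Nat.add_assoc, Nat.add_comm 1 k]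

/-- The product `x * f 0 * ... * f (q - 1)`. -/
def value (f : TwistSeq x q) : G := x * seqProd f.1 q

lemma value_shift (hq : q ≠ 0) (f : TwistSeq x q) :
    (shift hq f).value = (x * f.1 0 * x⁻¹)⁻¹ * f.value * (x * f.1 0 * x⁻¹) := by
  obtain ⟨r, rfl⟩ := Nat.exists_eq_succ_of_ne_zero hq
  have h1 : seqProd (fun i => f.1 (i + 1)) r.succ = seqProd (fun i => f.1 (1 + i)) r * f.1 (r + 1) := by
    rw [seqProd]
    congr 1
    exact seqProd_congr fun i _ => by rw [add_comm]
  have h2 : seqProd f.1 r.succ = f.1 0 * seqProd (fun i => f.1 (1 + i)) r := by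
    have := seqProd_add f.1 1 r
    rw [add_comm 1 r] at this
    simpa [seqProd] using this
  have h3 : f.1 (r + 1) = x * f.1 0 * x⁻¹ := by simpa using f.2 0
  show x * seqProd (fun i => f.1 (i + 1)) r.succ = _
  rw [value, h1, h2, h3]
  group

end TwistSeq

/-- An invariant function summed over points with long orbits is divisible by a power of `p`. -/
lemma sum_long_orbits {X A : Type*} [Fintype X] [AddCommMonoid A] (hp : p.Prime)
    (σ : Equiv.Perm X) {m : ℕ} (hσ : σ ^ (p ^ m) = 1) (F : X → A) (hF : ∀ y, F (σ y) = F y)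
    (j : ℕ) [DecidablePred fun y : X => (σ ^ (p ^ j)) y ≠ y] :
    ∃ r ∈ AddSubmonoid.closure (Set.range F), ∑ y with (σ ^ (p ^ j)) y ≠ y, F y = (p ^ (j + 1)) • r := by
  classical
  have hFpow : ∀ (k : ℕ) (y : X), F ((σ ^ k) y) = F y := by
    intro k
    induction k with
    | zero => simp
    | succ k ih => intro y; rw [pow_succ', Equiv.Perm.mul_apply, hF, ih]
  let π : X → Quotient (MulAction.orbitRel (Subgroup.zpowers σ) X) := Quotient.mk''
  rw [← Finset.sum_fiberwise _ π F]
  suffices h : ∀ ω, ∃ r ∈ AddSubmonoid.closure (Set.range F),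
      ∑ y ∈ {y : X | (σ ^ (p ^ j)) y ≠ y} with π y = ω, F y = (p ^ (j + 1)) • r by
    choose r hr hsum using h
    exact ⟨∑ ω, r ω, sum_mem fun ω _ => hr ω, by rw [Finset.smul_sum]; exact Finset.sum_congr rfl fun ω _ => hsum ω⟩
  intro ω
  obtain hne | hne := ({y ∈ ({y : X | (σ ^ (p ^ j)) y ≠ y} : Finset X) | π y = ω}).eq_empty_or_nonempty
  · exact ⟨0, zero_mem _, by rw [hne]; simp⟩
  obtain ⟨y₀, hy₀⟩ := hne
  rw [Finset.mem_filter, Finset.mem_filter] at hy₀
  obtain ⟨⟨-, hy₀⟩, hω⟩ := hy₀
  have horb : ∀ y, π y = ω ↔ ∃ k : ℕ, (σ ^ k) y₀ = y := by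
    intro y
    rw [← hω, Quotient.eq'', MulAction.orbitRel_apply, MulAction.mem_orbit_iff]
    constructor
    · rintro ⟨⟨g, hg⟩, rfl⟩
      obtain ⟨k, hk⟩ := ((IsOfFinOrder.mem_powers_iff_mem_zpowers (isOfFinOrder_of_finite σ)).2 hg)
      exact ⟨k, congrArg (fun s : Equiv.Perm X => s y₀) hk⟩
    · rintro ⟨k, rfl⟩
      exact ⟨⟨σ ^ k, Subgroup.npow_mem_zpowers σ k⟩, rfl⟩
  have hset : {y ∈ ({y : X | (σ ^ (p ^ j)) y ≠ y} : Finset X) | π y = ω} =
      (Finset.range (Function.minimalPeriod σ y₀)).image (fun k => σ^[k] y₀) := by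
    ext y
    simp only [Finset.mem_filter, Finset.mem_univ, true_and, Finset.mem_image, Finset.mem_range]
    rw [horb]
    constructor
    · rintro ⟨-, k, rfl⟩
      have hpos : 0 < Function.minimalPeriod σ y₀ :=
        Function.IsPeriodicPt.minimalPeriod_pos (pow_pos hp.pos m)
          (show σ^[p ^ m] y₀ = y₀ by rw [← Equiv.Perm.coe_pow, hσ]; rfl)
      exact ⟨k % Function.minimalPeriod σ y₀, Nat.mod_lt _ hpos,
        by rw [Function.iterate_mod_minimalPeriod_eq, Equiv.Perm.coe_pow]⟩
    · rintro ⟨k, -, rfl⟩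
      rw [← Equiv.Perm.coe_pow]
      refine ⟨fun h => hy₀ ?_, k, rfl⟩
      apply (σ ^ k).injective
      rw [← Equiv.Perm.mul_apply, ← pow_add, add_comm, pow_add, Equiv.Perm.mul_apply, h]
  rw [hset, Finset.sum_image]
  · have hper : Function.IsPeriodicPt σ (p ^ m) y₀ :=
      show σ^[p ^ m] y₀ = y₀ by rw [← Equiv.Perm.coe_pow, hσ]; rfl
    obtain ⟨l, -, hl⟩ := (Nat.dvd_prime_pow hp).1 hper.minimalPeriod_dvd
    have hlj : j + 1 ≤ l := by
      by_contra hcon
      apply hy₀
      rw [Equiv.Perm.coe_pow]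
      exact Function.isPeriodicPt_iff_minimalPeriod_dvd.2
        (hl ▸ pow_dvd_pow p (by omega))
    refine ⟨(p ^ (l - (j + 1))) • F y₀,
      nsmul_mem (AddSubmonoid.subset_closure (Set.mem_range_self y₀)) _, ?_⟩
    rw [Finset.sum_congr rfl (fun k _ => by rw [← Equiv.Perm.coe_pow, hFpow]),
      Finset.sum_const, Finset.card_range, hl, ← mul_nsmul', ← pow_add]
    congr 2; omega
  · intro a ha b hb hab
    exact Function.iterate_injOn_Iio_minimalPeriod (Finset.mem_range.1 ha)
      (Finset.mem_range.1 hb) hab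

/-- The expansion of a power in a monoid algebra. -/
lemma pow_eq_sum_single {R : Type*} [CommSemiring R] [Monoid G] [Fintype G] (b : MonoidAlgebra R G)
    (q : ℕ) : b ^ q = ∑ t : Fin q → G,
      single (seqProd (fun i => if h : i < q then t ⟨i, h⟩ else 1) q) (∏ i, b.coeff (t i)) := by
  classical
  have hb : b = ∑ g, single g (b.coeff g) := by
    apply coeff_injective
    rw [coeff_sum]
    simp only [coeff_single]
    ext g
    simp [Finsupp.finsetSum_apply, Finsupp.single_apply]
  induction q with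
  | zero => simp [seqProd, MonoidAlgebra.one_def]
  | succ q ih =>
    rw [pow_succ, ih]
    nth_rewrite 2 [hb]
    rw [Finset.sum_mul_sum, ← (Fin.snocEquiv (fun _ : Fin (q + 1) => G)).sum_comp,
      Fintype.sum_prod_type, Finset.sum_comm]
    refine Finset.sum_congr rfl fun g _ => Finset.sum_congr rfl fun t _ => ?_
    rw [MonoidAlgebra.single_mul_single, Fin.prod_univ_castSucc]
    simp only [Fin.snocEquiv, Equiv.coe_fn_mk, Fin.snoc_castSucc, Fin.snoc_last]
    congr 1
    rw [seqProd]
    congr 1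
    · refine seqProd_congr fun i hi => ?_
      rw [dif_pos hi, dif_pos (hi.trans q.lt_succ_self)]
      exact (Fin.snoc_castSucc (α := fun _ => G) g t ⟨i, hi⟩).symm
    · rw [dif_pos q.lt_succ_self]
      exact (Fin.snoc_last (α := fun _ => G) g t).symm

/-- A product of `q` factors from a finite set of elements, all having `N`-th power divisible
by `p`, is divisible by a large power of `p`. -/
lemma prod_dvd_of_pow_dvd [Fintype G] {ι : Type*} [Fintype ι] (hM : IsPModular p M)
    (c : G → locRing hM) (t : ι → G) {N : ℕ} (hc : ∀ i, (p : locRing hM) ∣ c (t i) ^ N) :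
    ((p : locRing hM) ^ (Fintype.card ι / N - Fintype.card G)) ∣ ∏ i, c (t i) := by
  classical
  rw [← Finset.prod_fiberwise Finset.univ t]
  rcases Nat.eq_zero_or_pos N with rfl | hN
  · simp
  refine dvd_trans (pow_dvd_pow _ ?_) (b := (p : locRing hM) ^ (∑ g : G, (Finset.univ.filter (fun i => t i = g)).card / N)) ?_
  · have h1 : Fintype.card ι = ∑ g : G, (Finset.univ.filter (fun i => t i = g)).card := by
      rw [← Finset.card_univ]; exact Finset.card_eq_sum_card_fiberwise (by simp)
    have h2 : ∑ g : G, (Finset.univ.filter (fun i => t i = g)).card <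
        N * ((∑ g : G, (Finset.univ.filter (fun i => t i = g)).card / N) + Fintype.card G) + 1 := by
      refine Nat.lt_succ_of_le ?_
      rw [Fintype.card, Finset.card_eq_sum_ones, ← Finset.sum_add_distrib, Finset.mul_sum]
      exact Finset.sum_le_sum fun g _ => (Nat.lt_mul_div_succ _ hN).le
    rw [h1, Nat.sub_le_iff_le_add]
    exact Nat.div_le_of_le_mul (Nat.lt_succ_iff.1 h2)
  rw [← Finset.prod_pow_eq_pow_sum]
  refine Finset.prod_dvd_prod_of_dvd _ _ fun g _ => ?_
  rw [Finset.prod_congr rfl (fun i hi => by rw [(Finset.mem_filter.1 hi).2]), Finset.prod_const]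
  obtain h0 | ⟨i, hi⟩ := (Finset.univ.filter (fun i => t i = g)).eq_empty_or_nonempty
  · simp [h0]
  have := hc i
  rw [(Finset.mem_filter.1 hi).2] at this
  refine (pow_dvd_pow_of_dvd this _).trans ?_
  rw [← pow_mul]
  exact pow_dvd_pow _ (Nat.mul_div_le _ _)

/-- The necklace vanishing theorem. -/
theorem sum_coeff_eq_zero [Group G] [Fintype G] (hM : IsPModular p M) (x : G) {e : ℕ}
    (hx : orderOf x = p ^ e) (b : MonoidAlgebra ℂ G) (hb : ∀ g, MemLocalRing M (b.coeff g))
    (hxb : ∀ g, b.coeff (x * g * x⁻¹) = b.coeff g)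
    (hpow : ∀ N : ℕ, ∃ n ≥ N, b ^ (p ^ n) = b) (T : Finset G)
    (hT : ∀ g h, g ∈ T → h * g * h⁻¹ ∈ T)
    (hcase : (∀ h, Commute x h → x * h ^ (p ^ (Nat.card G).factorization p) ∉ T) ∨
      ∀ h, Commute x h → MemLocalIdeal M (b.coeff h)) :
    ∑ g ∈ T, b.coeff (x⁻¹ * g) = 0 := by
  classical
  set a := (Nat.card G).factorization p with ha
  let c : G → locRing hM := fun g => ⟨b.coeff g, hb g⟩
  -- uniform exponent for the elements of the centraliser
  obtain ⟨N₀, hN₀⟩ : ∃ N₀ : ℕ, 1 ≤ N₀ ∧
      ∀ h, MemLocalIdeal M (b.coeff h) → (p : locRing hM) ∣ c h ^ N₀ := by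
    have : ∀ h, ∃ N : ℕ, MemLocalIdeal M (b.coeff h) → (p : locRing hM) ∣ c h ^ N := by
      intro h
      by_cases hh : MemLocalIdeal M (b.coeff h)
      · obtain ⟨N, r, hr, hN⟩ := exists_pow_eq_natCast_mul hM hh
        exact ⟨N, fun _ => ⟨⟨r, hr⟩, Subtype.ext (by simpa using hN)⟩⟩
      · exact ⟨0, fun h' => absurd h' hh⟩
    choose N hN using this
    exact ⟨1 + ∑ h, N h, by omega, fun h hh => (hN h hh).trans (pow_dvd_pow _
      ((Finset.single_le_sum (fun _ _ => Nat.zero_le _) (Finset.mem_univ h)).trans (Nat.le_add_left _ 1)))⟩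
  suffices hdiv : ∀ K : ℕ, ∃ r : locRing hM,
      ∑ g ∈ T, b.coeff (x⁻¹ * g) = ((p : locRing hM) ^ K * r : locRing hM) by
    refine eq_zero_of_forall_dvd hM fun K => ?_
    obtain ⟨r, hr⟩ := hdiv K
    exact ⟨r, r.2, by rw [hr]; simp⟩
  intro K
  obtain ⟨n, hn, hbn⟩ := hpow (a + K + N₀ * (K + Fintype.card G))
  set q := p ^ n with hq
  have hq0 : q ≠ 0 := pow_ne_zero _ hM.1.ne_zero
  let σ : Equiv.Perm (TwistSeq x q) := TwistSeq.shift hq0
  haveI : Fintype (TwistSeq x q) := Fintype.ofEquiv _ (TwistSeq.equivFin hq0)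
  let w : TwistSeq x q → locRing hM := fun f => ∏ i : Fin q, c (f.1 i)
  let F : TwistSeq x q → locRing hM := fun f => if f.value ∈ T then w f else 0
  have hexp : ∑ g ∈ T, b.coeff (x⁻¹ * g) = ((∑ f, F f : locRing hM) : ℂ) := by
    rw [← (TwistSeq.equivFin (x := x) hq0).sum_comp]
    nth_rewrite 1 [← hbn]
    rw [pow_eq_sum_single]
    simp only [coeff_sum, coeff_single, Finsupp.finsetSum_apply, Finsupp.single_apply]
    rw [Finset.sum_comm, AddSubmonoidClass.coe_finsetSum]
    refine Finset.sum_congr rfl fun t _ => ?_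
    have hv : ((TwistSeq.equivFin (x := x) hq0) t).value =
        x * seqProd (fun i => if h : i < q then t ⟨i, h⟩ else 1) q := by
      rw [TwistSeq.value]
      congr 1
      refine seqProd_congr fun i hi => ?_
      simp [TwistSeq.equivFin, Nat.div_eq_of_lt hi, Nat.mod_eq_of_lt hi, hi]
    simp only [eq_inv_mul_iff_mul_eq, F]
    rw [Finset.sum_ite_eq, hv]
    split_ifs with h
    · simp only [w, SubmonoidClass.coe_finsetProd, c]
      refine Finset.prod_congr rfl fun i _ => ?_
      simp [TwistSeq.equivFin, Nat.div_eq_of_lt i.2, Nat.mod_eq_of_lt i.2]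
    · rfl
  have hFinv : ∀ f, F (σ f) = F f := by
    intro f
    have hvT : (σ f).value ∈ T ↔ f.value ∈ T := by
      rw [show (σ f).value = _ from TwistSeq.value_shift hq0 f]
      constructor
      · intro h
        have := hT _ (x * f.1 0 * x⁻¹) h
        simpa [mul_assoc] using this
      · intro h
        simpa using hT _ (x * f.1 0 * x⁻¹)⁻¹ h
    simp only [F, hvT]
    congr 1
    simp only [w]
    obtain ⟨r, hr⟩ := Nat.exists_eq_succ_of_ne_zero hq0
    rw [Fin.prod_univ_eq_prod_range (fun i => c ((σ f).1 i)), Fin.prod_univ_eq_prod_range (fun i => c (f.1 i))]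
    rw [show (fun i => c ((σ f).1 i)) = fun i => c (f.1 (i + 1)) from rfl]
    refine ((congrArg (fun z => ∏ i ∈ Finset.range z, c (f.1 (i + 1))) hr).trans ?_).trans
      (congrArg (fun z => ∏ i ∈ Finset.range z, c (f.1 i)) hr).symm
    rw [Finset.prod_range_succ, Finset.prod_range_succ']
    congr 1
    apply Subtype.ext
    show b.coeff (f.1 (r + 1)) = b.coeff (f.1 0)
    have h1 : f.1 q = x * f.1 0 * x⁻¹ := by simpa using f.2 0
    rw [show f.1 (r + 1) = f.1 q from congrArg f.1 hr.symm, h1, hxb]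
  have hσm : σ ^ (p ^ (n + e)) = 1 := by
    apply Equiv.ext
    intro f
    apply Subtype.ext
    funext i
    rw [TwistSeq.shift_pow_apply, pow_add, ← hq, TwistSeq.apply_add_mul, ← hx, pow_orderOf_eq_one]
    simp
  set j := n - a with hj
  obtain ⟨r₁, -, hr₁⟩ := sum_long_orbits hM.1 σ hσm F hFinv j
  have hshort : ∀ f, ¬ (σ ^ (p ^ j)) f ≠ f → (p : locRing hM) ^ K ∣ F f := by
    intro f hf
    rw [not_ne_iff] at hf
    have hperiod : ∀ i, f.1 (i + p ^ j) = f.1 i := by
      intro i
      conv_rhs => rw [← hf]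
      rw [TwistSeq.shift_pow_apply]
    have hqj : q = p ^ j * p ^ a := by rw [hq, ← pow_add]; congr 1; omega
    have hcomm : ∀ i, Commute x (f.1 i) := by
      intro i
      have h2 : ∀ k, f.1 (i + p ^ j * k) = f.1 i := by
        intro k
        induction k with
        | zero => simp
        | succ k ih => rw [Nat.mul_succ, ← add_assoc, hperiod, ih]
      have h1 : f.1 (i + q) = f.1 i := (congrArg (fun z => f.1 (i + z)) hqj).trans (h2 _)
      rw [f.2 i] at h1
      exact mul_inv_eq_iff_eq_mul.1 h1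
    rcases hcase with hc | hc
    · have : f.value ∉ T := by
        rw [TwistSeq.value, (congrArg (seqProd f.1) hqj).trans (seqProd_periodic _ _ hperiod _)]
        exact hc _ (commute_seqProd _ _ hcomm)
      simp [F, this]
    · by_cases h : f.value ∈ T
      · simp only [F, if_pos h, w]
        refine dvd_trans (pow_dvd_pow _ ?_)
          (prod_dvd_of_pow_dvd hM c (fun i : Fin q => f.1 i) fun i => hN₀.2 _ (hc _ (hcomm i)))
        rw [Fintype.card_fin, Nat.le_sub_iff_add_le, Nat.le_div_iff_mul_le hN₀.1]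
        · have := Nat.lt_pow_self (n := n) hM.1.one_lt
          rw [mul_comm]; omega
        · rw [Nat.le_div_iff_mul_le hN₀.1]
          have := Nat.lt_pow_self (n := n) hM.1.one_lt
          have h2 : Fintype.card G * N₀ ≤ N₀ * (K + Fintype.card G) := by
            rw [mul_add, mul_comm]; omega
          omega
      · simp [F, h]
  have hshort' : (p : locRing hM) ^ K ∣ ∑ f with ¬ (σ ^ (p ^ j)) f ≠ f, F f :=
    Finset.dvd_sum fun f hf => hshort f (Finset.mem_filter.1 hf).2
  obtain ⟨r, hr⟩ : (p : locRing hM) ^ K ∣ ∑ f, F f := by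
    rw [← Finset.sum_filter_add_sum_filter_not Finset.univ (fun f => (σ ^ (p ^ j)) f ≠ f) F]
    refine dvd_add ?_ hshort'
    rw [hr₁, nsmul_eq_mul, Nat.cast_pow]
    exact (pow_dvd_pow _ (by omega)).trans (dvd_mul_right _ _)
  exact ⟨r, by rw [hexp, hr]⟩

end Cfsg.Agent.BlockBasic
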