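import Cfsg.Agent.BlockBasic.CentralDefect
import Cfsg.Agent.BlockBasic.CoverDefect
import Cfsg.Agent.BlockBasic.Covering
import Cfsg.Agent.BlockBasic.StabilizerDefect
import Cfsg.Agent.CharInduce.Transport
import Cfsg.Agent.H35.DegreeIndex

/-!
# Blocks with a normal defect group
-/

open scoped ComplexConjugate

namespace Cfsg.Agent.BlockBasic.NormalDefect

open CharBasic BlockBasic

universe u

variable {G : Type u} [Group G] [Fintype G] {p : ℕ} [hp : Fact p.Prime] {M : Ideal AlgInt}

omit [Fintype G] hp in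
/-- A linear character takes the value `χ 1` on commutators. -/
lemma apply_commutator_of_linear {χ : G → ℂ} (hχ : IsIrrCharacter G χ) (h1 : χ 1 = 1) (a c : G) :
    χ (a * c * a⁻¹ * c⁻¹) = χ 1 := by
  obtain ⟨n, ρ, hρ, rfl⟩ := hχ
  rw [Representation.char_one, Module.finrank_fin_fun] at h1
  obtain rfl : n = 1 := by exact_mod_cast h1
  have hcomm : ∀ f g : Module.End ℂ (Fin 1 → ℂ), f * g = g * f := fun f g => by
    apply LinearMap.toMatrix'.injective
    rw [Module.End.mul_eq_comp, Module.End.mul_eq_comp, LinearMap.toMatrix'_comp,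
      LinearMap.toMatrix'_comp]
    ext i j
    simp [Matrix.mul_apply, Subsingleton.elim i 0, Subsingleton.elim j 0, mul_comm]
  simp only [Representation.character]
  congr 1
  rw [map_mul, map_mul, map_mul, hcomm (ρ a) (ρ c), mul_assoc (ρ c), ← map_mul ρ a, mul_inv_cancel,
    map_one, mul_one, ← map_mul, mul_inv_cancel, map_one]

omit hp in
/-- In `G = P C(P)` a member of the block restricts to `P` as a multiple of an irreducible
character. -/
theorem defect_constituent [Fact p.Prime] (hM : IsPModular p M) {B : Set (IrrCharacter G)}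
    (hB : IsPBlock M B) {P : Subgroup G} [Fintype P]
    (hG : P ⊔ Subgroup.centralizer (P : Set G) = ⊤) (hD : IsDefectGroup p M B P)
    {θ : IrrCharacter G} (hθ : θ ∈ B) (htriv : ∀ x ∈ P, (θ : G → ℂ) x = (θ : G → ℂ) 1)
    {ψ : IrrCharacter G} (hψ : ψ ∈ B) :
    ∃ l : IrrCharacter P, ∀ x : P, (ψ : G → ℂ) (x : G) = (θ : G → ℂ) 1 * (l : P → ℂ) x := by
  classical
  haveI := CentralDefect.normal_of_sup hG
  have hres := CharInduce.IsChar.res (IsIrr.isCharacter ψ.2) P
  obtain ⟨⟨l, hl⟩, hne⟩ := CharInduce.exists_constituent hres (fun h0 => irr_one_ne_zero ψ.2 (by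
    simpa using congrFun h0 1))
  have hfix : ∀ g : G, CharInduce.conjFun P l g = l := by
    intro g
    obtain ⟨a, ha, c, hc, rfl⟩ := CentralDefect.exists_mul hG g
    rw [← CharInduce.conjFun_mul]
    have h1 : CharInduce.conjFun P l a = l :=
      CharInduce.le_inertia P (IsIrr.isClassFunction hl) ha
    rw [h1]
    funext n
    rw [CharInduce.conjFun_eq_comp]
    show l (MulAut.conjNormal c n) = l n
    refine congrArg l (Subtype.ext ?_)
    rw [MulAut.conjNormal_apply, ← Subgroup.mem_centralizer_iff.1 hc n n.2, mul_inv_cancel_right]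
  have h := CharInduce.clifford P ψ.2 hl hne
  rw [show (Finset.univ.image (CharInduce.conjFun P l)) = {l} by
    ext f; simp [hfix, eq_comm], Finset.sum_singleton] at h
  obtain ⟨m, hm⟩ := classInner_isChar_nat hres (IsIrr.isCharacter hl)
  have hval : ∀ x : P, (ψ : G → ℂ) (x : G) = (m : ℂ) * l x := fun x => by
    rw [← hm]; exact congrFun h x
  refine ⟨⟨l, hl⟩, fun x => ?_⟩
  have h1 := CentralDefect.sum_defect_mul_conj hM hB hG hD hθ htriv hψ hψ
  rw [if_pos rfl] at h1
  have h2 := classInner_irr_self hl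
  rw [classInner_def, inv_mul_eq_iff_eq_mul₀ (Nat.cast_ne_zero.2 Nat.card_pos.ne'), mul_one] at h2
  simp only [hval, map_mul, Complex.conj_natCast] at h1
  rw [show ∑ y : P, (m : ℂ) * l y * ((m : ℂ) * conj (l y)) = (m : ℂ) ^ 2 * ∑ y : P, l y * conj (l y) by
    rw [Finset.mul_sum]; exact Finset.sum_congr rfl fun y _ => by ring, h2, mul_comm,
    apply_one_eq_charDegree] at h1
  have h3 : m ^ 2 = charDegree (θ : G → ℂ) ^ 2 := by
    exact_mod_cast mul_left_cancel₀ (Nat.cast_ne_zero.2 Nat.card_pos.ne') h1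
  rw [hval, apply_one_eq_charDegree, Nat.pow_left_injective two_ne_zero h3]

variable {P L : Subgroup G}

omit [Fintype G] hp in
lemma subgroupOf_sup_centralizer (hL : L = P ⊔ Subgroup.centralizer (P : Set G)) :
    P.subgroupOf L ⊔ Subgroup.centralizer ((P.subgroupOf L : Subgroup L) : Set L) = ⊤ := by
  have hPL : P ≤ L := hL ▸ le_sup_left
  have hc : Subgroup.centralizer ((P.subgroupOf L : Subgroup L) : Set L) =
      (Subgroup.centralizer (P : Set G)).subgroupOf L := by
    ext x
    simp only [Subgroup.mem_centralizer_iff, Subgroup.mem_subgroupOf, SetLike.mem_coe]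
    exact ⟨fun h y hy => congrArg Subtype.val (h ⟨y, hPL hy⟩ hy),
      fun h y hy => Subtype.ext (h y hy)⟩
  rw [hc, ← Subgroup.subgroupOf_sup hPL (hL ▸ le_sup_right), ← hL, Subgroup.subgroupOf_self]

/-- A block of `L = P C(P)` covered by a block with normal defect group `P` has defect group `P`. -/
theorem isDefectGroup_covered [P.Normal] [Fintype L] [L.Normal] (hPL : P ≤ L) (hM : IsPModular p M)
    {B : Set (IrrCharacter G)} (hB : IsPBlock M B) (hD : IsDefectGroup p M B P)
    {χ : IrrCharacter G} (hχ : χ ∈ B) {ψ : IrrCharacter L}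
    (hψ : classInner (fun n : L => (χ : G → ℂ) n) (ψ : L → ℂ) ≠ 0) :
    IsDefectGroup p M (blockOf M (ψ : L → ℂ)) (P.subgroupOf L) := by
  classical
  obtain ⟨g, hg⟩ := exists_isDefectClass (p := p) hM (isPBlock_blockOf M ψ)
  set E := H35.sylImage (default : Sylow p (Subgroup.centralizer ({g} : Set L)))
  have hE : IsDefectGroup p M (blockOf M (ψ : L → ℂ)) E := ⟨g, hg, default, rfl⟩
  have hEL : (E.map L.subtype).subgroupOf L = E :=
    Subgroup.comap_map_eq_self_of_injective L.subtype_injective E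
  obtain ⟨Q, hQ, hQE⟩ := exists_defectGroup_inf_eq hM (isPBlock_blockOf M ψ)
    (Subgroup.map_subtype_le E) (hEL.symm ▸ hE) hB
    ⟨χ, hχ, ψ, self_mem_blockOf hM ψ, hψ⟩
  obtain ⟨c, hc⟩ := H35.defectGroup_le_conj hM hB hD hQ
  have hQP : Q = P := Subgroup.eq_of_le_of_card_ge (hc.trans fun x hx => by
    obtain ⟨y, hy, e⟩ := Subgroup.mem_map.1 hx
    rw [← e]
    exact Subgroup.Normal.conj_mem ‹P.Normal› y hy c) (by
    rw [H35.card_defectGroup hM hB hQ, H35.card_defectGroup hM hB hD])
  rw [hQP, inf_eq_left.2 hPL] at hQE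
  rwa [hQE, hEL]

/-- The block of `L` induces the covering block. -/
theorem induced_covered [P.Normal] [Fintype L] [L.Normal] (hP : IsPGroup p P)
    (hCL : Subgroup.centralizer (P : Set G) ≤ L) (hM : IsPModular p M)
    {B : Set (IrrCharacter G)} (hB : IsPBlock M B) {χ : IrrCharacter G} (hχ : χ ∈ B)
    {ψ : IrrCharacter L} (hψ : classInner (fun n : L => (χ : G → ℂ) n) (ψ : L → ℂ) ≠ 0) :
    IsInducedBlock M L (blockOf M (ψ : L → ℂ)) B := by
  classical
  refine ⟨isPBlock_blockOf M ψ, hB, fun ξ hξ φ hφ g => ?_⟩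
  have hχφ := isPBlock_sameBlock hM hB hχ hφ g
  have hind : MemLocalIdeal M (inducedCentralChar L (ξ : L → ℂ) g -
      inducedCentralChar L (ψ : L → ℂ) g) := by
    rw [← omega_resMap_classSum, ← omega_resMap_classSum]
    refine omega_congr hM (IsIrr.isClassFunction ξ.2) (IsIrr.isClassFunction ψ.2)
      (sameBlock_symm (mem_blockOf.1 hξ)) (fun a c => ?_) (fun a => ?_)
    · simp only [coeff_resMap]
      exact isCentralElt_classSum g (a : G) (c : G)
    · simp only [coeff_resMap]
      exact isIntElt_classSum hM g _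
  have key : MemLocalIdeal M (inducedCentralChar L (ψ : L → ℂ) g - centralChar (χ : G → ℂ) g) := by
    by_cases hg : g ∈ L
    · rw [(classInner_ne_zero_iff_centralChar χ ψ).1 hψ ⟨g, hg⟩, sub_self]
      exact memLocalIdeal_zero hM
    · have h0 : inducedCentralChar L (ψ : L → ℂ) g = 0 := by
        rw [inducedCentralChar]
        refine finsum_mem_eq_zero_of_forall_eq_zero fun h hh => absurd ?_ hg
        obtain ⟨c, hc⟩ := isConj_iff.1 (hh : IsConj g (h : G)).symm
        exact hc ▸ Subgroup.Normal.conj_mem ‹L.Normal› _ h.2 c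
      rw [h0, zero_sub]
      refine memLocalIdeal_neg (H35.centralChar_mem_of_no_centralizing hM P hP (fun x hx hxC => hg ?_) χ)
      obtain ⟨c, hc⟩ := isConj_iff.1 hx.symm
      exact hc ▸ Subgroup.Normal.conj_mem ‹L.Normal› _ (hCL hxC) c
  have h1 := memLocalIdeal_add hM (memLocalIdeal_add hM hind key) hχφ
  convert h1 using 1
  ring

/-- The inertia group of a character over a defect group has index with full `p`-part. -/
theorem not_dvd_relIndex_inertia [P.Normal] [Fintype L] [L.Normal] (hM : IsPModular p M)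
    (hP : IsPGroup p P) (hPL : P ≤ L) (hCL : Subgroup.centralizer (P : Set G) ≤ L)
    {B : Set (IrrCharacter G)} (hB : IsPBlock M B) (hD : IsDefectGroup p M B P)
    {χ : IrrCharacter G} (hχ : χ ∈ B) {ψ : IrrCharacter L}
    (hψ : classInner (fun n : L => (χ : G → ℂ) n) (ψ : L → ℂ) ≠ 0) :
    ¬ p ∣ L.relIndex (CharInduce.inertia L (ψ : L → ℂ)) := by
  classical
  have hN : Subgroup.normalizer (P : Set G) = ⊤ := Subgroup.normalizer_eq_top_iff.2 ‹P.Normal›
  have hNL : Subgroup.normalizer (L : Set G) = ⊤ := Subgroup.normalizer_eq_top_iff.2 ‹L.Normal›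
  have hNH : Subgroup.normalizer (P : Set G) ≤ Subgroup.normalizer (L : Set G) := by rw [hN, hNL]
  have hmem : ∀ n : G, n ∈ Subgroup.normalizer (P : Set G) := fun n => hN ▸ Subgroup.mem_top n
  let tw : G → IrrCharacter L → IrrCharacter L := fun n θ => normTwist θ ⟨n, hNH (hmem n)⟩
  set b := blockOf M (ψ : L → ℂ)
  have hb : IsPBlock M b := isPBlock_blockOf M ψ
  have htw : ∀ (n : G) (θ φ : IrrCharacter L), θ ∈ b → φ ∈ b → tw n θ ∈ b → tw n φ ∈ b := by
    intro n θ φ hθ hφ hn
    rw [isPBlock_eq_blockOf hM hb hn]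
    exact sameBlock_aut _ (isPBlock_sameBlock hM hb hθ hφ)
  have hψb : ψ ∈ b := self_mem_blockOf hM ψ
  let T : Subgroup G :=
    { carrier := {n | tw n ψ ∈ b}
      one_mem' := by
        show normTwist ψ ⟨1, _⟩ ∈ b
        rw [show (⟨1, hNH (hmem 1)⟩ : Subgroup.normalizer (L : Set G)) = 1 from rfl, normTwist_one]
        exact hψb
      mul_mem' := fun {a c} ha hc => by
        show normTwist ψ ⟨a * c, _⟩ ∈ b
        rw [show (⟨a * c, hNH (hmem (a * c))⟩ : Subgroup.normalizer (L : Set G)) =
          ⟨a, hNH (hmem a)⟩ * ⟨c, hNH (hmem c)⟩ from rfl, ← normTwist_normTwist]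
        exact htw c ψ _ hψb ha hc
      inv_mem' := fun {a} ha => by
        show tw a⁻¹ ψ ∈ b
        have h1 : tw a⁻¹ (tw a ψ) = ψ := by
          show normTwist (normTwist ψ _) _ = ψ
          rw [normTwist_normTwist]
          convert normTwist_one ψ
          exact Subtype.ext (mul_inv_cancel a)
        exact htw a⁻¹ (tw a ψ) ψ ha hψb (h1.symm ▸ hψb) }
  have hI : IsInertia P L T b hNH :=
    { le := fun n _ => hmem n
      le_sub := fun n hn => by
        show normTwist ψ ⟨n, _⟩ ∈ b
        rw [conjTwist_eq_self ψ _ hn]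
        exact hψb
      twist := fun n hn θ hθ => htw n ψ θ hψb hθ hn
      mem := fun n _ θ hθ hn => htw n θ ψ hθ hψb hn }
  have h1 := not_dvd_relIndex_of_defect hM hP hPL hCL (fun x _ => hmem x) hNH hb hI
    (induced_covered hP hCL hM hB hχ hψ) hD
  refine fun hdvd => h1 (hdvd.trans ?_)
  have hle : CharInduce.inertia L (ψ : L → ℂ) ≤ T := by
    intro n hn
    show normTwist ψ ⟨n, _⟩ ∈ b
    convert hψb
    apply Subtype.ext
    funext x
    rw [normTwist_apply ψ _ x ((‹L.Normal›).conj_mem x x.2 n)]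
    have := congrFun ((CharInduce.mem_inertia L).1 hn) x
    rw [CharInduce.conjFun_eq_comp] at this
    exact this
  exact dvd_of_mul_right_eq _ (Subgroup.relIndex_mul_relIndex L _ T
    (CharInduce.le_inertia L (IsIrr.isClassFunction ψ.2)) hle)

include hp in
/-- Reynolds: a normal defect group is abelian iff all heights vanish. -/
theorem abelian_iff_heights_zero (hM : IsPModular p M) {B : Set (IrrCharacter G)} (hB : IsPBlock M B)
    (P : Subgroup G) [P.Normal] (hD : IsDefectGroup p M B P) :
    (∀ a ∈ P, ∀ c ∈ P, a * c = c * a) ↔ ∀ χ ∈ B, blockHeight p B (χ : G → ℂ) = 0 := by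
  classical
  have hP : IsPGroup p P := IsPGroup.of_card (H35.card_defectGroup hM hB hD)
  set L := P ⊔ Subgroup.centralizer (P : Set G) with hL
  haveI : L.Normal := by
    haveI : (Subgroup.centralizer (P : Set G)).Normal := by
      refine ⟨fun x hx g => ?_⟩
      rw [Subgroup.mem_centralizer_iff] at hx ⊢
      intro y hy
      have := hx (g⁻¹ * y * g) (Subgroup.Normal.conj_mem' ‹P.Normal› y hy g)
      calc y * (g * x * g⁻¹) = g * ((g⁻¹ * y * g) * x) * g⁻¹ := by group
        _ = g * (x * (g⁻¹ * y * g)) * g⁻¹ := by rw [this]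
        _ = g * x * g⁻¹ * y := by group
    exact inferInstance
  have hPL : P ≤ L := le_sup_left
  have hCL : Subgroup.centralizer (P : Set G) ≤ L := le_sup_right
  haveI : Fintype L := Fintype.ofFinite _
  have hGL := subgroupOf_sup_centralizer (P := P) (L := L) rfl
  set P' := P.subgroupOf L
  haveI : Fintype P' := Fintype.ofFinite _
  have hP' : IsPGroup p P' := hP.comap_of_injective L.subtype L.subtype_injective
  haveI := CentralDefect.normal_of_sup hGL
  have hidx : P'.index = P.relIndex L := rfl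
  have hPidx : P.index.factorization p = P'.index.factorization p + L.index.factorization p := by
    rw [hidx, ← Subgroup.relIndex_mul_index hPL, Nat.factorization_mul
      (show P.relIndex L ≠ 0 from Subgroup.index_ne_zero_of_finite) Subgroup.index_ne_zero_of_finite,
      Finsupp.add_apply]
  obtain ⟨g, hg⟩ := exists_isDefectClass (p := p) hM hB
  have hmin : sInf ((fun χ : IrrCharacter G => (charDegree (χ : G → ℂ)).factorization p) '' B) =
      P.index.factorization p := by
    rw [H35.sInf_degree_eq hM hB hg]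
    have h2 := congrArg (fun n => n.factorization p) (P.card_mul_index.trans
      (Subgroup.centralizer ({g} : Set G)).card_mul_index.symm)
    simp only [Nat.factorization_mul Nat.card_pos.ne' Subgroup.index_ne_zero_of_finite,
      Finsupp.add_apply] at h2
    rw [H35.card_defectGroup hM hB hD, (Fact.out : p.Prime).factorization_pow,
      Finsupp.single_eq_same, H35.blockDefect_eq hM hB hg] at h2
    omega
  -- the data in `L` under a member of `B`
  have hlow : ∀ {χ : IrrCharacter G}, χ ∈ B → ∀ {ψ : IrrCharacter L},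
      classInner (fun n : L => (χ : G → ℂ) n) (ψ : L → ℂ) ≠ 0 →
      ∃ θ : IrrCharacter L, θ ∈ blockOf M (ψ : L → ℂ) ∧
        (∀ x ∈ P', (θ : L → ℂ) x = (θ : L → ℂ) 1) ∧
        (charDegree (θ : L → ℂ)).factorization p = P'.index.factorization p ∧
        IsDefectGroup p M (blockOf M (ψ : L → ℂ)) P' := by
    intro χ hχ ψ hψ
    have hd := isDefectGroup_covered hPL hM hB hD hχ hψ
    obtain ⟨θ, hθ, ht⟩ := H86.exists_trivial_on hM (isPBlock_blockOf M ψ) P' hP'
    exact ⟨θ, hθ, ht,
      CentralDefect.factorization_degree hM (isPBlock_blockOf M ψ) hGL hd hθ ht, hd⟩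
  constructor
  · intro hab χ hχ
    obtain ⟨ψ, hψ⟩ := exists_constituent χ L
    obtain ⟨θ, hθ, ht, hfac, hd⟩ := hlow hχ hψ
    obtain ⟨l, hl⟩ := defect_constituent hM (isPBlock_blockOf M ψ) hGL hd hθ ht
      (self_mem_blockOf hM ψ)
    have hl1 : (l : P' → ℂ) 1 = 1 := CharInduce.IsIrr.degree_one_of_comm (fun a c =>
      Subtype.ext (Subtype.ext (hab _ a.2 _ c.2))) l.2
    have hdeg : charDegree (ψ : L → ℂ) = charDegree (θ : L → ℂ) := by
      have := hl 1
      rw [OneMemClass.coe_one, hl1, mul_one, apply_one_eq_charDegree,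
        apply_one_eq_charDegree] at this
      exact_mod_cast this
    obtain ⟨hdvd, hq⟩ := H35.DegreeIndex.degree_quotient_dvd_index L χ.2 ψ.2 hψ _ _
      (apply_one_eq_charDegree χ) (apply_one_eq_charDegree ψ)
    have hq0 : charDegree (χ : G → ℂ) / charDegree (ψ : L → ℂ) ≠ 0 :=
      (Nat.div_pos (Nat.le_of_dvd (charDegree_pos χ) hdvd) (charDegree_pos ψ)).ne'
    rw [blockHeight, hmin, Nat.sub_eq_zero_iff_le, ← Nat.div_mul_cancel hdvd,
      Nat.factorization_mul hq0 (charDegree_pos ψ).ne', Finsupp.add_apply, hdeg, hfac, hPidx]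
    have := (Nat.factorization_le_iff_dvd hq0 Subgroup.index_ne_zero_of_finite).2 hq p
    rw [hdeg] at this
    omega
  · intro hh a ha c hc
    by_contra hne
    -- one block of `L` below `B`
    obtain ⟨χ₀, hχ₀⟩ := isPBlock_nonempty hM hB
    obtain ⟨ψ₀, hψ₀⟩ := exists_constituent χ₀ L
    obtain ⟨θ, hθ, ht, hfac, hd⟩ := hlow hχ₀ hψ₀
    set b := blockOf M (ψ₀ : L → ℂ)
    have hb : IsPBlock M b := isPBlock_blockOf M ψ₀
    set A : P' := ⟨⟨a, hPL ha⟩, ha⟩
    set C : P' := ⟨⟨c, hPL hc⟩, hc⟩
    set k : L := ((A * C * A⁻¹ * C⁻¹ : P') : L) with hk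
    have hk1 : k ≠ 1 := fun h => hne (by
      have h2 : a * c * a⁻¹ * c⁻¹ = 1 := congrArg Subtype.val h
      calc a * c = a * c * a⁻¹ * c⁻¹ * (c * a) := by group
        _ = c * a := by rw [h2, one_mul])
    have hall : ∀ ψ ∈ b, (ψ : L → ℂ) k = (ψ : L → ℂ) 1 := by
      intro ψ hψ
      obtain ⟨l, hl⟩ := defect_constituent hM hb hGL hd hθ ht hψ
      suffices hl1 : (l : P' → ℂ) 1 = 1 by
        rw [show (ψ : L → ℂ) 1 = (ψ : L → ℂ) ((1 : P') : L) from rfl, hk, hl, hl,
          apply_commutator_of_linear l.2 hl1]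
      -- a member of `B` over `ψ`
      obtain ⟨χ, hχ⟩ := exists_over L ψ
      have hχB : χ ∈ B := by
        have i1 := induced_covered hP hCL hM (isPBlock_blockOf M χ) (self_mem_blockOf hM χ) hχ
        have i2 := induced_covered hP hCL hM hB hχ₀ hψ₀
        rw [isPBlock_eq_blockOf hM hB hχ₀]
        intro x
        have e1 := i1.2.2 ψ (self_mem_blockOf hM ψ) χ (self_mem_blockOf hM χ) x
        have e2 := i2.2.2 ψ hψ χ₀ hχ₀ x
        simpa using memLocalIdeal_sub hM e1 e2
      have h0 := hh χ hχB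
      rw [blockHeight, hmin, Nat.sub_eq_zero_iff_le] at h0
      have hcl := CharInduce.clifford_degree L χ.2 ψ.2 hχ
      obtain ⟨e, he⟩ := classInner_isChar_nat (CharInduce.IsChar.res (IsIrr.isCharacter χ.2) L)
        (IsIrr.isCharacter ψ.2)
      rw [he, apply_one_eq_charDegree, apply_one_eq_charDegree] at hcl
      set T := CharInduce.inertia L (ψ : L → ℂ)
      have hcl' : charDegree (χ : G → ℂ) = e * T.index * charDegree (ψ : L → ℂ) := by
        exact_mod_cast hcl
      have he0 : e ≠ 0 := fun h => (charDegree_pos χ).ne' (by simp [hcl', h])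
      have hTi : T.index.factorization p = L.index.factorization p := by
        have hnd := not_dvd_relIndex_inertia hM hP hPL hCL hB hD hχB hχ
        rw [← Subgroup.relIndex_mul_index (CharInduce.le_inertia L (IsIrr.isClassFunction ψ.2)),
          Nat.factorization_mul (show L.relIndex T ≠ 0 from Subgroup.index_ne_zero_of_finite)
           
            Subgroup.index_ne_zero_of_finite, Finsupp.add_apply,
          Nat.factorization_eq_zero_of_not_dvd hnd, zero_add]
      have hψdeg : charDegree (ψ : L → ℂ) = charDegree (θ : L → ℂ) * charDegree (l : P' → ℂ) := by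
        have := hl 1
        rw [OneMemClass.coe_one, apply_one_eq_charDegree, apply_one_eq_charDegree,
          apply_one_eq_charDegree] at this
        exact_mod_cast this
      rw [hcl', hψdeg, Nat.factorization_mul (mul_ne_zero he0 Subgroup.index_ne_zero_of_finite)
        (mul_ne_zero (charDegree_pos θ).ne' (charDegree_pos l).ne'), Finsupp.add_apply,
        Nat.factorization_mul he0 Subgroup.index_ne_zero_of_finite, Finsupp.add_apply,
        Nat.factorization_mul (charDegree_pos θ).ne' (charDegree_pos l).ne', Finsupp.add_apply,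
        hTi, hfac, hPidx] at h0
      obtain ⟨e', he'⟩ := IsPGroup.iff_card.1 hP'
      obtain ⟨j, -, hj⟩ := (Nat.dvd_prime_pow (Fact.out : p.Prime)).1 (he' ▸ charDegree_dvd l)
      rw [hj, (Fact.out : p.Prime).factorization_pow, Finsupp.single_eq_same] at h0
      rw [apply_one_eq_charDegree, hj, show j = 0 by omega, pow_zero, Nat.cast_one]
    apply hk1
    have hker : blockKernel b k 1 ≠ 0 := by
      rw [blockKernel, finsum_mem_eq_sum_ite]
      have e : (∑ ψ : IrrCharacter L, if ψ ∈ b then (ψ : L → ℂ) k * conj ((ψ : L → ℂ) 1) else 0) =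
          ((∑ ψ : IrrCharacter L, if ψ ∈ b then charDegree (ψ : L → ℂ) ^ 2 else 0 : ℕ) : ℂ) := by
        push_cast
        refine Finset.sum_congr rfl fun ψ _ => ?_
        split_ifs with hm
        · rw [hall ψ hm, apply_one_eq_charDegree]; simp [sq]
        · simp
      rw [e, Nat.cast_ne_zero]
      refine (Finset.sum_pos' (fun _ _ => Nat.zero_le _) ⟨ψ₀, Finset.mem_univ _, ?_⟩).ne'
      rw [if_pos (self_mem_blockOf hM ψ₀)]
      exact pow_pos (charDegree_pos ψ₀) 2
    have hconj : IsConj (pPart (p := p) k) (pPart (p := p) (1 : L)) :=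
      Classical.byContradiction fun h => hker (blockKernel_eq_zero hM hb h)
    rw [(pPart_eq_self_iff _).2 (H86.pPow_orderOf hP' (Subtype.prop _)),
      (pPart_eq_one_iff (1 : L)).2 (by
        rw [orderOf_one, Nat.dvd_one]; exact (Fact.out : p.Prime).ne_one)] at hconj
    exact isConj_one_left.1 hconj

end Cfsg.Agent.BlockBasic.NormalDefect
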