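import Cfsg.Prelude.Def_Blocks
import Mathlib.GroupTheory.OrderOfElement
import Mathlib.Algebra.Group.Conj
import Mathlib.Data.Nat.Factorization.Basic
import Mathlib.Data.Nat.ModEq

/-!
# The `p`-part and `p`-regular part of a group element
-/

namespace Cfsg.Agent.BlockBasic

variable {G : Type*} [Group G] {p : ℕ}

/-- Data of a decomposition into commuting `p`- and `p'`-parts: both parts are powers of `g`,
with exponents depending on the order of `g` only. -/
lemma exists_pPart_exponent (hp : p.Prime) (v m : ℕ) (hm : ¬ p ∣ m) :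
    ∃ k l : ℕ, (k ≡ 1 [MOD p ^ v]) ∧ (k ≡ 0 [MOD m]) ∧ (l ≡ 0 [MOD p ^ v]) ∧ (l ≡ 1 [MOD m]) := by
  have hco : Nat.Coprime (p ^ v) m := ((hp.coprime_iff_not_dvd).2 hm).pow_left v
  obtain ⟨k, hk1, hk2⟩ := Nat.chineseRemainder hco 1 0
  obtain ⟨l, hl1, hl2⟩ := Nat.chineseRemainder hco 0 1
  exact ⟨k, l, hk1, hk2, hl1, hl2⟩

/-- In a finite group every element has a `p`-part. -/
lemma exists_isPPart [Finite G] (hp : p.Prime) (g : G) : ∃ x, IsPPart p g x := by
  obtain ⟨v, m, hm, hvm⟩ := Nat.exists_eq_pow_mul_and_not_dvd (orderOf_pos g).ne' p hp.ne_one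
  obtain ⟨k, l, hk1, hk2, hl1, hl2⟩ := exists_pPart_exponent hp v m hm
  have hco : Nat.Coprime (p ^ v) m := ((hp.coprime_iff_not_dvd).2 hm).pow_left v
  refine ⟨g ^ k, g ^ l, ?_, (Commute.refl g).pow_pow k l, ?_, ?_⟩
  · rw [← pow_add]
    conv_rhs => rw [← pow_one g]
    rw [pow_eq_pow_iff_modEq, hvm]
    exact (Nat.modEq_and_modEq_iff_modEq_mul hco).1
      ⟨by simpa using hk1.add hl1, by simpa using hk2.add hl2⟩
  · have h1 : (g ^ k) ^ (p ^ v) = 1 := by
      rw [← pow_mul, ← orderOf_dvd_iff_pow_eq_one, hvm, mul_comm k]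
      exact Nat.mul_dvd_mul_left _ (Nat.modEq_zero_iff_dvd.1 hk2)
    obtain ⟨j, -, hj⟩ := (Nat.dvd_prime_pow hp).1 (orderOf_dvd_of_pow_eq_one h1)
    exact ⟨j, hj⟩
  · have h1 : (g ^ l) ^ m = 1 := by
      rw [← pow_mul, ← orderOf_dvd_iff_pow_eq_one, hvm]
      exact Nat.mul_dvd_mul_right (Nat.modEq_zero_iff_dvd.1 hl1) _
    exact fun h => hm (h.trans (orderOf_dvd_of_pow_eq_one h1))

/-- Any `p`-part together with its complement consists of the canonical powers of `g`. -/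
lemma isPPart_unique [Finite G] (hp : p.Prime) {g x₁ x₂ : G} (h₁ : IsPPart p g x₁)
    (h₂ : IsPPart p g x₂) : x₁ = x₂ := by
  have key : ∀ x, IsPPart p g x → ∀ v m k : ℕ, ¬ p ∣ m → orderOf g = p ^ v * m →
      k ≡ 1 [MOD p ^ v] → k ≡ 0 [MOD m] → g ^ k = x := by
    rintro x ⟨y, rfl, hxy, ⟨j, hj⟩, hy⟩ v m k hm hvm hk1 hk2
    have hord := hxy.orderOf_mul_eq_mul_orderOf_of_coprime
      (by rw [hj]; exact ((hp.coprime_iff_not_dvd).2 hy).pow_left j)
    rw [hvm, hj] at hord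
    have hjv : j = v := by
      have := congrArg (fun n => n.factorization p) hord
      simp only [Nat.factorization_mul (pow_ne_zero _ hp.ne_zero) (orderOf_pos y).ne',
        Nat.factorization_mul (pow_ne_zero _ hp.ne_zero) (show m ≠ 0 by rintro rfl; exact hm (dvd_zero p)),
        Finsupp.add_apply, hp.factorization_pow, Finsupp.single_eq_same,
        Nat.factorization_eq_zero_of_not_dvd hm, Nat.factorization_eq_zero_of_not_dvd hy] at this
      omega
    subst hjv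
    have hmy : orderOf y = m := (Nat.eq_of_mul_eq_mul_left (pow_pos hp.pos _) hord).symm
    rw [hxy.mul_pow]
    have h1 : x ^ k = x := by
      conv_rhs => rw [← pow_one x]
      rw [pow_eq_pow_iff_modEq, hj]; exact hk1
    have h2 : y ^ k = 1 := by
      rw [← orderOf_dvd_iff_pow_eq_one, hmy]; exact Nat.modEq_zero_iff_dvd.1 hk2
    rw [h1, h2, mul_one]
  obtain ⟨v, m, hm, hvm⟩ := Nat.exists_eq_pow_mul_and_not_dvd (orderOf_pos g).ne' p hp.ne_one
  obtain ⟨k, l, hk1, hk2, -, -⟩ := exists_pPart_exponent hp v m hm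
  rw [← key x₁ h₁ v m k hm hvm hk1 hk2, ← key x₂ h₂ v m k hm hvm hk1 hk2]

/-- The `p`-part of an element of a finite group. -/
noncomputable def pPart [Finite G] [hp : Fact p.Prime] (g : G) : G := (exists_isPPart hp.out g).choose

/-- The `p`-regular part of an element of a finite group. -/
noncomputable def pReg [Finite G] [hp : Fact p.Prime] (g : G) : G := (pPart (p := p) g)⁻¹ * g

section

variable [Finite G] [hp : Fact p.Prime]

lemma isPPart_pPart (g : G) : IsPPart p g (pPart (p := p) g) := (exists_isPPart hp.out g).choose_spec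

lemma pPart_eq_of_isPPart {g x : G} (h : IsPPart p g x) : pPart (p := p) g = x :=
  isPPart_unique hp.out (isPPart_pPart g) h

lemma isPPart_iff {g x : G} : IsPPart p g x ↔ pPart (p := p) g = x :=
  ⟨pPart_eq_of_isPPart, fun h => h ▸ isPPart_pPart g⟩

lemma pPart_mul_pReg (g : G) : pPart (p := p) g * pReg (p := p) g = g := mul_inv_cancel_left _ _

lemma commute_pPart_pReg (g : G) : Commute (pPart (p := p) g) (pReg (p := p) g) := by
  obtain ⟨y, hy, hc, -, -⟩ := isPPart_pPart (p := p) g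
  have : pReg (p := p) g = y := inv_mul_eq_iff_eq_mul.2 hy.symm
  rwa [this]

lemma not_dvd_orderOf_pReg (g : G) : ¬ p ∣ orderOf (pReg (p := p) g) := by
  obtain ⟨y, hy, -, -, hn⟩ := isPPart_pPart (p := p) g
  have : pReg (p := p) g = y := inv_mul_eq_iff_eq_mul.2 hy.symm
  rwa [this]

lemma exists_orderOf_pPart (g : G) : ∃ k, orderOf (pPart (p := p) g) = p ^ k := by
  obtain ⟨y, -, -, hk, -⟩ := isPPart_pPart (p := p) g
  exact hk

lemma pPart_mul_of {x y : G} (hc : Commute x y) (hx : ∃ k, orderOf x = p ^ k)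
    (hy : ¬ p ∣ orderOf y) : pPart (p := p) (x * y) = x :=
  pPart_eq_of_isPPart ⟨y, rfl, hc, hx, hy⟩

lemma pPart_eq_one_iff (g : G) : pPart (p := p) g = 1 ↔ ¬ p ∣ orderOf g := by
  refine ⟨fun h => ?_, fun h => pPart_eq_of_isPPart ⟨g, one_mul g, Commute.one_left g, ⟨0, by simp⟩, h⟩⟩
  have := not_dvd_orderOf_pReg (p := p) g
  rwa [pReg, h, inv_one, one_mul] at this

lemma pPart_eq_self_iff (g : G) : pPart (p := p) g = g ↔ ∃ k, orderOf g = p ^ k := by
  refine ⟨fun h => h ▸ exists_orderOf_pPart g, fun h => pPart_eq_of_isPPart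
    ⟨1, mul_one g, Commute.one_right g, h, ?_⟩⟩
  rw [orderOf_one, Nat.dvd_one]
  exact hp.out.ne_one

lemma pPart_conj (g c : G) : pPart (p := p) (c * g * c⁻¹) = c * pPart (p := p) g * c⁻¹ := by
  obtain ⟨y, hy, hc, hk, hn⟩ := isPPart_pPart (p := p) g
  refine pPart_eq_of_isPPart ⟨c * y * c⁻¹, ?_, ?_, ?_, ?_⟩
  · conv_rhs => rw [← hy]
    group
  · simpa using hc.map (MulAut.conj c).toMonoidHom
  · simpa [MulAut.conj_apply] using
      hk.imp fun k hk => ((MulEquiv.orderOf_eq (MulAut.conj c) (pPart (p := p) g)).trans hk)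
  · rwa [← MulAut.conj_apply, MulEquiv.orderOf_eq]

lemma pPart_inv (g : G) : pPart (p := p) g⁻¹ = (pPart (p := p) g)⁻¹ := by
  obtain ⟨y, hy, hc, ⟨k, hk⟩, hn⟩ := isPPart_pPart (p := p) g
  refine pPart_eq_of_isPPart ⟨y⁻¹, ?_, hc.inv_inv, ⟨k, by rw [orderOf_inv, hk]⟩, by rwa [orderOf_inv]⟩
  conv_rhs => rw [← hy]
  rw [mul_inv_rev]
  exact hc.inv_inv.eq

lemma isConj_pPart {g h : G} (e : IsConj g h) : IsConj (pPart (p := p) g) (pPart (p := p) h) := by
  obtain ⟨c, rfl⟩ := isConj_iff.1 e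
  exact isConj_iff.2 ⟨c, (pPart_conj g c).symm⟩

/-- A high `p`-power of an element is `p`-regular. -/
lemma not_dvd_orderOf_pow_factorization (h : G) {n : ℕ} (hn : (Nat.card G).factorization p ≤ n) :
    ¬ p ∣ orderOf (h ^ (p ^ n)) := by
  intro hd
  obtain ⟨v, m, hm, hvm⟩ := Nat.exists_eq_pow_mul_and_not_dvd (orderOf_pos h).ne' p hp.out.ne_one
  have hv : v ≤ n := le_trans ((hp.out.pow_dvd_iff_le_factorization Nat.card_pos.ne').1
    ((Dvd.intro m hvm.symm).trans (orderOf_dvd_natCard h))) hn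
  apply hm
  refine hd.trans (orderOf_dvd_of_pow_eq_one ?_)
  rw [← pow_mul, ← orderOf_dvd_iff_pow_eq_one, hvm]
  exact Nat.mul_dvd_mul_right (pow_dvd_pow p hv) m

end

end Cfsg.Agent.BlockBasic
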