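import Cfsg.Agent.BlockBasic.Idem
import Cfsg.Agent.BlockBasic.Necklace
import Cfsg.Agent.BlockBasic.PPart
import Mathlib.FieldTheory.Finite.Basic
import Mathlib.GroupTheory.Sylow

/-!
# Block orthogonality and its first consequences
-/

open scoped ComplexConjugate
open MonoidAlgebra

namespace Cfsg.Agent.BlockBasic

open CharBasic

universe u

variable {G : Type u} [Group G] {p : ℕ} {M : Ideal AlgInt}

/-- The kernel `∑_{χ ∈ B} χ(g) * conj (χ(h))`. -/
noncomputable def blockKernel (B : Set (IrrCharacter G)) (g h : G) : ℂ :=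
  ∑ᶠ χ ∈ B, (χ : G → ℂ) g * conj ((χ : G → ℂ) h)

lemma exists_pow_eq_self (hp : p.Prime) {s : G} (hs : IsOfFinOrder s) (hreg : ¬ p ∣ orderOf s)
    (N : ℕ) : ∃ n ≥ N, s ^ (p ^ n) = s := by
  have hm : 0 < orderOf s := hs.orderOf_pos
  have hco : Nat.Coprime p (orderOf s) := hp.coprime_iff_not_dvd.2 hreg
  refine ⟨Nat.totient (orderOf s) * N, Nat.le_mul_of_pos_left N (Nat.totient_pos.2 hm), ?_⟩
  conv_rhs => rw [← pow_one s]
  rw [pow_eq_pow_iff_modEq, pow_mul]
  simpa using (Nat.ModEq.pow_totient hco).pow N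

section

variable [Fintype G]

lemma blockElem_mul_single_pow (B : Set (IrrCharacter G)) (s : G) (n : ℕ) (hn : 1 ≤ n) :
    (blockElem B * single s 1) ^ n = blockElem B * single (s ^ n) (1 : ℂ) := by
  induction n with
  | zero => omega
  | succ n ih =>
    rcases Nat.eq_zero_or_pos n with rfl | hn'
    · simp
    rw [pow_succ, ih hn', mul_assoc, ← mul_assoc (single _ _) (blockElem B),
      ← isCentralElt_comm (isCentralElt_blockElem B) (single _ _), mul_assoc,
      MonoidAlgebra.single_mul_single, ← mul_assoc, blockElem_idem, one_mul, pow_succ]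

open scoped Classical in
lemma card_centralizer_mul_sum_blockElem (B : Set (IrrCharacter G)) (g h : G) :
    (Nat.card (Subgroup.centralizer ({h} : Set G)) : ℂ) *
      ∑ k with IsConj h k, (blockElem B * single g 1).coeff k = blockKernel B g h := by
  rw [card_centralizer_mul_sum_class, blockKernel, finsum_mem_eq_sum_ite]
  refine Finset.sum_congr rfl fun χ _ => ?_
  rw [chiLin_blockElem_mul, chiLin_single, one_mul]
  split_ifs <;> simp

lemma necklace_hyps (hM : IsPModular p M) {B : Set (IrrCharacter G)} (hB : IsPBlock M B)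
    {x s : G} (hxs : Commute x s) (hs : ¬ p ∣ orderOf s) :
    (∀ k, MemLocalRing M ((blockElem B * single s 1).coeff k)) ∧
      (∀ k, (blockElem B * single s 1).coeff (x * k * x⁻¹) = (blockElem B * single s 1).coeff k) ∧
      ∀ N : ℕ, ∃ n ≥ N, (blockElem B * single s 1) ^ (p ^ n) = blockElem B * single s (1 : ℂ) := by
  refine ⟨(isIntElt_blockElem hM hB).mul hM (isIntElt_single hM s (locRing hM).one_mem),
    fun k => ?_, fun N => ?_⟩
  · rw [coeff_mul_single_apply, coeff_mul_single_apply]
    congr 1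
    have := isCentralElt_blockElem B (k * s⁻¹) x
    simp only at this
    rw [← this]
    congr 1
    have h2 : s * x⁻¹ = x⁻¹ * s := (hxs.inv_left.eq).symm
    have h3 : x⁻¹ * s⁻¹ = s⁻¹ * x⁻¹ := hxs.inv_inv.eq
    simp only [mul_assoc]
    rw [h3]
  · obtain ⟨n, hn, hsn⟩ := exists_pow_eq_self hM.1 (isOfFinOrder_of_finite s) hs N
    exact ⟨n, hn, by rw [blockElem_mul_single_pow _ _ _ (Nat.one_le_pow _ _ hM.1.pos), hsn]⟩

lemma blockElem_mul_single_shift (B : Set (IrrCharacter G)) (x s k : G) :
    (blockElem B * single (x * s) 1).coeff k = (blockElem B * single s 1).coeff (x⁻¹ * k) := by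
  rw [coeff_mul_single_apply, coeff_mul_single_apply]
  congr 1
  have := isCentralElt_blockElem B (k * (x * s)⁻¹) x⁻¹
  simp only at this
  rw [← this]
  congr 1
  group

end

/-- Block orthogonality: `g` and `h` in different `p`-sections. -/
theorem blockKernel_eq_zero [Finite G] [hp : Fact p.Prime] (hM : IsPModular p M)
    {B : Set (IrrCharacter G)} (hB : IsPBlock M B) {g h : G}
    (hne : ¬ IsConj (pPart (p := p) g) (pPart (p := p) h)) : blockKernel B g h = 0 := by
  classical
  cases nonempty_fintype G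
  set x := pPart (p := p) g with hx
  set s := pReg (p := p) g with hs
  obtain ⟨h1, h2, h3⟩ := necklace_hyps hM hB (commute_pPart_pReg g) (not_dvd_orderOf_pReg g)
  obtain ⟨e, he⟩ := exists_orderOf_pPart (p := p) g
  have hz := sum_coeff_eq_zero hM x he (blockElem B * single s 1) h1 h2 h3
    (Finset.univ.filter (fun k => IsConj h k))
    (fun k c hk => by
      simp only [Finset.mem_filter, Finset.mem_univ, true_and] at hk ⊢
      exact hk.trans (isConj_iff.2 ⟨c, rfl⟩))
    (Or.inl fun k hk hmem => by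
      simp only [Finset.mem_filter, Finset.mem_univ, true_and] at hmem
      apply hne
      have := isConj_pPart (p := p) hmem
      rw [pPart_mul_of (hk.pow_right _) ⟨e, he⟩
        (not_dvd_orderOf_pow_factorization k le_rfl)] at this
      exact this.symm)
  rw [← card_centralizer_mul_sum_blockElem, ← pPart_mul_pReg (p := p) g]
  simp only [blockElem_mul_single_shift]
  rw [hz, mul_zero]

/-- Weak block orthogonality. -/
theorem blockKernel_eq_zero_of_regular_of_singular [Finite G] [hp : Fact p.Prime]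
    (hM : IsPModular p M) {B : Set (IrrCharacter G)} (hB : IsPBlock M B) {g h : G}
    (hg : ¬ p ∣ orderOf g) (hh : p ∣ orderOf h) : blockKernel B g h = 0 := by
  refine blockKernel_eq_zero hM hB fun hc => ?_
  rw [(pPart_eq_one_iff g).2 hg, isConj_one_right] at hc
  exact (pPart_eq_one_iff h).1 hc hh

lemma conj_blockKernel [Finite G] (B : Set (IrrCharacter G)) (g h : G) :
    conj (blockKernel B g h) = blockKernel B h g := by
  classical
  cases nonempty_fintype G
  rw [blockKernel, blockKernel, finsum_mem_eq_sum_ite, finsum_mem_eq_sum_ite, map_sum]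
  refine Finset.sum_congr rfl fun χ _ => ?_
  split_ifs
  · rw [map_mul, Complex.conj_conj, mul_comm]
  · simp

lemma blockCoeff_eq_blockKernel (B : Set (IrrCharacter G)) (g : G) :
    blockCoeff B g = (Nat.card G : ℂ)⁻¹ * blockKernel B 1 g := rfl

/-- Block idempotents are supported on `p`-regular elements. -/
theorem blockCoeff_eq_zero_of_singular [Finite G] [hp : Fact p.Prime] (hM : IsPModular p M)
    {B : Set (IrrCharacter G)} (hB : IsPBlock M B) {g : G} (hg : p ∣ orderOf g) :
    blockCoeff B g = 0 := by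
  rw [blockCoeff_eq_blockKernel, blockKernel_eq_zero_of_regular_of_singular hM hB ?_ hg, mul_zero]
  rw [orderOf_one, Nat.dvd_one]
  exact hp.out.ne_one

/-- The Osima orthogonality over `p`-regular elements. -/
theorem sum_regular_eq_zero [Fintype G] [hp : Fact p.Prime] (hM : IsPModular p M)
    {B : Set (IrrCharacter G)} (hB : IsPBlock M B) {χ ψ : IrrCharacter G} (hχ : χ ∈ B)
    (hψ : ψ ∉ B) [DecidablePred fun x : G => ¬ p ∣ orderOf x] :
    ∑ x with ¬ p ∣ orderOf x, (χ : G → ℂ) x * conj ((ψ : G → ℂ) x) = 0 := by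
  classical
  have hin : ∀ φ : IrrCharacter G, ∀ θ : IrrCharacter G,
      ∑ x, (φ : G → ℂ) x * conj ((θ : G → ℂ) x) = if φ = θ then (Nat.card G : ℂ) else 0 := by
    intro φ θ
    have h1 := classInner_irrCharacter φ θ
    rw [classInner_def, inv_mul_eq_iff_eq_mul₀ (Nat.cast_ne_zero.2 Nat.card_pos.ne')] at h1
    rw [h1]; split_ifs <;> simp
  -- expansion of a member through the kernel
  have hexp : ∀ x, ∑ y, blockKernel B x y * (χ : G → ℂ) y = (Nat.card G : ℂ) * (χ : G → ℂ) x := by
    intro x
    simp only [blockKernel, finsum_mem_eq_sum_ite, Finset.sum_mul]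
    rw [Finset.sum_comm, Finset.sum_eq_single χ]
    · simp only [if_pos hχ]
      rw [show ∑ y, (χ : G → ℂ) x * conj ((χ : G → ℂ) y) * (χ : G → ℂ) y =
        (χ : G → ℂ) x * ∑ y, (χ : G → ℂ) y * conj ((χ : G → ℂ) y) by
          rw [Finset.mul_sum]; exact Finset.sum_congr rfl fun y _ => by ring, hin, if_pos rfl]
      ring
    · intro φ _ hne
      split_ifs
      · rw [show ∑ y, (φ : G → ℂ) x * conj ((φ : G → ℂ) y) * (χ : G → ℂ) y =
          (φ : G → ℂ) x * ∑ y, (χ : G → ℂ) y * conj ((φ : G → ℂ) y) by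
            rw [Finset.mul_sum]; exact Finset.sum_congr rfl fun y _ => by ring, hin,
          if_neg hne.symm, mul_zero]
      · simp
    · simp
  have hperp : ∀ y, ∑ x, blockKernel B x y * conj ((ψ : G → ℂ) x) = 0 := by
    intro y
    simp only [blockKernel, finsum_mem_eq_sum_ite, Finset.sum_mul]
    rw [Finset.sum_comm]
    refine Finset.sum_eq_zero fun φ _ => ?_
    split_ifs with hφ
    · rw [show ∑ x, (φ : G → ℂ) x * conj ((φ : G → ℂ) y) * conj ((ψ : G → ℂ) x) =
        conj ((φ : G → ℂ) y) * ∑ x, (φ : G → ℂ) x * conj ((ψ : G → ℂ) x) by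
          rw [Finset.mul_sum]; exact Finset.sum_congr rfl fun y _ => by ring, hin,
        if_neg (fun e : φ = ψ => hψ (e ▸ hφ)), mul_zero]
    · simp
  have key : (Nat.card G : ℂ) * ∑ x with ¬ p ∣ orderOf x, (χ : G → ℂ) x * conj ((ψ : G → ℂ) x) = 0 := by
    calc (Nat.card G : ℂ) * ∑ x with ¬ p ∣ orderOf x, (χ : G → ℂ) x * conj ((ψ : G → ℂ) x)
        = ∑ x, ∑ y, if ¬ p ∣ orderOf x then
            blockKernel B x y * (χ : G → ℂ) y * conj ((ψ : G → ℂ) x) else 0 := by
          rw [Finset.mul_sum, Finset.sum_filter]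
          refine Finset.sum_congr rfl fun x _ => ?_
          by_cases hx : ¬ p ∣ orderOf x
          · simp only [if_pos hx]
            rw [← mul_assoc, ← hexp x, Finset.sum_mul]
          · simp only [if_neg hx, mul_zero, Finset.sum_const_zero]
      _ = ∑ y, ∑ x, if ¬ p ∣ orderOf y then
            blockKernel B x y * (χ : G → ℂ) y * conj ((ψ : G → ℂ) x) else 0 := by
          rw [Finset.sum_comm]
          refine Finset.sum_congr rfl fun y _ => Finset.sum_congr rfl fun x _ => ?_
          by_cases hx : ¬ p ∣ orderOf x <;> by_cases hy : ¬ p ∣ orderOf y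
          · simp [hx, hy]
          · rw [if_pos hx, if_neg hy,
              blockKernel_eq_zero_of_regular_of_singular hM hB hx (not_not.1 hy)]
            ring
          · rw [if_neg hx, if_pos hy, ← conj_blockKernel B y x,
              blockKernel_eq_zero_of_regular_of_singular hM hB hy (not_not.1 hx), map_zero]
            ring
          · simp [hx, hy]
      _ = 0 := by
          refine Finset.sum_eq_zero fun y _ => ?_
          by_cases hy : ¬ p ∣ orderOf y
          · simp only [if_pos hy]
            rw [show ∑ x, blockKernel B x y * (χ : G → ℂ) y * conj ((ψ : G → ℂ) x) =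
              (χ : G → ℂ) y * ∑ x, blockKernel B x y * conj ((ψ : G → ℂ) x) by
                rw [Finset.mul_sum]; exact Finset.sum_congr rfl fun y _ => by ring,
              hperp, mul_zero]
          · simp only [if_neg hy, Finset.sum_const_zero]
  exact (mul_eq_zero.1 key).resolve_left (Nat.cast_ne_zero.2 Nat.card_pos.ne')

section Degree

variable [Finite G]

lemma isIrr_sum_sylow (χ : IrrCharacter G) (H : Subgroup G) [Fintype H] :
    ∃ n : ℕ, ∑ x : H, (χ : G → ℂ) (x : G) = (Nat.card H : ℂ) * n := by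
  obtain ⟨n, ρ, hρ, he⟩ := χ.2
  haveI : Invertible (Nat.card H : ℂ) := invertibleOfNonzero (Nat.cast_ne_zero.2 Nat.card_pos.ne')
  have h := Representation.card_inv_mul_sum_char_eq_finrank
    (ρ := (ρ.comp H.subtype : Representation ℂ H (Fin n → ℂ)))
  rw [inv_mul_eq_iff_eq_mul₀ (Nat.cast_ne_zero.2 Nat.card_pos.ne')] at h
  rw [← he]
  exact ⟨_, h⟩

/-- A combination of irreducible characters with local-integral coefficients vanishing on
non-identity `p`-elements has degree divisible by the order of a Sylow `p`-subgroup. -/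
theorem exists_mul_of_vanish [hp : Fact p.Prime] (c : IrrCharacter G → ℂ)
    (S : Set ℂ) (h0 : (0 : ℂ) ∈ S) (hadd : ∀ a ∈ S, ∀ b ∈ S, a + b ∈ S)
    (hmul : ∀ (n : ℕ), ∀ a ∈ S, a * n ∈ S) (hc : ∀ χ, c χ ∈ S)
    (hvan : ∀ x : G, x ≠ 1 → (∃ k, orderOf x = p ^ k) →
      ∑ χ : IrrCharacter G, c χ * (χ : G → ℂ) x = 0) :
    ∃ r ∈ S, ∑ χ : IrrCharacter G, c χ * (χ : G → ℂ) 1 =
      ((p ^ (Nat.card G).factorization p : ℕ) : ℂ) * r := by
  classical
  let P : Sylow p G := default
  haveI : Fintype (P : Subgroup G) := Fintype.ofFinite _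
  choose n hn using fun χ => isIrr_sum_sylow χ (P : Subgroup G)
  refine ⟨∑ χ : IrrCharacter G, c χ * n χ, ?_, ?_⟩
  · exact Finset.sum_induction _ (· ∈ S) (fun a b ha hb => hadd a ha b hb) h0
      fun χ _ => hmul _ _ (hc χ)
  calc ∑ χ : IrrCharacter G, c χ * (χ : G → ℂ) 1
      = ∑ x : (P : Subgroup G), ∑ χ : IrrCharacter G, c χ * (χ : G → ℂ) (x : G) := by
        rw [Finset.sum_eq_single (1 : (P : Subgroup G))]
        · rfl
        · intro x _ hx
          refine hvan _ (fun e => hx (Subtype.ext e)) ?_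
          obtain ⟨k, hk⟩ := IsPGroup.iff_orderOf.1 P.isPGroup' x
          exact ⟨k, by rw [Subgroup.orderOf_coe, hk]⟩
        · simp
    _ = _ := by
        rw [Finset.sum_comm, Finset.mul_sum]
        refine Finset.sum_congr rfl fun χ _ => ?_
        rw [← Finset.mul_sum, hn χ, show Nat.card (P : Subgroup G) = p ^ (Nat.card G).factorization p
          from P.card_eq_multiplicity]
        ring

end Degree

end Cfsg.Agent.BlockBasic
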