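import Cfsg.Agent.BlockBasic.Basic
import Cfsg.Agent.H83.RegSum
import Mathlib.GroupTheory.PGroup

/-!
# The sum of a character over the `p`-elements is divisible by `|G|_p` locally
-/

open scoped ComplexConjugate
open MonoidAlgebra

namespace Cfsg.Agent.BlockBasic

open CharBasic

universe u

variable {G : Type u} [Group G] {p : ℕ} {M : Ideal AlgInt}

lemma memLocalRing_avg [Fintype G] (hM : IsPModular p M) {χ : G → ℂ} (hχ : IsCharacter G χ) :
    MemLocalRing M ((Nat.card G : ℂ)⁻¹ * ∑ g, χ g) := by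
  obtain ⟨n, hn⟩ := classInner_isChar_nat hχ (IsIrr.isCharacter (trivialIrr (G := G)).2)
  rw [classInner_def] at hn
  have : (Nat.card G : ℂ)⁻¹ * ∑ g, χ g = n := by
    rw [← hn]; simp [trivialIrr]
  rw [this]
  exact memLocalRing_natCast hM n

open scoped Classical in
/-- `(1/|G|) ∑ χ(u)` over the `p`-elements `u` is a local integer. -/
theorem memLocalRing_sum_pElements [Fintype G] [hp : Fact p.Prime] (hM : IsPModular p M)
    {χ : G → ℂ} (hχ : IsCharacter G χ) :
    MemLocalRing M ((Nat.card G : ℂ)⁻¹ *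
      ∑ u ∈ Finset.univ.filter (fun u : G => ∃ k, orderOf u = p ^ k), χ u) := by
  let P : Sylow p G := default
  set X := G ⧸ (P : Subgroup G)
  haveI : Fintype X := Fintype.ofFinite _
  set m := Nat.card X with hm
  have hmp : ¬ p ∣ m := P.not_dvd_index' Subgroup.index_ne_zero_of_finite
  have hm0 : (m : ℂ) ≠ 0 := Nat.cast_ne_zero.2 fun h => hmp (h ▸ dvd_zero p)
  set c : G → ℕ := fun g => Nat.card (MulAction.fixedBy X g)
  set f : G → ℂ := fun g => (m : ℂ)⁻¹ * (c g : ℂ) with hf
  have hchar : IsCharacter G (fun g => (c g : ℂ)) := H83.isCharacter_fixCount _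
  -- `f` is supported on the `p`-elements
  have hsupp : ∀ g : G, (¬ ∃ k, orderOf g = p ^ k) → f g = 0 := by
    intro g hg
    have : IsEmpty (MulAction.fixedBy X g) := by
      refine ⟨fun ⟨x, hx⟩ => hg ?_⟩
      obtain ⟨y, rfl⟩ := QuotientGroup.mk_surjective x
      have hmem : y⁻¹ * (g * y) ∈ (P : Subgroup G) :=
        QuotientGroup.eq.1 (show (y : X) = ((g * y : G) : X) from hx.symm)
      obtain ⟨k, hk⟩ := IsPGroup.iff_orderOf.1 P.isPGroup' ⟨_, hmem⟩
      rw [Subgroup.orderOf_mk] at hk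
      refine ⟨k, ?_⟩
      rw [← MulEquiv.orderOf_eq (MulAut.conj y⁻¹) g, MulAut.conj_apply, inv_inv, mul_assoc]
      exact hk
    rw [hf]
    show (m : ℂ)⁻¹ * (Nat.card (MulAction.fixedBy X g) : ℂ) = 0
    rw [Nat.card_of_isEmpty, Nat.cast_zero, mul_zero]
  -- congruent to one on the `p`-elements
  have hone : ∀ g : G, (∃ k, orderOf g = p ^ k) → ∃ r, MemLocalRing M r ∧ 1 - f g = (p : ℂ) * r := by
    intro g ⟨k, hk⟩
    have hPg : IsPGroup p (Subgroup.zpowers g) := IsPGroup.of_card (by rw [Nat.card_zpowers, hk])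
    have h := hPg.card_modEq_card_fixedPoints X
    have hset : MulAction.fixedPoints (Subgroup.zpowers g) X = MulAction.fixedBy X g := by
      ext x
      constructor
      · exact fun h => h ⟨g, Subgroup.mem_zpowers g⟩
      · intro hx ⟨w, hw⟩
        obtain ⟨i, rfl⟩ := Subgroup.mem_zpowers_iff.1 hw
        exact (MulAction.mem_stabilizer_iff).1
          (Subgroup.zpow_mem _ (MulAction.mem_stabilizer_iff.2 hx) i)
    rw [hset] at h
    obtain ⟨d, hd⟩ := (Nat.modEq_iff_dvd.1 h.symm)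
    refine ⟨(m : ℂ)⁻¹ * (d : ℂ), memLocalRing_mul hM (memLocalRing_natCast_inv hM hmp)
      (by simpa using memLocalRing_coe hM (d : AlgInt)), ?_⟩
    have hd' : (m : ℂ) - (c g : ℂ) = (p : ℂ) * (d : ℂ) := by exact_mod_cast hd
    simp only [hf]
    field_simp
    linear_combination hd'
  -- the polynomial approximations
  have hN : ∀ (N : ℕ) (ψ : G → ℂ), IsCharacter G ψ →
      MemLocalRing M ((Nat.card G : ℂ)⁻¹ * ∑ g, ψ g * (1 - (1 - f g) ^ N)) := by
    intro N
    induction N with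
    | zero => intro ψ _; simp only [pow_zero, sub_self, mul_zero, Finset.sum_const_zero]; exact (locRing hM).zero_mem
    | succ N ih =>
      intro ψ hψ
      have hψc : IsCharacter G (ψ * fun g => (c g : ℂ)) := H83.isCharacter_mul hψ hchar
      have h1 := ih ψ hψ
      have h2 := memLocalRing_mul hM (memLocalRing_natCast_inv hM hmp) (memLocalRing_avg hM hψc)
      have h3 := memLocalRing_mul hM (memLocalRing_natCast_inv hM hmp) (ih _ hψc)
      show _ ∈ locRing hM
      convert (locRing hM).sub_mem ((locRing hM).add_mem h1 h2) h3 using 1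
      simp only [Pi.mul_apply, Finset.mul_sum, ← Finset.sum_add_distrib, ← Finset.sum_sub_distrib]
      refine Finset.sum_congr rfl fun g _ => ?_
      simp only [hf]
      ring
  set a := (Nat.card G).factorization p
  have h1 := hN (a + 1) χ hχ
  rw [← Finset.sum_filter_of_ne (p := fun g : G => ∃ k, orderOf g = p ^ k)
    (fun g _ hne => by
      by_contra hg
      exact hne (by rw [hsupp g hg]; simp))] at h1
  have h2 : MemLocalRing M ((Nat.card G : ℂ)⁻¹ *
      ∑ u ∈ Finset.univ.filter (fun u : G => ∃ k, orderOf u = p ^ k), χ u * (1 - f u) ^ (a + 1)) := by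
    rw [Finset.mul_sum]
    refine (locRing hM).sum_mem fun u hu => ?_
    obtain ⟨r, hr, he⟩ := hone u (Finset.mem_filter.1 hu).2
    rw [he, mul_pow]
    have hcard : (Nat.card G : ℂ) = ((p ^ a : ℕ) : ℂ) * ((Nat.card G / p ^ a : ℕ) : ℂ) := by
      rw [← Nat.cast_mul, Nat.ordProj_mul_ordCompl_eq_self]
    have : (Nat.card G : ℂ)⁻¹ * (χ u * ((p : ℂ) ^ (a + 1) * r ^ (a + 1))) =
        ((Nat.card G / p ^ a : ℕ) : ℂ)⁻¹ * ((p : ℂ) * (χ u * r ^ (a + 1))) := by
      rw [hcard, Nat.cast_pow, pow_succ]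
      field_simp [Nat.cast_ne_zero.2 hp.out.ne_zero]
    rw [this]
    refine memLocalRing_mul hM (memLocalRing_natCast_inv hM (Nat.not_dvd_ordCompl hp.out Nat.card_pos.ne')) ?_
    refine memLocalRing_mul hM (memLocalRing_natCast hM p) (memLocalRing_mul hM ?_ ((locRing hM).pow_mem hr _))
    obtain ⟨n, ρ, rfl⟩ := hχ
    exact memLocalRing_of_isIntegral hM (isIntegral_character ρ u)
  show _ ∈ locRing hM
  convert (locRing hM).add_mem h1 h2 using 1
  rw [← mul_add, ← Finset.sum_add_distrib]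
  congr 1
  exact Finset.sum_congr rfl fun u _ => by ring

open scoped Classical in
/-- The Külshammer–Osima formula for the principal block idempotent. -/
theorem principalBlock_coeff_congr [Fintype G] [hp : Fact p.Prime] (hM : IsPModular p M) (g : G)
    (hg : ¬ p ∣ orderOf g) :
    MemLocalIdeal M
      (((Finset.univ.filter fun y : G => ¬ p ∣ orderOf y).card : ℂ) * blockCoeff (principalBlock M G) g -
        (Nat.card {xy : G × G // (∃ k : ℕ, orderOf xy.1 = p ^ k) ∧ ¬ p ∣ orderOf xy.2 ∧ xy.1 * xy.2 = g} : ℂ)) := by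
  set B := principalBlock M G
  have hB : IsPBlock M B := isPBlock_principalBlock M
  set S : Finset G := Finset.univ.filter fun y => ¬ p ∣ orderOf y
  set U : Finset G := Finset.univ.filter fun u => ∃ k, orderOf u = p ^ k
  set Rz : MonoidAlgebra ℂ G := ofFun fun y => if y ∈ S then 1 else 0
  have hRc : IsCentralElt Rz := isCentralElt_ofFun fun y c => by
    have : orderOf (c * y * c⁻¹) = orderOf y := by
      rw [← MulAut.conj_apply, MulEquiv.orderOf_eq]
    simp only [S, Finset.mem_filter, Finset.mem_univ, true_and, this]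
  have hRi : IsIntElt M Rz := fun y => by
    rw [coeff_ofFun]; split
    · exact (locRing hM).one_mem
    · exact (locRing hM).zero_mem
  have hchi : ∀ χ : IrrCharacter G, chiLin (χ : G → ℂ) Rz = ∑ y ∈ S, (χ : G → ℂ) y := fun χ => by
    simp only [chiLin, Rz, coeff_ofFun, ite_mul, one_mul, zero_mul]
    rw [Finset.sum_ite_mem, Finset.univ_inter]
  have hout : ∀ χ : IrrCharacter G, χ ∉ B → omega (χ : G → ℂ) Rz = 0 := fun χ hχ => by
    have h0 := sum_regular_eq_zero hM (isPBlock_blockOf M χ) (self_mem_blockOf hM χ)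
      (ψ := trivialIrr) (fun h => hχ (sameBlock_symm h))
    rw [omega, hchi]
    have : ∑ y ∈ S, (χ : G → ℂ) y = 0 := by
      rw [← h0]
      refine Finset.sum_congr ?_ fun y _ => by simp [trivialIrr]
      ext y; simp [S]
    rw [this, zero_div]
  have hR : omega (fun _ : G => (1 : ℂ)) Rz = (S.card : ℂ) := by
    rw [omega, div_one]
    refine (hchi trivialIrr).trans ?_
    simp [trivialIrr]
  -- the pairs are counted by a product
  have hcount : (Nat.card {xy : G × G // (∃ k : ℕ, orderOf xy.1 = p ^ k) ∧ ¬ p ∣ orderOf xy.2 ∧ xy.1 * xy.2 = g} : ℂ) =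
      ∑ u ∈ U, Rz.coeff (u⁻¹ * g) := by
    simp only [Rz, coeff_ofFun, Finset.sum_boole]
    congr 1
    rw [Nat.card_eq_fintype_card, Fintype.card_subtype]
    refine Finset.card_bij' (fun xy _ => xy.1) (fun u _ => (u, u⁻¹ * g)) ?_ ?_ ?_ ?_
    · intro xy hxy
      simp only [Finset.mem_filter, Finset.mem_univ, true_and, S, U] at hxy ⊢
      obtain ⟨h1, h2, h3⟩ := hxy
      exact ⟨h1, by rw [← h3, inv_mul_cancel_left]; exact h2⟩
    · intro u hu
      simp only [Finset.mem_filter, Finset.mem_univ, true_and, S, U] at hu ⊢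
      exact ⟨hu.1, hu.2, mul_inv_cancel_left u g⟩
    · intro xy hxy
      simp only [Finset.mem_filter, Finset.mem_univ, true_and] at hxy
      obtain ⟨-, -, h3⟩ := hxy
      exact Prod.ext rfl (by rw [← h3, inv_mul_cancel_left])
    · intro u _
      rfl
  have hker : ∀ u ∈ U, u ≠ 1 → blockKernel B u g = 0 := fun u hu hu1 => by
    obtain ⟨k, hk⟩ := (Finset.mem_filter.1 hu).2
    rw [← conj_blockKernel, blockKernel_eq_zero_of_regular_of_singular hM hB hg, map_zero]
    rcases k with _ | k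
    · exact absurd (orderOf_eq_one_iff.1 (by simpa using hk)) hu1
    · exact hk ▸ dvd_pow_self p k.succ_ne_zero
  have he : blockCoeff B g = (Nat.card G : ℂ)⁻¹ * ∑ u ∈ U, blockKernel B u g := by
    rw [Finset.sum_eq_single_of_mem (1 : G) (Finset.mem_filter.2 ⟨Finset.mem_univ _, 0, by simp⟩) hker]
    rfl
  -- the product with the sum of the `p`-elements
  set Uz : MonoidAlgebra ℂ G := ofFun fun u => if u ∈ U then 1 else 0
  have hUc : IsCentralElt Uz := isCentralElt_ofFun fun u c => by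
    have : orderOf (c * u * c⁻¹) = orderOf u := by rw [← MulAut.conj_apply, MulEquiv.orderOf_eq]
    simp only [U, Finset.mem_filter, Finset.mem_univ, true_and, this]
  have hUchi : ∀ χ : IrrCharacter G, chiLin (χ : G → ℂ) Uz = ∑ u ∈ U, (χ : G → ℂ) u := fun χ => by
    simp only [chiLin, Uz, coeff_ofFun, ite_mul, one_mul, zero_mul]
    rw [Finset.sum_ite_mem, Finset.univ_inter]
  have hprod : ∑ u ∈ U, Rz.coeff (u⁻¹ * g) = (Nat.card G : ℂ)⁻¹ * ∑ χ : IrrCharacter G,
      omega (χ : G → ℂ) Rz * conj ((χ : G → ℂ) g) * ∑ u ∈ U, (χ : G → ℂ) u := by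
    have h1 : (Uz * Rz).coeff g = ∑ u ∈ U, Rz.coeff (u⁻¹ * g) := by
      rw [coeff_mul_apply_left, Finsupp.sum_fintype _ _ (by simp)]
      simp only [Uz, coeff_ofFun, ite_mul, one_mul, zero_mul]
      rw [Finset.sum_ite_mem, Finset.univ_inter]
    rw [← h1, coeff_eq_sum_omega (hUc.mul hRc)]
    congr 1
    refine Finset.sum_congr rfl fun χ _ => ?_
    rw [omega_mul χ.2 hUc, omega.eq_def _ Uz, hUchi]
    field_simp [irr_one_ne_zero χ.2]
  have hBsum : ∀ u : G, blockKernel B u g =
      ∑ χ : IrrCharacter G, if χ ∈ B then (χ : G → ℂ) u * conj ((χ : G → ℂ) g) else 0 := fun u => by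
    rw [blockKernel, finsum_mem_eq_sum_ite]
  have hdiff : (S.card : ℂ) * blockCoeff B g -
      (Nat.card {xy : G × G // (∃ k : ℕ, orderOf xy.1 = p ^ k) ∧ ¬ p ∣ orderOf xy.2 ∧ xy.1 * xy.2 = g} : ℂ) =
      ∑ χ : IrrCharacter G, if χ ∈ B then ((S.card : ℂ) - omega (χ : G → ℂ) Rz) *
        (conj ((χ : G → ℂ) g) * ((Nat.card G : ℂ)⁻¹ * ∑ u ∈ U, (χ : G → ℂ) u)) else 0 := by
    rw [hcount, hprod, he]
    simp only [hBsum]
    rw [Finset.sum_comm, Finset.mul_sum, Finset.mul_sum, Finset.mul_sum, ← Finset.sum_sub_distrib]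
    refine Finset.sum_congr rfl fun χ _ => ?_
    split_ifs with h
    · simp only [Finset.mul_sum, ← Finset.sum_sub_distrib]
      exact Finset.sum_congr rfl fun u _ => by ring
    · simp [hout χ h]
  rw [hdiff]
  refine memLocalIdeal_sum hM _ _ fun χ _ => ?_
  split_ifs with h
  · rw [mul_comm]
    refine memLocalIdeal_mul hM (memLocalRing_mul hM (memLocalRing_of_isIntegral hM (isIntegral_conj_apply χ g))
      (memLocalRing_sum_pElements hM (IsIrr.isCharacter χ.2))) ?_
    rw [← hR]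
    exact omega_congr hM (fun _ _ => rfl) (IsIrr.isClassFunction χ.2) h hRc hRi
  · exact memLocalIdeal_zero hM

/-- The number of `p`-regular elements is prime to `p`. -/
theorem not_dvd_card_regular [Fintype G] [hp : Fact p.Prime] (hM : IsPModular p M) :
    ¬ p ∣ Nat.card {y : G // ¬ p ∣ orderOf y} := by
  classical
  intro hd
  rw [Nat.card_eq_fintype_card, Fintype.card_subtype] at hd
  have h := principalBlock_coeff_congr hM (1 : G) (by rw [orderOf_one, Nat.dvd_one]; exact hp.out.ne_one)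
  have h1 : Nat.card {xy : G × G // (∃ k : ℕ, orderOf xy.1 = p ^ k) ∧ ¬ p ∣ orderOf xy.2 ∧ xy.1 * xy.2 = 1} = 1 := by
    rw [Nat.card_eq_one_iff_unique]
    refine ⟨⟨?_⟩, ⟨⟨(1, 1), ⟨0, by simp⟩, by rw [orderOf_one, Nat.dvd_one]; exact hp.out.ne_one, mul_one 1⟩⟩⟩
    have hall : ∀ x y : G, (∃ k, orderOf x = p ^ k) → ¬ p ∣ orderOf y → x * y = 1 → x = 1 ∧ y = 1 := by
      intro x y ⟨k, hk⟩ hy hxy
      have hyx : y = x⁻¹ := eq_inv_of_mul_eq_one_right hxy
      rcases k with _ | k
      · have hx1 : x = 1 := orderOf_eq_one_iff.1 (by simpa using hk)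
        exact ⟨hx1, by rw [hyx, hx1, inv_one]⟩
      · exact absurd (by rw [hyx, orderOf_inv, hk]; exact dvd_pow_self p k.succ_ne_zero) hy
    rintro ⟨⟨x, y⟩, hx, hy, hxy⟩ ⟨⟨x', y'⟩, hx', hy', hxy'⟩
    obtain ⟨rfl, rfl⟩ := hall x y hx hy hxy
    obtain ⟨rfl, rfl⟩ := hall x' y' hx' hy' hxy'
    rfl
  rw [h1, Nat.cast_one] at h
  have h2 : MemLocalIdeal M (((Finset.univ.filter fun y : G => ¬ p ∣ orderOf y).card : ℂ) *
      blockCoeff (principalBlock M G) 1) := by
    rw [mul_comm]
    exact memLocalIdeal_mul hM (memLocalRing_blockCoeff hM (isPBlock_principalBlock M) 1)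
      ((memLocalIdeal_natCast_iff hM _).2 hd)
  refine not_memLocalIdeal_one hM ?_
  have h3 := memLocalIdeal_sub hM h2 h
  simp only [Finset.filter_congr_decidable, sub_sub_cancel] at h3
  exact h3

end Cfsg.Agent.BlockBasic
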