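import Cfsg.Agent.BlockBasic.Local
import Mathlib.FieldTheory.Finite.Basic
import Mathlib.RingTheory.Adjoin.Basic
import Mathlib.RingTheory.IntegralClosure.IsIntegralClosure.Basic
import Mathlib.Algebra.Algebra.ZMod
import Mathlib.RingTheory.RootsOfUnity.Minpoly
import Mathlib.RingTheory.Polynomial.Cyclotomic.Basic

/-!
# Roots of unity of order prime to `p` and the residue field of `M`
-/

namespace Cfsg.Agent.BlockBasic


variable {p : ℕ} {M : Ideal AlgInt}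

lemma root_eq_one_of_sub_mem (hM : IsPModular p M) {ε : AlgInt} {m : ℕ} (hm : ¬ p ∣ m)
    (hε : ε ^ m = 1) (h : ε - 1 ∈ M) : ε = 1 := by
  by_contra hne
  have h1 : (∑ i ∈ Finset.range m, ε ^ i) * (ε - 1) = 0 := by rw [geom_sum_mul, hε, sub_self]
  have h2 := (mul_eq_zero.1 h1).resolve_right (sub_ne_zero.2 hne)
  haveI := isPrime hM
  have h3 : Ideal.Quotient.mk M (∑ i ∈ Finset.range m, ε ^ i) = (m : AlgInt ⧸ M) := by
    have he : Ideal.Quotient.mk M ε = 1 := by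
      rw [← map_one (Ideal.Quotient.mk M)]; exact Ideal.Quotient.eq.2 h
    simp [he]
  rw [h2, map_zero, eq_comm, ← map_natCast (Ideal.Quotient.mk M), Ideal.Quotient.eq_zero_iff_mem,
    natCast_mem_iff hM] at h3
  exact hm h3

/-- Distinct roots of unity of order prime to `p` stay distinct modulo `M`. -/
theorem root_unique (hM : IsPModular p M) {ε₁ ε₂ : AlgInt} {m₁ m₂ : ℕ} (hm₁ : ¬ p ∣ m₁)
    (hm₂ : ¬ p ∣ m₂) (h₁ : ε₁ ^ m₁ = 1) (h₂ : ε₂ ^ m₂ = 1) (h : ε₁ - ε₂ ∈ M) : ε₁ = ε₂ := by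
  have hm : ¬ p ∣ m₁ * m₂ := fun hd => (hM.1.dvd_mul.1 hd).elim hm₁ hm₂
  have hpos : m₂ ≠ 0 := by rintro rfl; exact hm₂ (dvd_zero p)
  obtain ⟨k, rfl⟩ := Nat.exists_eq_succ_of_ne_zero hpos
  have hinv : ε₂ * ε₂ ^ k = 1 := by rw [← pow_succ']; exact h₂
  have h3 : ε₁ * ε₂ ^ k = 1 := by
    refine root_eq_one_of_sub_mem hM hm ?_ ?_
    · rw [mul_pow, pow_mul ε₁, h₁, one_pow, one_mul, ← pow_mul, show k * (m₁ * (k + 1)) = (k + 1) * (k * m₁) by ring,
        pow_mul, h₂, one_pow]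
    · rw [show ε₁ * ε₂ ^ k - 1 = (ε₁ - ε₂) * ε₂ ^ k by rw [sub_mul, hinv]]
      exact M.mul_mem_right _ h
  calc ε₁ = ε₁ * (ε₂ * ε₂ ^ k) := by rw [hinv, mul_one]
    _ = ε₂ * (ε₁ * ε₂ ^ k) := by ring
    _ = ε₂ := by rw [h3, mul_one]

/-- In a domain of characteristic `p` a nonzero element integral over `ℤ` has finite order prime
to `p`. -/
theorem exists_pow_eq_one {K : Type*} [CommRing K] [IsDomain K] [Fact p.Prime] [CharP K p] {α : K}
    (hint : IsIntegral ℤ α) (hα0 : α ≠ 0) : ∃ m : ℕ, ¬ p ∣ m ∧ α ^ m = 1 := by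
  classical
  letI : Algebra (ZMod p) K := ZMod.algebra _ p
  haveI : IsScalarTower ℤ (ZMod p) K := IsScalarTower.of_algebraMap_eq' (RingHom.ext_int _ _)
  have hint' : IsIntegral (ZMod p) α := hint.tower_top
  haveI : Module.Finite (ZMod p) (Algebra.adjoin (ZMod p) {α}) :=
    Module.Finite.iff_fg.2 hint'.fg_adjoin_singleton
  haveI : Finite (Algebra.adjoin (ZMod p) {α}) := Module.finite_of_finite (ZMod p)
  obtain ⟨i, j, hij, hpow⟩ := Finite.exists_ne_map_eq_of_infinite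
    (fun n : ℕ => (⟨α ^ n, pow_mem (Algebra.self_mem_adjoin_singleton (ZMod p) α) n⟩ : Algebra.adjoin (ZMod p) {α}))
  wlog hlt : i < j generalizing i j
  · exact this j i hij.symm hpow.symm (lt_of_le_of_ne (not_lt.1 hlt) hij.symm)
  have hpow' : α ^ i * α ^ (j - i) = α ^ i * 1 := by
    rw [← pow_add, Nat.add_sub_cancel' hlt.le, mul_one]
    exact (congrArg Subtype.val hpow).symm
  have h1 : α ^ (j - i) = 1 := mul_left_cancel₀ (pow_ne_zero i hα0) hpow'
  obtain ⟨v, m, hm, hvm⟩ := Nat.exists_eq_pow_mul_and_not_dvd (n := j - i) (by omega) p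
    (Fact.out : p.Prime).ne_one
  refine ⟨m, hm, sub_eq_zero.1 (eq_zero_of_pow_eq_zero (n := p ^ v) ?_)⟩
  rw [sub_pow_char_pow, ← pow_mul, mul_comm m, ← hvm, h1, one_pow, sub_self]

/-- Every algebraic integer outside `M` has a power congruent to one, with exponent prime to `p`. -/
theorem exists_pow_sub_one_mem (hM : IsPModular p M) {a : AlgInt} (ha : a ∉ M) :
    ∃ m : ℕ, ¬ p ∣ m ∧ a ^ m - 1 ∈ M := by
  haveI : Fact p.Prime := ⟨hM.1⟩
  haveI := isPrime hM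
  haveI : CharP (AlgInt ⧸ M) p := ⟨fun n => by
    rw [← map_natCast (Ideal.Quotient.mk M), Ideal.Quotient.eq_zero_iff_mem, natCast_mem_iff hM]⟩
  have h1 : IsIntegral ℤ a := IsIntegralClosure.isIntegral ℤ ℂ a
  obtain ⟨m, hm, hpow⟩ := exists_pow_eq_one (p := p) (α := Ideal.Quotient.mk M a)
    (h1.map (Ideal.Quotient.mk M).toIntAlgHom) (fun h => ha (Ideal.Quotient.eq_zero_iff_mem.1 h))
  exact ⟨m, hm, by rw [← Ideal.Quotient.eq_zero_iff_mem, map_sub, map_one, map_pow, hpow, sub_self]⟩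

/-- Every algebraic integer outside `M` is congruent to a root of unity of order prime to `p`. -/
theorem exists_root_congr (hM : IsPModular p M) {a : AlgInt} (ha : a ∉ M) :
    ∃ ε : AlgInt, (∃ m : ℕ, ¬ p ∣ m ∧ ε ^ m = 1) ∧ a - ε ∈ M := by
  obtain ⟨m, hm, hpow⟩ := exists_pow_sub_one_mem hM ha
  have hm0 : m ≠ 0 := by rintro rfl; exact hm (dvd_zero p)
  haveI := isPrime hM
  have hζ := Complex.isPrimitiveRoot_exp m hm0
  set z := Complex.exp (2 * Real.pi * Complex.I / m)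
  let ζ : AlgInt := ⟨z, hζ.isIntegral (Nat.pos_of_ne_zero hm0)⟩
  have hζ' : IsPrimitiveRoot ζ m :=
    IsPrimitiveRoot.of_map_of_injective (f := AlgInt.val) hζ Subtype.val_injective
  have hprod : a ^ m - 1 = ∏ r ∈ Polynomial.nthRootsFinset m (1 : AlgInt), (a - r) := by
    have := congrArg (Polynomial.eval a) (Polynomial.X_pow_sub_one_eq_prod (Nat.pos_of_ne_zero hm0) hζ')
    simpa [Polynomial.eval_prod] using this
  rw [hprod] at hpow
  obtain ⟨r, hr, hrm⟩ := (Ideal.IsPrime.prod_mem_iff).1 hpow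
  exact ⟨r, ⟨m, hm, (Polynomial.mem_nthRootsFinset (Nat.pos_of_ne_zero hm0) (1 : AlgInt)).1 hr⟩, hrm⟩

end Cfsg.Agent.BlockBasic
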