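import Cfsg.Agent.BlockBasic.CoverDefect
import Cfsg.Agent.Cores.Constrained

/-!
# A single block over an invariant character of a normal `p'`-subgroup
-/

open scoped ComplexConjugate
open MonoidAlgebra

namespace Cfsg.Agent.BlockBasic

open CharBasic

universe u

variable {G : Type u} [Group G] [Fintype G] {p : ℕ} {M : Ideal AlgInt} {N : Subgroup G}
  [hN : N.Normal] [Fintype N]

omit [Fintype G] in
/-- The conjugates of an invariant character are itself. -/
lemma twistOrbit_eq_singleton [Finite G] [Fact p.Prime] (hM : IsPModular p M)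
    (hNp : ¬ p ∣ Nat.card N) {θ : IrrCharacter N}
    (hinv : ∀ d : G, H80.conjTwist N θ d = θ) : twistOrbit N M θ = {θ} := by
  ext ψ
  simp only [twistOrbit, Set.mem_ofPred_eq, Set.mem_singleton_iff, hinv]
  exact ⟨fun ⟨_, h⟩ => eq_of_sameBlock_of_not_dvd hM hNp h,
    fun h => ⟨1, h ▸ sameBlock_refl hM _⟩⟩

/-- The idempotent of an invariant character detects the characters above it. -/
lemma omega_orbitElem [Fact p.Prime] (hM : IsPModular p M)
    (hNp : ¬ p ∣ Nat.card N) {θ : IrrCharacter N}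
    (hinv : ∀ d : G, H80.conjTwist N θ d = θ) (χ : IrrCharacter G) :
    open scoped Classical in
    omega (χ : G → ℂ) (orbitElem N M θ) =
      if classInner (fun n : N => (χ : G → ℂ) n) (θ : N → ℂ) ≠ 0 then 1 else 0 := by
  classical
  obtain ⟨hEc, hEs, hEr, -⟩ := orbitElem_spec N hM θ
  split_ifs with h
  · rw [omega_eq_omega_resMap χ θ h hEc hEs, hEr, twistOrbit_eq_singleton hM hNp hinv,
      omega_blockElem, if_pos (Set.mem_singleton θ)]
  · obtain ⟨φ, hφ⟩ := exists_constituent χ N
    rw [omega_eq_omega_resMap χ φ hφ hEc hEs, hEr, twistOrbit_eq_singleton hM hNp hinv,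
      omega_blockElem, if_neg]
    rw [Set.mem_singleton_iff]
    rintro rfl
    exact h hφ

/-- If all characters over an invariant character of a normal `p'`-subgroup share one block, the
defect groups of that block are the Sylow subgroups. -/
theorem single_block_over [Fact p.Prime] (hM : IsPModular p M) (hNp : ¬ p ∣ Nat.card N)
    {θ : IrrCharacter N} (hinv : ∀ d : G, H80.conjTwist N θ d = θ)
    (hone : ∀ χ ψ : IrrCharacter G, classInner (fun n : N => (χ : G → ℂ) n) (θ : N → ℂ) ≠ 0 →
      classInner (fun n : N => (ψ : G → ℂ) n) (θ : N → ℂ) ≠ 0 →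
      SameBlock M (χ : G → ℂ) (ψ : G → ℂ)) :
    ∃ B : Set (IrrCharacter G), IsPBlock M B ∧
      (∀ χ : IrrCharacter G, χ ∈ B ↔ classInner (fun n : N => (χ : G → ℂ) n) (θ : N → ℂ) ≠ 0) ∧
      blockElem B = orbitElem N M θ ∧
      (∀ P : Sylow p G, IsDefectGroup p M B (P : Subgroup G)) ∧
      ∀ D : Subgroup G, IsDefectGroup p M B D → ∃ P : Sylow p G, D = (P : Subgroup G) := by
  classical
  obtain ⟨χ₀, hχ₀⟩ := exists_over N θ
  set B := blockOf M (χ₀ : G → ℂ)
  have hB : IsPBlock M B := isPBlock_blockOf M χ₀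
  have hmem : ∀ χ : IrrCharacter G,
      χ ∈ B ↔ classInner (fun n : N => (χ : G → ℂ) n) (θ : N → ℂ) ≠ 0 :=
    fun χ => ⟨fun h => constituent_of_sameBlock hM hNp h hχ₀, fun h => hone χ₀ χ hχ₀ h⟩
  obtain ⟨hEc, hEs, -, -⟩ := orbitElem_spec N hM θ
  have hBE : blockElem B = orbitElem N M θ := eq_of_omega_eq (isCentralElt_blockElem B) hEc
    fun χ => by rw [omega_blockElem, omega_orbitElem hM hNp hinv]; simp only [hmem]
  -- the size of a defect class is prime to `p`
  have hreg : ∀ g : G, IsDefectClass M B g →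
      ¬ p ∣ (Subgroup.centralizer ({g} : Set G)).index := by
    intro g hg hd
    have hgN : g ∈ N := by_contra fun h => hg.2.1 (by
      rw [← coeff_blockElem, hBE, hEs g h]; exact memLocalIdeal_zero hM)
    apply hg.2.2 χ₀ (self_mem_blockOf hM χ₀)
    rw [(classInner_ne_zero_iff_centralChar χ₀ θ).1 hχ₀ ⟨g, hgN⟩, ← omega_resMap_classSum]
    let f : G → ℂ := fun x => if h : x ∈ N then (θ : N → ℂ) ⟨x, h⟩ else 0
    have hf : IsClassFunction G f := by
      intro x c
      by_cases hx : x ∈ N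
      · simp only [f, dif_pos hx, dif_pos (hN.conj_mem x hx c)]
        have := congrArg (fun φ : IrrCharacter N => (φ : N → ℂ) ⟨x, hx⟩) (hinv c)
        simpa only [H80.conjTwist_apply] using this
      · have hx' : ¬ c * x * c⁻¹ ∈ N := fun h => hx (by simpa [mul_assoc] using hN.conj_mem _ h c⁻¹)
        simp only [f, dif_neg hx, dif_neg hx']
    have hfθ : (fun n : N => f n) = (θ : N → ℂ) := funext fun n => by simp [f]
    have h1 : omega (θ : N → ℂ) (resMap N (classSum g)) = centralChar f g := by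
      rw [← omega_classSum hf, omega, omega, ← hfθ,
        chiLin_resMap (coeff_classSum_eq_zero hN hgN)]
      simp only [Subgroup.coe_one]
    rw [h1, centralChar]
    have hθ1 : f 1 = (charDegree (θ : N → ℂ) : ℂ) := by
      rw [show f 1 = (θ : N → ℂ) 1 by simp [f]; rfl, apply_one_eq_charDegree]
    rw [hθ1, div_eq_mul_inv, mul_assoc, mul_comm]
    refine memLocalIdeal_mul hM (memLocalRing_mul hM ?_ ?_)
      ((memLocalIdeal_natCast_iff hM _).2 hd)
    · simp only [f, dif_pos hgN]
      exact memLocalRing_of_isIntegral hM (isIntegral_apply θ _)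
    · exact memLocalRing_natCast_inv hM fun h => hNp (h.trans (charDegree_dvd θ))
  have hsyl : ∀ D : Subgroup G, IsDefectGroup p M B D →
      ∃ P : Sylow p G, D = (P : Subgroup G) := by
    rintro D ⟨g, hg, S, rfl⟩
    have hcard : Nat.card (H35.sylImage S) = p ^ (Nat.card G).factorization p := by
      rw [H35.card_sylImage, ← H35.factorization_index_add (p := p) g,
        Nat.factorization_eq_zero_of_not_dvd (hreg g hg), zero_add]
    exact ⟨Sylow.ofCard _ hcard, rfl⟩
  refine ⟨B, hB, hmem, hBE, fun P => ?_, hsyl⟩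
  obtain ⟨g, hg⟩ := exists_isDefectClass (p := p) hM hB
  have hD₀ : IsDefectGroup p M B (H35.sylImage (default : Sylow p (Subgroup.centralizer ({g} : Set G)))) :=
    ⟨g, hg, default, rfl⟩
  obtain ⟨P₀, hP₀⟩ := hsyl _ hD₀
  obtain ⟨c, hc⟩ := MulAction.exists_smul_eq G P₀ P
  rw [← hc, Sylow.coe_subgroup_smul, ← hP₀]
  exact H35.isDefectGroup_conj hD₀ c

end Cfsg.Agent.BlockBasic

namespace Cfsg.Agent.BlockBasic

open CharBasic

universe u

variable {G : Type u} [Group G] [Fintype G] {p : ℕ} {M : Ideal AlgInt}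

/-- **Fong**: in a `p`-constrained group the characters over an invariant character of `O_{p'}`
form one block of full defect. -/
theorem single_block_over_pPrimeCore [Fact p.Prime] (hM : IsPModular p M)
    (hcon : IsPConstrained p G) (N : Subgroup G) [hN : N.Normal] [Fintype N]
    (hNdef : N = pPrimeCore p G) {θ : IrrCharacter N}
    (hinv : ∀ d : G, H80.conjTwist N θ d = θ) :
    ∃ B : Set (IrrCharacter G), IsPBlock M B ∧
      (∀ χ : IrrCharacter G, χ ∈ B ↔ classInner (fun n : N => (χ : G → ℂ) n) (θ : N → ℂ) ≠ 0) ∧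
      blockElem B = orbitElem N M θ ∧
      (∀ P : Sylow p G, IsDefectGroup p M B (P : Subgroup G)) ∧
      ∀ D : Subgroup G, IsDefectGroup p M B D → ∃ P : Sylow p G, D = (P : Subgroup G) := by
  classical
  have hNp : ¬ p ∣ Nat.card N := by subst hNdef; exact Cores.not_dvd_card_pPrimeCore
  refine single_block_over hM hNp hinv fun χ₁ χ₂ h₁ h₂ => ?_
  set K := pPrimePCore p G
  have hNK : N ≤ K := hNdef ▸ Cores.pPrimeCore_le_pPrimePCore
  set N' := N.subgroupOf K
  set e : N' ≃* N := Subgroup.subgroupOfEquivOfLe hNK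
  let θ' : IrrCharacter N' :=
    ⟨fun x => (θ : N → ℂ) (e x), H80.isIrrCharacter_comp_mulEquiv e θ.2⟩
  have hN'p : ¬ p ∣ Nat.card N' := by rwa [Nat.card_congr e.toEquiv]
  have hinv' : ∀ d : K, H80.conjTwist N' θ' d = θ' := by
    intro d
    apply Subtype.ext
    funext n
    conv_rhs =>
      change (θ : N → ℂ) (e n)
      rw [← hinv d]
    rw [H80.conjTwist_apply, H80.conjTwist_apply]
    show (θ : N → ℂ) (e _) = _
    congr 1
  -- the index is a power of `p`
  have hidx : ∃ k : ℕ, N'.index = p ^ k := by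
    obtain ⟨k, hk⟩ := IsPGroup.iff_card.mp
      (Cores.pCore_isPGroup (p := p) (G := G ⧸ pPrimeCore p G))
    refine ⟨k, ?_⟩
    rw [← hk, ← Cores.map_pPrimePCore, Cores.card_map_mk']
    subst hNdef
    rfl
  obtain ⟨b, hb, hbmem, hbE, hbS, -⟩ := single_block_over hM hN'p hinv'
    fun φ ψ hφ hψ => (sameBlock_iff_constituent hM hN'p hidx φ ψ).2 ⟨θ', hφ, hψ⟩
  -- the idempotents agree
  obtain ⟨hEc, hEs, -, -⟩ := orbitElem_spec N hM θ
  have hres : resMap K (orbitElem N M θ) = blockElem b := by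
    rw [hbE]
    apply coeff_injective
    ext x
    simp only [coeff_resMap, orbitElem, coeff_ofFun, twistOrbit_eq_singleton hM hNp hinv,
      twistOrbit_eq_singleton hM hN'p hinv']
    by_cases hx : (x : G) ∈ N
    · rw [dif_pos hx, dif_pos (show x ∈ N' from Subgroup.mem_subgroupOf.2 hx), blockCoeff,
        blockCoeff, finsum_mem_singleton, finsum_mem_singleton, Nat.card_congr e.toEquiv]
      show _ = _ * ((θ : N → ℂ) (e 1) * conj ((θ : N → ℂ) (e _)))
      rw [map_one]
      congr 1
    · rw [dif_neg hx, dif_neg (show x ∉ N' from fun h => hx (Subgroup.mem_subgroupOf.1 h))]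
  have hEK : ∀ g, g ∉ K → (orbitElem N M θ).coeff g = 0 := fun g hg => hEs g fun h => hg (hNK h)
  have hover : ∀ χ : IrrCharacter G, classInner (fun n : N => (χ : G → ℂ) n) (θ : N → ℂ) ≠ 0 →
      ∀ φ : IrrCharacter K, classInner (fun n : K => (χ : G → ℂ) n) (φ : K → ℂ) ≠ 0 → φ ∈ b := by
    intro χ hχ φ hφ
    have h := omega_eq_omega_resMap χ φ hφ hEc hEK
    rw [omega_orbitElem hM hNp hinv, if_pos hχ, hres, omega_blockElem] at h
    by_contra hne
    rw [if_neg hne] at h
    exact one_ne_zero h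
  -- a Sylow subgroup of `O_{p',p}` as defect group
  set P₀ : Sylow p K := default
  set Q := (P₀ : Subgroup K).map K.subtype
  obtain ⟨g₀, hg₀, S, hS⟩ := hbS P₀
  have hQg : ∀ q ∈ Q, q * (g₀ : G) = (g₀ : G) * q := by
    rintro _ ⟨q, hq, rfl⟩
    rw [hS] at hq
    exact congrArg Subtype.val
      (Subgroup.mem_centralizer_singleton_iff.1 (Subgroup.map_subtype_le _ hq))
  have hQp : IsPGroup p Q := P₀.isPGroup'.map _
  -- regular classes outside `N` have central character in `M`
  have hkey : ∀ χ : IrrCharacter G, classInner (fun n : N => (χ : G → ℂ) n) (θ : N → ℂ) ≠ 0 →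
      ∀ g : G, g ∉ N → ¬ p ∣ orderOf g → MemLocalIdeal M (centralChar (χ : G → ℂ) g) := by
    intro χ hχ g hgN hgr
    by_contra hu
    have hB := isPBlock_blockOf M χ
    obtain ⟨φ, hφ⟩ := exists_constituent χ K
    have hφb := hover χ hχ φ hφ
    have hg₀' := hg₀.2.1
    rw [isPBlock_eq_blockOf hM hb hφb] at hg₀'
    obtain ⟨h, hh, hQh⟩ := exists_blockCoeff_ne_of_covers hM hB (self_mem_blockOf hM χ) hφ
      (Subgroup.map_subtype_le _) hQp hg₀' hQg
    obtain ⟨x, hgx, hx⟩ :=
      H35.exists_conj_mem_centralizer hM hB (self_mem_blockOf hM χ) hu hh Q hQp hQh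
    have hxK : x ∈ K := hcon P₀ hx
    obtain ⟨c, rfl⟩ := isConj_iff.1 hgx
    have hxN : (⟨c * g * c⁻¹, hxK⟩ : K) ∈ N' := by
      refine mem_of_regular hidx ?_
      rw [← Subgroup.orderOf_coe, orderOf_injective (MulAut.conj c).toMonoidHom
        (MulAut.conj c).injective g |>.symm.trans rfl] at *
      exact hgr
    exact hgN (by simpa [mul_assoc] using hN.conj_mem _ (Subgroup.mem_subgroupOf.1 hxN) c⁻¹)
  refine sameBlock_of_congr_regular hM fun g hg => ?_
  by_cases hgN : g ∈ N
  · rw [(classInner_ne_zero_iff_centralChar χ₁ θ).1 h₁ ⟨g, hgN⟩,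
      (classInner_ne_zero_iff_centralChar χ₂ θ).1 h₂ ⟨g, hgN⟩, sub_self]
    exact memLocalIdeal_zero hM
  · exact memLocalIdeal_sub hM (hkey χ₁ h₁ g hgN hg) (hkey χ₂ h₂ g hgN hg)

end Cfsg.Agent.BlockBasic
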