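import Cfsg.Agent.BlockBasic.CoverAll
import Cfsg.Prelude.Def_BlockLocal

/-!
# A covered block stable under a defect group
-/

open scoped ComplexConjugate
open MonoidAlgebra

namespace Cfsg.Agent.BlockBasic

open CharBasic

universe u

variable {G : Type u} [Group G] [Fintype G] {p : ℕ} {M : Ideal AlgInt} [Fact p.Prime]
variable {N : Subgroup G} [hN : N.Normal] [Fintype N]

/-- A defect group of a block fixes a covered block having its intersection with `N` as a defect
group. -/
theorem exists_stable_covered (hM : IsPModular p M) {B : Set (IrrCharacter G)} (hB : IsPBlock M B)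
    {P : Subgroup G} (hP : IsDefectGroup p M B P) :
    ∃ φ : IrrCharacter N,
      (∀ x ∈ P, SameBlock M (H80.conjTwist N φ x : N → ℂ) (φ : N → ℂ)) ∧
      (∃ χ ∈ B, classInner (fun n : N => (χ : G → ℂ) n) (φ : N → ℂ) ≠ 0) ∧
      IsDefectGroup p M (blockOf M (φ : N → ℂ)) ((P ⊓ N).subgroupOf N) := by
  classical
  have hPdef := hP
  obtain ⟨χ₀, hχ₀⟩ := isPBlock_nonempty hM hB
  obtain ⟨θ, hθ⟩ := exists_constituent χ₀ N
  have hPp : IsPGroup p P := IsPGroup.of_card (H35.card_defectGroup hM hB hP)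
  obtain ⟨y, hy, S, hS⟩ := hP
  obtain ⟨hEc, -, -, hEi⟩ := orbitElem_spec N hM θ
  obtain ⟨a, ha, hau⟩ : ∃ a : G, (∀ q ∈ P, q * a = a * q) ∧
      ¬ MemLocalIdeal M ((orbitElem N M θ).coeff a) := by
    by_contra hc
    push Not at hc
    apply hy.2.1
    rw [← coeff_blockElem, ← blockElem_mul_orbitElem hM hB hχ₀ hθ,
      isCentralElt_comm (isCentralElt_blockElem B)]
    exact coeff_mul_mem_of_vanish hM hEi (isIntElt_blockElem hM hB) hPp (fun q _ g => hEc g q)
      (fun q _ g => isCentralElt_blockElem B g q)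
      (fun q hq => Subgroup.mem_centralizer_singleton_iff.1 (Subgroup.map_subtype_le _ (hS.le hq))) hc
  have haN : a ∈ N := by_contra fun hn => hau (by
    simp only [orbitElem, coeff_ofFun, dif_neg hn]; exact memLocalIdeal_zero hM)
  simp only [orbitElem, coeff_ofFun, dif_pos haN] at hau
  set O := twistOrbit N M θ with hO
  have hOtw : ∀ (ψ : IrrCharacter N) (e : G), ψ ∈ O → H80.conjTwist N ψ e ∈ O := by
    rintro ψ e ⟨d, hd⟩
    refine ⟨d * e, ?_⟩
    rw [← conjTwist_conjTwist]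
    exact sameBlock_twist e hd
  let tw : G → Set (IrrCharacter N) → Set (IrrCharacter N) := fun d β =>
    (fun ψ => H80.conjTwist N ψ d⁻¹) '' β
  have htw : ∀ (d : G) (ψ : IrrCharacter N),
      tw d (blockOf M (ψ : N → ℂ)) = blockOf M (H80.conjTwist N ψ d⁻¹ : N → ℂ) := by
    intro d ψ
    ext η
    refine ⟨?_, fun hη => ⟨H80.conjTwist N η d, ?_, by
      simp [conjTwist_conjTwist, conjTwist_one]⟩⟩
    · rintro ⟨η', hη', rfl⟩
      exact (mem_blockOf_twist_iff N ψ η' d⁻¹).2 hη'
    · rw [← mem_blockOf_twist_iff N ψ _ d⁻¹, conjTwist_conjTwist, mul_inv_cancel, conjTwist_one]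
      exact hη
  let X : Type u := {β : Set (IrrCharacter N) // ∃ ψ ∈ O, blockOf M (ψ : N → ℂ) = β}
  haveI : Fintype X := Fintype.ofFinite X
  let _ : MulAction P X :=
    { smul := fun q β => ⟨tw q β.1, by
        obtain ⟨ψ, hψ, hβ⟩ := β.2
        exact ⟨H80.conjTwist N ψ (q : G)⁻¹, hOtw _ _ hψ, by rw [← hβ, htw]⟩⟩
      one_smul := fun β => Subtype.ext (by
        show tw ((1 : P) : G) β.1 = β.1
        simp [tw, conjTwist_one])
      mul_smul := fun q r β => Subtype.ext (by
        show tw ((q * r : P) : G) β.1 = tw q (tw r β.1)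
        simp [tw, Set.image_image, conjTwist_conjTwist]) }
  let F : X → ℂ := fun β => blockCoeff β.1 ⟨a, haN⟩
  have hsum : ∑ β : X, F β = blockCoeff O ⟨a, haN⟩ := by
    simp only [F, blockCoeff, finsum_mem_eq_sum_ite, ← Finset.mul_sum]
    congr 1
    rw [Finset.sum_comm]
    refine Finset.sum_congr rfl fun φ _ => ?_
    split_ifs with hφ
    · rw [Finset.sum_eq_single (⟨blockOf M (φ : N → ℂ), φ, hφ, rfl⟩ : X)]
      · rw [if_pos (self_mem_blockOf hM φ)]
      · rintro ⟨β, ψ, hψ, rfl⟩ _ hne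
        rw [if_neg]
        exact fun hmem => hne (Subtype.ext (blockOf_eq_of_sameBlock hM hmem))
      · simp
    · refine Finset.sum_eq_zero ?_
      rintro ⟨β, ψ, ⟨d, hd⟩, rfl⟩ _
      rw [if_neg]
      exact fun hmem => hφ ⟨d, sameBlock_trans hM hd hmem⟩
  have hFi : ∀ β, MemLocalRing M (F β) := by
    rintro ⟨β, ψ, -, rfl⟩
    exact memLocalRing_blockCoeff hM (isPBlock_blockOf M ψ) _
  have hFinv : ∀ (q : P) (β : X), F (q • β) = F β := by
    intro q β
    show blockCoeff (tw q β.1) ⟨a, haN⟩ = blockCoeff β.1 ⟨a, haN⟩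
    rw [blockCoeff_conjNormal N ((q : G)⁻¹) (A := β.1) (fun φ => ?_)]
    · congr 1
      apply Subtype.ext
      rw [MulAut.conjNormal_apply]
      calc (q : G)⁻¹ * a * ((q : G)⁻¹)⁻¹ = (q : G)⁻¹ * (a * q) := by group
        _ = (q : G)⁻¹ * (q * a) := by rw [ha q q.2]
        _ = a := by group
    · refine ⟨?_, fun h => ⟨φ, h, rfl⟩⟩
      rintro ⟨η, hη, he⟩
      have := congrArg (fun ψ => H80.conjTwist N ψ (q : G)) he
      simp only [conjTwist_conjTwist, inv_mul_cancel, conjTwist_one] at this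
      exact this ▸ hη
  have hfix := H35.sum_sub_fixed_mem hM hPp F hFi hFinv
  obtain ⟨β, hβfix, hβu⟩ : ∃ β : X, β ∈ MulAction.fixedPoints P X ∧ ¬ MemLocalIdeal M (F β) := by
    by_contra hc
    push Not at hc
    apply hau
    rw [← hsum]
    simpa using memLocalIdeal_add hM hfix (memLocalIdeal_sum hM
      (Finset.univ.filter fun β : X => β ∈ MulAction.fixedPoints P X) F
      fun β hβ => hc β (Finset.mem_filter.1 hβ).2)
  obtain ⟨φ, ⟨d, hd⟩, hφβ⟩ := β.2
  refine ⟨φ, fun x hx => ?_, ?_, ?_⟩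
  · have h1 := congrArg Subtype.val (hβfix ⟨x⁻¹, P.inv_mem hx⟩)
    have h2 : tw x⁻¹ (blockOf M (φ : N → ℂ)) = blockOf M (φ : N → ℂ) := by rw [hφβ]; exact h1
    rw [htw, inv_inv] at h2
    have := self_mem_blockOf hM (H80.conjTwist N φ x)
    rw [h2] at this
    exact sameBlock_symm this
  · set θd := H80.conjTwist N θ d
    have hθd : classInner (fun n : N => (χ₀ : G → ℂ) n) (θd : N → ℂ) ≠ 0 := by
      rw [H80.classInner_res_conjTwist N (IsIrr.isClassFunction χ₀.2)]; exact hθ
    exact exists_over_of_covers hM hB hχ₀ hθd hd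
  · set b := blockOf M (φ : N → ℂ)
    have hb : IsPBlock M b := isPBlock_blockOf M φ
    set R := (P ⊓ N).subgroupOf N
    have hu : ¬ MemLocalIdeal M (blockCoeff b ⟨a, haN⟩) := by
      simpa only [F, ← hφβ] using hβu
    obtain ⟨D, hD, hRD⟩ := H35.exists_defectGroup_ge hM hb hu R
      ((hPp.to_le inf_le_left).comap_of_injective N.subtype (Subgroup.subtype_injective N)) (by
        intro q hq
        rw [Subgroup.mem_centralizer_singleton_iff]
        exact Subtype.ext (ha q (Subgroup.mem_subgroupOf.1 hq).1))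
    set θd := H80.conjTwist N θ d
    have hθd : classInner (fun n : N => (χ₀ : G → ℂ) n) (θd : N → ℂ) ≠ 0 := by
      rw [H80.classInner_res_conjTwist N (IsIrr.isClassFunction χ₀.2)]; exact hθ
    have hDN : (D.map N.subtype).subgroupOf N = D :=
      Subgroup.comap_map_eq_self_of_injective N.subtype_injective D
    obtain ⟨E, hE, hEN⟩ := exists_defectGroup_inf_eq hM hb (Subgroup.map_subtype_le D)
      (hDN.symm ▸ hD) hB ⟨χ₀, hχ₀, θd, sameBlock_symm hd, hθd⟩
    obtain ⟨c, hc⟩ := H35.defectGroup_le_conj hM hB hPdef hE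
    have h1 : D.map N.subtype ≤ (P ⊓ N).map (MulAut.conj c).toMonoidHom := by
      rw [← hEN]
      rintro x ⟨hxE, hxN⟩
      obtain ⟨z, hz, rfl⟩ := Subgroup.mem_map.1 (hc hxE)
      refine Subgroup.mem_map_of_mem _ ⟨hz, ?_⟩
      simpa [mul_assoc] using hN.conj_mem _ hxN c⁻¹
    have h2 := Subgroup.card_le_of_le h1
    rw [Subgroup.card_map_of_injective N.subtype_injective,
      Subgroup.card_map_of_injective (MulAut.conj c).injective,
      ← Nat.card_congr (Subgroup.subgroupOfEquivOfLe (inf_le_right : P ⊓ N ≤ N)).toEquiv] at h2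
    rw [Subgroup.eq_of_le_of_card_ge hRD h2]
    exact hD

end Cfsg.Agent.BlockBasic
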