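import Cfsg.Agent.BlockBasic.MaximalPair
import Cfsg.Agent.H35.DegreeIndex

/-!
# Characters of defect zero modulo a normal `p`-subgroup
-/

open scoped ComplexConjugate

namespace Cfsg.Agent.BlockBasic.Weight

open CharBasic BlockBasic

universe u

variable {G : Type u} [Group G] [Fintype G] {p : ℕ} [Fact p.Prime]

omit [Fact p.Prime] in
/-- Sums of functions invariant under `Q` over `Q C`. -/
lemma sum_sup (Q C : Subgroup G) [Q.Normal] [Fintype Q] [Fintype C] [Fintype ↥(Q ⊔ C)] (f : G → ℂ)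
    (hf : ∀ q ∈ Q, ∀ c, f (q * c) = f c) :
    (Nat.card Q : ℂ) * ∑ c : C, f c = (Nat.card ↥(Q ⊓ C) : ℂ) * ∑ l : ↥(Q ⊔ C), f l := by
  classical
  let π : Q × C → ↥(Q ⊔ C) := fun x => ⟨(x.1 : G) * x.2, Subgroup.mul_mem_sup x.1.2 x.2.2⟩
  have h1 : (Nat.card Q : ℂ) * ∑ c : C, f c = ∑ x : Q × C, f (π x : G) := by
    rw [Fintype.sum_prod_type]
    simp only [π, fun (q : Q) (c : C) => hf q q.2 c, Finset.sum_const, Finset.card_univ,
      nsmul_eq_mul, Nat.card_eq_fintype_card]
  rw [h1, ← Finset.sum_fiberwise_of_maps_to (g := π) (t := Finset.univ) (fun x _ => Finset.mem_univ _),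
    Finset.mul_sum]
  refine Finset.sum_congr rfl fun l _ => ?_
  rw [Finset.sum_congr rfl (g := fun _ : Q × C => f (l : G)) (fun x hx => by
      rw [(Finset.mem_filter.1 hx).2]), Finset.sum_const, nsmul_eq_mul]
  congr 1
  norm_cast
  obtain ⟨q, hq, c, hc, hqc⟩ := Subgroup.mem_sup_of_normal_left.1 l.2
  rw [← Fintype.card_subtype, ← Nat.card_eq_fintype_card]
  exact Nat.card_congr
    { toFun := fun x => ⟨q⁻¹ * (x.1.1 : G), by
        refine ⟨Q.mul_mem (Q.inv_mem hq) x.1.1.2, ?_⟩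
        have h : (x.1.1 : G) * x.1.2 = q * c := (congrArg Subtype.val x.2).trans hqc.symm
        rw [eq_mul_inv_iff_mul_eq.2 h, show q⁻¹ * (q * c * (x.1.2 : G)⁻¹) = c * (x.1.2 : G)⁻¹ by group]
        exact C.mul_mem hc (C.inv_mem x.1.2.2)⟩
      invFun := fun z => ⟨(⟨q * (z : G), Q.mul_mem hq z.2.1⟩,
          ⟨(z : G)⁻¹ * c, C.mul_mem (C.inv_mem z.2.2) hc⟩), Subtype.ext (by
            simp only [π, mul_assoc, mul_inv_cancel_left]; exact hqc)⟩
      left_inv := fun x => by
        apply Subtype.ext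
        refine Prod.ext (Subtype.ext (mul_inv_cancel_left _ _)) (Subtype.ext ?_)
        have h : (x.1.1 : G) * x.1.2 = q * c := (congrArg Subtype.val x.2).trans hqc.symm
        show (q⁻¹ * (x.1.1 : G))⁻¹ * c = x.1.2
        rw [mul_inv_rev, inv_inv, mul_assoc, ← h, inv_mul_cancel_left]
      right_inv := fun z => Subtype.ext (inv_mul_cancel_left _ _) }

omit [Fact p.Prime] in
/-- A constituent on a normal subgroup trivial on `Q`. -/
lemma exists_trivial_constituent (Q K : Subgroup G) [Q.Normal] [K.Normal] [Fintype K] (hQK : Q ≤ K)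
    (χ : IrrCharacter G) (hQ : ∀ q ∈ Q, (χ : G → ℂ) q = (χ : G → ℂ) 1) :
    ∃ ψ : IrrCharacter K, classInner (fun k : K => (χ : G → ℂ) k) (ψ : K → ℂ) ≠ 0 ∧
      ∀ q : K, (q : G) ∈ Q → (ψ : K → ℂ) q = (ψ : K → ℂ) 1 := by
  classical
  haveI : Fintype (Q.subgroupOf K) := Fintype.ofFinite _
  have hcl : IsClassFunction K (fun k : K => (χ : G → ℂ) k) :=
    fun a b => IsIrr.isClassFunction χ.2 (a : G) (b : G)
  have hne : ∑ q : Q.subgroupOf K, (χ : G → ℂ) ((q : K) : G) ≠ 0 := by
    rw [Finset.sum_congr rfl fun (q : Q.subgroupOf K) _ =>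
      hQ ((q : K) : G) (Subgroup.mem_subgroupOf.1 q.2)]
    simp [irr_one_ne_zero χ.2]
  have hexp := classFunction_expansion hcl
  rw [Finset.sum_congr rfl fun (q : Q.subgroupOf K) _ => congrFun hexp (q : K)] at hne
  simp only [Finset.sum_apply, Pi.smul_apply, smul_eq_mul] at hne
  rw [Finset.sum_comm] at hne
  obtain ⟨ψ, -, hψ⟩ := Finset.exists_ne_zero_of_sum_ne_zero hne
  rw [← Finset.mul_sum] at hψ
  exact ⟨ψ, left_ne_zero_of_mul hψ, fun q hq =>
    H86.trivial_of_sum_ne_zero (Q.subgroupOf K) ψ.2 (right_ne_zero_of_mul hψ) q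
      (Subgroup.mem_subgroupOf.2 hq)⟩

/-- The degree of a constituent trivial on `Q` attains the bound. -/
lemma degree_constituent (Q K : Subgroup G) [Q.Normal] [K.Normal] [Fintype K] (hQK : Q ≤ K)
    (χ : IrrCharacter G) (hdeg : (charDegree (χ : G → ℂ)).factorization p +
      (Nat.card Q).factorization p = (Nat.card G).factorization p)
    (ψ : IrrCharacter K) (hψ : classInner (fun k : K => (χ : G → ℂ) k) (ψ : K → ℂ) ≠ 0)
    (hψQ : ∀ q : K, (q : G) ∈ Q → (ψ : K → ℂ) q = (ψ : K → ℂ) 1) :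
    (charDegree (ψ : K → ℂ)).factorization p + (Nat.card Q).factorization p =
      (Nat.card K).factorization p := by
  haveI : (Q.subgroupOf K).Normal := Subgroup.Normal.subgroupOf ‹Q.Normal› K
  obtain ⟨hdvd, hq⟩ := H35.DegreeIndex.degree_quotient_dvd_index K χ.2 ψ.2 hψ _ _
    (apply_one_eq_charDegree χ) (apply_one_eq_charDegree ψ)
  have hq0 : charDegree (χ : G → ℂ) / charDegree (ψ : K → ℂ) ≠ 0 :=
    (Nat.div_pos (Nat.le_of_dvd (charDegree_pos χ) hdvd) (charDegree_pos ψ)).ne'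
  have h1 := (Nat.factorization_le_iff_dvd hq0 Subgroup.index_ne_zero_of_finite).2 hq p
  have h2 : (charDegree (χ : G → ℂ)).factorization p =
      (charDegree (χ : G → ℂ) / charDegree (ψ : K → ℂ)).factorization p +
        (charDegree (ψ : K → ℂ)).factorization p := by
    conv_lhs => rw [← Nat.div_mul_cancel hdvd,
      Nat.factorization_mul hq0 (charDegree_pos ψ).ne', Finsupp.add_apply]
  have h3 := (Nat.factorization_le_iff_dvd (charDegree_pos ψ).ne' Subgroup.index_ne_zero_of_finite).2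
    (H82.charDegree_dvd_index (Q.subgroupOf K) ψ.2 fun q hq => hψQ q (Subgroup.mem_subgroupOf.1 hq)) p
  have h4 := congrArg (fun n => n.factorization p) K.card_mul_index
  have h5 := congrArg (fun n => n.factorization p) (Q.subgroupOf K).card_mul_index
  simp only [Nat.factorization_mul Nat.card_pos.ne' Subgroup.index_ne_zero_of_finite,
    Finsupp.add_apply, Nat.card_congr (Subgroup.subgroupOfEquivOfLe hQK).toEquiv] at h4 h5
  omega

/-- A character of defect zero modulo `Q` lies over one of defect zero of `C` modulo `Q ∩ C`. -/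
theorem exists_constituent_degree (Q C : Subgroup G) [Q.Normal] [C.Normal] [Fintype C]
    (χ : IrrCharacter G) (hQ : ∀ q ∈ Q, (χ : G → ℂ) q = (χ : G → ℂ) 1)
    (hdeg : (charDegree (χ : G → ℂ)).factorization p + (Nat.card Q).factorization p =
      (Nat.card G).factorization p) :
    ∃ θ : IrrCharacter C, classInner (fun c : C => (χ : G → ℂ) c) (θ : C → ℂ) ≠ 0 ∧
      (charDegree (θ : C → ℂ)).factorization p + (Nat.card ↥(Q ⊓ C)).factorization p =
        (Nat.card C).factorization p := by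
  classical
  haveI : (Q ⊔ C).Normal := inferInstance
  haveI : Fintype ↥(Q ⊔ C) := Fintype.ofFinite _
  haveI : Fintype Q := Fintype.ofFinite _
  obtain ⟨ψ, hψ, hψQ⟩ := exists_trivial_constituent Q (Q ⊔ C) le_sup_left χ hQ
  have hψdeg := degree_constituent Q (Q ⊔ C) le_sup_left χ hdeg ψ hψ hψQ
  -- `ψ` is left invariant under `Q`
  obtain ⟨n, ρ, hρ, heq⟩ := ψ.2
  have hker : ∀ q : ↥(Q ⊔ C), (q : G) ∈ Q → ρ q = 1 := fun q hq => by
    rw [Module.End.one_eq_id]
    exact (CharBasic.character_eq_finrank_iff ρ q).mp (by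
      rw [heq, hψQ q hq, ← heq, Representation.char_one])
  let f : G → ℂ := fun g => if hg : g ∈ Q ⊔ C then (ψ : ↥(Q ⊔ C) → ℂ) ⟨g, hg⟩ else 0
  have hf : ∀ l : ↥(Q ⊔ C), f l = (ψ : ↥(Q ⊔ C) → ℂ) l := fun l => dif_pos l.2
  have hfinv : ∀ q ∈ Q, ∀ c, f (q * c) = f c := by
    intro q hq c
    by_cases hc : c ∈ Q ⊔ C
    · simp only [f, dif_pos hc, dif_pos (mul_mem (Subgroup.mem_sup_left hq : q ∈ Q ⊔ C) hc)]
      rw [← heq]
      show LinearMap.trace ℂ _ (ρ (⟨q, Subgroup.mem_sup_left hq⟩ * ⟨c, hc⟩)) = _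
      rw [map_mul, hker _ hq, one_mul]
      rfl
    · simp only [f, dif_neg hc]
      rw [dif_neg]
      intro h
      exact hc (by simpa using mul_mem (inv_mem (Subgroup.mem_sup_left hq : q ∈ Q ⊔ C)) h)
  have hcard : Nat.card Q * Nat.card C = Nat.card ↥(Q ⊓ C) * Nat.card ↥(Q ⊔ C) := by
    have h := sum_sup Q C (fun _ => (1 : ℂ)) (fun _ _ _ => rfl)
    simp only [Finset.sum_const, Finset.card_univ, nsmul_eq_mul, mul_one,
      ← Nat.card_eq_fintype_card] at h
    exact_mod_cast h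
  let g : C → ℂ := fun c => (ψ : ↥(Q ⊔ C) → ℂ) (Subgroup.inclusion le_sup_right c)
  have hgchar : IsCharacter C g := CharInduce.IsChar.comp (IsIrr.isCharacter ψ.2) _
  have hgcl := IsChar.isClassFunction hgchar
  have hnorm : classInner g g = 1 := by
    have h1 := sum_sup Q C (fun x => f x * conj (f x)) (fun q hq x => by rw [hfinv q hq x])
    have h2 := classInner_irr_self ψ.2
    rw [classInner_def, inv_mul_eq_iff_eq_mul₀ (Nat.cast_ne_zero.2 Nat.card_pos.ne'), mul_one] at h2
    simp only [hf, h2] at h1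
    rw [classInner_def, inv_mul_eq_iff_eq_mul₀ (Nat.cast_ne_zero.2 Nat.card_pos.ne'), mul_one]
    refine mul_left_cancel₀ (Nat.cast_ne_zero.2 (Nat.card_pos (α := Q)).ne' : (Nat.card Q : ℂ) ≠ 0) ?_
    have h3 : ∀ c : C, g c = f c := fun c => (hf (Subgroup.inclusion le_sup_right c)).symm
    simp only [h3, h1]
    exact_mod_cast hcard.symm
  choose a ha using fun φ : IrrCharacter C => classInner_isChar_nat hgchar (IsIrr.isCharacter φ.2)
  have hsq : ∑ φ : IrrCharacter C, a φ * a φ = 1 := by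
    have h := classInner_eq_sum (ψ := g) hgcl
    rw [hnorm] at h
    simp only [ha, Complex.conj_natCast] at h
    exact_mod_cast h.symm
  obtain ⟨θ, -, hθ⟩ := Finset.exists_ne_zero_of_sum_ne_zero
    (show ∑ φ : IrrCharacter C, a φ * a φ ≠ 0 by rw [hsq]; exact one_ne_zero)
  have hothers : ∀ φ, φ ≠ θ → a φ = 0 := by
    intro φ hne
    have h := Finset.sum_le_sum_of_subset (f := fun φ => a φ * a φ)
      (Finset.subset_univ ({φ, θ} : Finset (IrrCharacter C)))
    rw [Finset.sum_pair hne, hsq] at h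
    have : 0 < a θ * a θ := Nat.pos_of_ne_zero hθ
    exact mul_self_eq_zero.1 (by omega)
  have haθ : a θ = 1 := by
    rw [Finset.sum_eq_single θ (fun φ _ h => by rw [hothers φ h, mul_zero]) (by simp)] at hsq
    exact Nat.eq_one_of_mul_eq_one_right hsq
  have hgθ : g = (θ : C → ℂ) := by
    rw [classFunction_expansion hgcl, Finset.sum_eq_single θ]
    · rw [ha, haθ, Nat.cast_one, one_smul]
    · intro φ _ h; rw [ha, hothers φ h, Nat.cast_zero, zero_smul]
    · simp
  refine ⟨θ, ?_, ?_⟩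
  · -- `θ` lies below `χ`
    have hres : IsCharacter ↥(Q ⊔ C) (fun k : ↥(Q ⊔ C) => (χ : G → ℂ) k) :=
      CharInduce.IsChar.res (IsIrr.isCharacter χ.2) _
    obtain ⟨r, hr, hre⟩ := CharInduce.IsChar.exists_eq_add hres ψ.2 hψ
    have hrC : IsCharacter C (fun c : C => r (Subgroup.inclusion le_sup_right c)) :=
      CharInduce.IsChar.comp hr _
    obtain ⟨m, hm⟩ := classInner_isChar_nat hrC (IsIrr.isCharacter θ.2)
    rw [show (fun c : C => (χ : G → ℂ) c) = g + fun c : C => r (Subgroup.inclusion le_sup_right c) from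
      funext fun c => congrFun hre (Subgroup.inclusion le_sup_right c), classInner_add_left,
      hgθ, classInner_irr_self θ.2, hm]
    norm_cast
    omega
  · have hdθ : charDegree (θ : C → ℂ) = charDegree (ψ : ↥(Q ⊔ C) → ℂ) := by
      unfold charDegree
      rw [← hgθ]
      show ⌊((ψ : ↥(Q ⊔ C) → ℂ) (Subgroup.inclusion le_sup_right 1)).re⌋₊ = _
      rw [map_one]
    have h := congrArg (fun n => n.factorization p) hcard
    rw [Nat.factorization_mul Nat.card_pos.ne' Nat.card_pos.ne',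
      Nat.factorization_mul Nat.card_pos.ne' Nat.card_pos.ne', Finsupp.add_apply,
      Finsupp.add_apply] at h
    rw [hdθ]
    omega

/-- Defect zero modulo `Q` forces `Q` to be the largest normal `p`-subgroup. -/
theorem eq_of_normal_pGroup (Q K : Subgroup G) [Q.Normal] [K.Normal] [Fintype K] (hQK : Q ≤ K)
    (hK : IsPGroup p K) (χ : IrrCharacter G) (hQ : ∀ q ∈ Q, (χ : G → ℂ) q = (χ : G → ℂ) 1)
    (hdeg : (charDegree (χ : G → ℂ)).factorization p + (Nat.card Q).factorization p =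
      (Nat.card G).factorization p) : K = Q := by
  classical
  obtain ⟨ψ, hψ, hψQ⟩ := exists_trivial_constituent Q K hQK χ hQ
  have hd := degree_constituent Q K hQK χ hdeg ψ hψ hψQ
  obtain ⟨k, hk⟩ := IsPGroup.iff_card.1 hK
  obtain ⟨q, hq⟩ := IsPGroup.iff_card.1 (hK.to_le hQK)
  obtain ⟨j, -, hj⟩ := (Nat.dvd_prime_pow (Fact.out : p.Prime)).1 (hk ▸ charDegree_dvd ψ)
  simp only [hj, hk, hq, (Fact.out : p.Prime).factorization_pow, Finsupp.single_eq_same] at hd
  haveI : Fintype Q := Fintype.ofFinite _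
  -- the norm bounds the degree
  have hsum : ∑ x : K, Complex.normSq ((ψ : K → ℂ) x) = (Nat.card K : ℝ) := by
    have h1 := classInner_irr_self ψ.2
    rw [classInner_def, inv_mul_eq_iff_eq_mul₀ (Nat.cast_ne_zero.2 Nat.card_pos.ne'), mul_one] at h1
    simp only [Complex.mul_conj] at h1
    exact_mod_cast h1
  have hle : (Nat.card Q : ℝ) * (charDegree (ψ : K → ℂ) : ℝ) ^ 2 ≤ (Nat.card K : ℝ) := by
    rw [← hsum]
    refine le_trans (le_of_eq ?_) (Finset.sum_le_sum_of_subset_of_nonneg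
      (s := Finset.univ.map ⟨Subgroup.inclusion hQK, Subgroup.inclusion_injective hQK⟩)
      (Finset.subset_univ _) fun x _ _ => Complex.normSq_nonneg _)
    rw [Finset.sum_map]
    simp only [Function.Embedding.coeFn_mk]
    rw [Finset.sum_congr rfl fun (x : Q) _ =>
      congrArg Complex.normSq (hψQ (Subgroup.inclusion hQK x) x.2)]
    rw [Finset.sum_const, Finset.card_univ, nsmul_eq_mul, ← Nat.card_eq_fintype_card,
      apply_one_eq_charDegree, Complex.normSq_natCast, sq]
  have hle' : p ^ q * (p ^ j) ^ 2 ≤ p ^ k := by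
    rw [hk, hq, hj] at hle
    exact_mod_cast hle
  rw [← pow_mul, ← pow_add, Nat.pow_le_pow_iff_right (Fact.out : p.Prime).one_lt] at hle'
  refine (Subgroup.eq_of_le_of_card_ge hQK ?_).symm
  rw [hk, hq]
  exact Nat.pow_le_pow_right (Fact.out : p.Prime).pos (by omega)

end Cfsg.Agent.BlockBasic.Weight
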